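import Cfsg.Agent.Lib.Lev.Defs
import Mathlib.LinearAlgebra.Projection
import Mathlib.LinearAlgebra.Matrix.ToLin
import Mathlib.LinearAlgebra.Matrix.Basis
import Mathlib.LinearAlgebra.Matrix.Charpoly.Eigs
import Mathlib.RingTheory.Polynomial.Basic
import Mathlib.FieldTheory.IsAlgClosed.AlgebraicClosure
import Mathlib.FieldTheory.IsAlgClosed.Spectrum
import Mathlib.LinearAlgebra.Charpoly.ToMatrix

/-!
A matrix whose characteristic polynomial is a product of two coprime monic factors is conjugate, by
a matrix of determinant one, to the block diagonal matrix of the two kernels.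
-/

set_option autoImplicit false

namespace CfsgLib.Lev

open Matrix Polynomial

variable {F : Type*} [Field F]

/-- If `h` evaluated at `P` is invertible then `h` is prime to the characteristic polynomial. -/
theorem isCoprime_charpoly_of_isUnit {ι : Type*} [Fintype ι] [DecidableEq ι] {P : Matrix ι ι F}
    {h : F[X]} (hu : IsUnit (aeval P h)) : IsCoprime P.charpoly h := by
  by_contra hc
  obtain ⟨μ, h1, h2⟩ : ∃ μ : AlgebraicClosure F, aeval μ P.charpoly = 0 ∧ aeval μ h = 0 := by
    by_contra hne
    push Not at hne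
    exact hc ((Polynomial.isCoprime_iff_aeval_ne_zero_of_isAlgClosed F (AlgebraicClosure F) _ _).2
      fun μ => or_iff_not_imp_left.2 fun e => hne μ (not_not.1 e))
  let φ : Matrix ι ι F →ₐ[F] Matrix ι ι (AlgebraicClosure F) :=
    (Algebra.ofId F (AlgebraicClosure F)).mapMatrix
  have hspec : μ ∈ spectrum (AlgebraicClosure F) (φ P) := by
    rw [Matrix.mem_spectrum_iff_isRoot_charpoly]
    show IsRoot (P.map (algebraMap F (AlgebraicClosure F))).charpoly μ
    rw [Matrix.charpoly_map, IsRoot.def, eval_map_algebraMap]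
    exact h1
  have h3 := spectrum.subset_polynomial_aeval (φ P) (h.map (algebraMap F (AlgebraicClosure F)))
    ⟨μ, hspec, rfl⟩
  simp only [eval_map_algebraMap, h2, aeval_map_algebraMap, aeval_algHom_apply] at h3
  exact (spectrum.zero_notMem_iff _).2 (hu.map φ) h3

/-- Coprime factors of the characteristic polynomial give invariant complementary blocks. -/
theorem exists_coprime_split {n : ℕ} {x : Matrix (Fin n) (Fin n) F} {f h : Polynomial F}
    (hf : f.Monic) (hh : h.Monic) (hx : x.charpoly = f * h) (hc : IsCoprime f h) :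
    ∃ (e : Fin n ≃ Fin f.natDegree ⊕ Fin h.natDegree) (P : Matrix (Fin f.natDegree) (Fin f.natDegree) F)
      (R : Matrix (Fin h.natDegree) (Fin h.natDegree) F),
      P.charpoly = f ∧ R.charpoly = h ∧ Orb (reindexAlgEquiv F F e x) (fromBlocks P 0 0 R) := by
  classical
  set T : (Fin n → F) →ₗ[F] (Fin n → F) := Matrix.toLinAlgEquiv' x with hT
  set U := LinearMap.ker (aeval T f) with hU
  set W := LinearMap.ker (aeval T h) with hW
  have hann : aeval T (f * h) = 0 := by
    rw [← hx, hT, aeval_algHom_apply, aeval_self_charpoly, map_zero]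
  have hUW : IsCompl U W := by
    refine ⟨Polynomial.disjoint_ker_aeval_of_isCoprime T hc, codisjoint_iff.2 ?_⟩
    rw [hU, hW, Polynomial.sup_ker_aeval_eq_ker_aeval_mul_of_coprime T hc, hann, LinearMap.ker_zero]
  have inv : ∀ q : F[X], ∀ v ∈ LinearMap.ker (aeval T q), T v ∈ LinearMap.ker (aeval T q) := by
    intro q v hv
    rw [LinearMap.mem_ker] at hv ⊢
    have e := congrArg (fun r : F[X] => (aeval T r) v) (mul_comm q Polynomial.X)
    simp only [map_mul, aeval_X, Module.End.mul_apply] at e
    rw [e, hv, map_zero]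
  set TU : U →ₗ[F] U := T.restrict (inv f) with hTU
  set TW : W →ₗ[F] W := T.restrict (inv h) with hTW
  obtain ⟨a, ha⟩ : ∃ a, Module.finrank F U = a := ⟨_, rfl⟩
  obtain ⟨b, hb⟩ : ∃ b, Module.finrank F W = b := ⟨_, rfl⟩
  let bU : Module.Basis (Fin a) F U := Module.finBasisOfFinrankEq F U ha
  let bW : Module.Basis (Fin b) F W := Module.finBasisOfFinrankEq F W hb
  obtain ⟨P, hP⟩ : ∃ P, P = LinearMap.toMatrixAlgEquiv bU TU := ⟨_, rfl⟩
  obtain ⟨R, hR⟩ : ∃ R, R = LinearMap.toMatrixAlgEquiv bW TW := ⟨_, rfl⟩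
  -- the restrictions are killed by the factors
  have kill : ∀ (q : F[X]) (hq : ∀ v ∈ LinearMap.ker (aeval T q), T v ∈ LinearMap.ker (aeval T q)),
      aeval (T.restrict hq) q = 0 := by
    intro q hq
    have pow : ∀ (r : F[X]) (v : LinearMap.ker (aeval T q)),
        ((aeval (T.restrict hq) r) v : Fin n → F) = (aeval T r) v := by
      intro r
      induction r using Polynomial.induction_on' with
      | add r s hr hs => intro v; simp [hr, hs]
      | monomial k c =>
        intro v
        simp only [aeval_monomial, Algebra.algebraMap_eq_smul_one, smul_mul_assoc, one_mul,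
          LinearMap.smul_apply, SetLike.val_smul]
        congr 1
        induction k with
        | zero => rfl
        | succ k ih => rw [pow_succ', pow_succ', Module.End.mul_apply, Module.End.mul_apply, ← ih]; rfl
    exact LinearMap.ext fun v => Subtype.ext ((pow q v).trans v.2)
  have hPf : aeval P f = 0 := by rw [hP, aeval_algHom_apply, hTU, kill, map_zero]
  have hRh : aeval R h = 0 := by rw [hR, aeval_algHom_apply, hTW, kill, map_zero]
  -- the whole matrix in the adapted basis
  let B : Module.Basis (Fin a ⊕ Fin b) F (Fin n → F) :=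
    (bU.prod bW).map (Submodule.prodEquivOfIsCompl U W hUW)
  obtain ⟨M, hM⟩ : ∃ M, M = LinearMap.toMatrixAlgEquiv B T := ⟨_, rfl⟩
  have hblock : M = fromBlocks P 0 0 R := by
    have hsymm : ∀ v, (T v) = Submodule.prodEquivOfIsCompl U W hUW
        ((TU.prodMap TW) ((Submodule.prodEquivOfIsCompl U W hUW).symm v)) := by
      intro v
      obtain ⟨w, rfl⟩ := (Submodule.prodEquivOfIsCompl U W hUW).surjective v
      rw [LinearEquiv.symm_apply_apply, Submodule.coe_prodEquivOfIsCompl',
        Submodule.coe_prodEquivOfIsCompl', map_add]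
      rfl
    have hBsum : ∀ i, B i = Submodule.prodEquivOfIsCompl U W hUW (bU.prod bW i) := fun i =>
      Module.Basis.map_apply _ _ _
    rw [hM, hP, hR]
    ext i j
    rw [LinearMap.toMatrixAlgEquiv_apply, hBsum, hsymm, LinearEquiv.symm_apply_apply,
      Module.Basis.map_repr, LinearEquiv.trans_apply, LinearEquiv.symm_apply_apply]
    rcases i with i | i <;> rcases j with j | j <;>
      simp [LinearMap.toMatrixAlgEquiv_apply]
  have hchar : P.charpoly * R.charpoly = f * h := by
    rw [← charpoly_fromBlocks_zero₁₂ P 0 R, ← hblock, hM, LinearMap.toMatrixAlgEquiv,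
      ← hx]
    show (LinearMap.toMatrix B B T).charpoly = x.charpoly
    rw [LinearMap.charpoly_toMatrix, hT]
    exact Matrix.charpoly_toLin' x
  have cop : ∀ {m : ℕ} (Q : Matrix (Fin m) (Fin m) F) (q r : F[X]), aeval Q q = 0 → IsCoprime q r →
      IsCoprime Q.charpoly r := by
    intro m Q q r hQ hqr
    obtain ⟨u, v, huv⟩ := hqr
    refine isCoprime_charpoly_of_isUnit ?_
    have e := congrArg (aeval Q) huv
    rw [map_add, map_mul, map_mul, hQ, mul_zero, zero_add, map_one] at e
    exact IsUnit.of_mul_eq_one_right _ e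
  have h1 : P.charpoly = f := by
    refine eq_of_monic_of_associated (charpoly_monic P) hf (associated_of_dvd_dvd ?_ ?_)
    · exact (cop P f h hPf hc).dvd_of_dvd_mul_right ⟨R.charpoly, hchar.symm⟩
    · exact (cop R h f hRh hc.symm).symm.dvd_of_dvd_mul_right ⟨h, hchar⟩
  have h2 : R.charpoly = h := mul_left_cancel₀ hf.ne_zero (by rw [← hchar, h1])
  have hae : a = f.natDegree := by rw [← h1, charpoly_natDegree_eq_dim, Fintype.card_fin]
  have hbe : b = h.natDegree := by rw [← h2, charpoly_natDegree_eq_dim, Fintype.card_fin]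
  subst hae hbe
  let e₀ : Fin n ≃ Fin f.natDegree ⊕ Fin h.natDegree :=
    (Pi.basisFun F (Fin n)).indexEquiv B
  obtain ⟨K, hK⟩ : ∃ K, K = ((Pi.basisFun F (Fin n)).reindex e₀).toMatrix B := ⟨_, rfl⟩
  let E := (Pi.basisFun F (Fin n)).reindex e₀
  have hx' : LinearMap.toMatrix E E T = reindexAlgEquiv F F e₀ x := by
    ext i j
    simp [E, hT, LinearMap.toMatrix_apply, Matrix.toLinAlgEquiv'_apply, mulVec_single_one]
  have hKM : reindexAlgEquiv F F e₀ x * K = K * fromBlocks P 0 0 R := by
    rw [hK, ← hblock, hM, ← hx']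
    show LinearMap.toMatrix E E T * E.toMatrix B = E.toMatrix B * LinearMap.toMatrix B B T
    rw [linearMap_toMatrix_mul_basis_toMatrix, basis_toMatrix_mul_linearMap_toMatrix]
  have hKd : K.det ≠ 0 := by
    rw [hK]
    letI := E.invertibleToMatrix B
    exact (isUnit_det_of_invertible _).ne_zero
  -- scale a basis vector to reach determinant one
  obtain ⟨c₁, c₂, hc1, hc2, hcK⟩ : ∃ (c₁ : Fin f.natDegree → F) (c₂ : Fin h.natDegree → F),
      (∀ i, c₁ i ≠ 0) ∧ (∀ i, c₂ i ≠ 0) ∧ (∏ i, c₁ i) * ∏ i, c₂ i = K.det := by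
    rcases Nat.eq_zero_or_pos f.natDegree with hf0 | hf0
    · rcases Nat.eq_zero_or_pos h.natDegree with hh0 | hh0
      · have : IsEmpty (Fin f.natDegree ⊕ Fin h.natDegree) := by
          rw [isEmpty_sum, hf0, hh0]
          exact ⟨inferInstance, inferInstance⟩
        refine ⟨fun _ => 1, fun _ => 1, fun _ => one_ne_zero, fun _ => one_ne_zero, ?_⟩
        rw [Matrix.det_isEmpty]
        simp
      · refine ⟨fun _ => 1, Function.update 1 ⟨0, hh0⟩ K.det, fun _ => one_ne_zero, fun i => ?_, ?_⟩
        · rw [Function.update_apply]; split <;> simp [hKd]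
        · simp [Finset.prod_update_of_mem]
    · refine ⟨Function.update 1 ⟨0, hf0⟩ K.det, fun _ => 1, fun i => ?_, fun _ => one_ne_zero, ?_⟩
      · rw [Function.update_apply]; split <;> simp [hKd]
      · simp [Finset.prod_update_of_mem]
  have hconj : ∀ {m : ℕ} (c : Fin m → F) (Q : Matrix (Fin m) (Fin m) F), (∀ i, c i ≠ 0) →
      diagonal c * Q = (diagonal c * Q * diagonal fun i => (c i)⁻¹) * diagonal c ∧
        (diagonal c * Q * diagonal fun i => (c i)⁻¹).charpoly = Q.charpoly := by
    intro m c Q hc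
    have e1 : (diagonal fun i => (c i)⁻¹) * diagonal c = 1 := by
      rw [diagonal_mul_diagonal, ← diagonal_one]; congr 1; funext i; exact inv_mul_cancel₀ (hc i)
    have e2 : diagonal c * (diagonal fun i => (c i)⁻¹) = 1 := by
      rw [diagonal_mul_diagonal, ← diagonal_one]; congr 1; funext i; exact mul_inv_cancel₀ (hc i)
    refine ⟨by rw [Matrix.mul_assoc, e1, Matrix.mul_one], ?_⟩
    have h3 := charpoly_units_conj ⟨diagonal c, diagonal fun i => (c i)⁻¹, e2, e1⟩ Q
    simp only [inv_eq_right_inv e2] at h3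
    exact h3
  obtain ⟨eP, cP⟩ := hconj c₁ P hc1
  obtain ⟨eR, cR⟩ := hconj c₂ R hc2
  refine ⟨e₀, _, _, cP.trans h1, cR.trans h2, fromBlocks (diagonal c₁) 0 0 (diagonal c₂) * K⁻¹, ?_, ?_⟩
  · rw [det_mul, det_fromBlocks_zero₁₂, det_diagonal, det_diagonal, hcK, det_nonsing_inv,
      Ring.inverse_eq_inv', mul_inv_cancel₀ hKd]
  · have hKu : IsUnit K.det := isUnit_iff_ne_zero.2 hKd
    have e : K⁻¹ * reindexAlgEquiv F F e₀ x = fromBlocks P 0 0 R * K⁻¹ := by
      calc K⁻¹ * reindexAlgEquiv F F e₀ x
          = K⁻¹ * (reindexAlgEquiv F F e₀ x * K) * K⁻¹ := by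
            rw [Matrix.mul_assoc, Matrix.mul_assoc (reindexAlgEquiv F F e₀ x), mul_nonsing_inv _ hKu,
              Matrix.mul_one]
        _ = fromBlocks P 0 0 R * K⁻¹ := by
            rw [hKM, ← Matrix.mul_assoc, nonsing_inv_mul _ hKu, Matrix.one_mul]
    rw [Matrix.mul_assoc, e, ← Matrix.mul_assoc, ← Matrix.mul_assoc]
    congr 1
    rw [fromBlocks_multiply, fromBlocks_multiply]
    simp only [Matrix.mul_zero, Matrix.zero_mul, add_zero, zero_add, ← eP, ← eR]

end CfsgLib.Lev
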