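import Mathlib.LinearAlgebra.Matrix.Charpoly.Basic
import Mathlib.LinearAlgebra.Matrix.NonsingularInverse
import Mathlib.LinearAlgebra.Matrix.Trace
import Mathlib.Algebra.Polynomial.Splits
import Mathlib.Data.List.Forall2

/-!
Covering number of `PSL n q` (Lev): shared definitions.

Classes are orbits of matrices under conjugation by determinant one matrices.
-/

set_option autoImplicit false

namespace CfsgLib.Lev

open Matrix

variable {F : Type*} [Field F] {ι : Type*} [Fintype ι] [DecidableEq ι]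

/-- `y` is a conjugate of `x` by a matrix of determinant one. -/
def Orb (x y : Matrix ι ι F) : Prop := ∃ h : Matrix ι ι F, h.det = 1 ∧ h * x = y * h

/-- `g` is a product of conjugates of the members of `l`, in this order. -/
def InProd (l : List (Matrix ι ι F)) (g : Matrix ι ι F) : Prop :=
  ∃ y : List (Matrix ι ι F), List.Forall₂ Orb l y ∧ y.prod = g

/-- The members of `l` have a common eigenvector. -/
def CommonEig (l : List (Matrix ι ι F)) : Prop :=
  ∃ w : ι → F, w ≠ 0 ∧ ∀ y ∈ l, ∃ c : F, y *ᵥ w = c • w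

/-- `g` is a product of conjugates of the members of `l` without common eigenvector. -/
def Good (l : List (Matrix ι ι F)) (g : Matrix ι ι F) : Prop :=
  ∃ y : List (Matrix ι ι F), List.Forall₂ Orb l y ∧ y.prod = g ∧ ¬ CommonEig y

/-- Scalar matrix. -/
def IsScalarMat (x : Matrix ι ι F) : Prop := ∃ c : F, x = c • 1

/-- Scalar plus a matrix of rank at most one. -/
def RankOne (x : Matrix ι ι F) : Prop := ∃ (c : F) (a b : ι → F), x = c • 1 + Matrix.vecMulVec a b

/-- No eigenvalue in `F`. -/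
def NoEigen (x : Matrix ι ι F) : Prop := ∀ c : F, (x - c • 1).det ≠ 0

/-- All eigenvalues in `F`. -/
def SplitMat (x : Matrix ι ι F) : Prop := x.charpoly.Splits

/-- The specification of the irreducible case. -/
def IrredSpec (F : Type*) [Field F] : Prop :=
  ∀ (n : ℕ) (x : Matrix (Fin n) (Fin n) F), 2 ≤ n → Irreducible x.charpoly →
    ∀ (m : ℕ) (g : Matrix (Fin n) (Fin n) F), g.det = x.det ^ m →
      ((¬ IsScalarMat g ∧ n ≤ m ∧ (n = 2 → m = 2 → g.trace ^ 2 ≠ 4 * g.det)) ∨ n < m ∨ (n = 3 ∧ m = 3 ∧ g = 1 ∧ x.det = 1)) →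
      InProd (List.replicate m x) g

/-- The specification of the case without eigenvalue. -/
def NoEigenSpec (F : Type*) [Field F] : Prop :=
  ∀ (n : ℕ) (x : Matrix (Fin n) (Fin n) F), 2 ≤ n → NoEigen x →
    ∀ (m : ℕ) (g : Matrix (Fin n) (Fin n) F), g.det = x.det ^ m →
      ((¬ IsScalarMat g ∧ n ≤ m ∧ (n = 2 → m = 2 → g.trace ^ 2 ≠ 4 * g.det)) ∨ n < m ∨ (3 ≤ n ∧ m = n ∧ g = 1 ∧ x.det = 1)) →
      InProd (List.replicate m x) g

theorem Good.inProd {l : List (Matrix ι ι F)} {g : Matrix ι ι F} (h : Good l g) : InProd l g :=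
  let ⟨y, h1, h2, _⟩ := h; ⟨y, h1, h2⟩

theorem Orb.refl (x : Matrix ι ι F) : Orb x x := ⟨1, det_one, by rw [one_mul, mul_one]⟩

theorem Orb.trans {x y z : Matrix ι ι F} (h1 : Orb x y) (h2 : Orb y z) : Orb x z := by
  obtain ⟨h, hd, he⟩ := h1
  obtain ⟨k, kd, ke⟩ := h2
  exact ⟨k * h, by rw [det_mul, hd, kd, one_mul],
    by rw [mul_assoc, he, ← mul_assoc, ke, mul_assoc]⟩

theorem Orb.det_eq {x y : Matrix ι ι F} (h1 : Orb x y) : y.det = x.det := by
  obtain ⟨h, hd, he⟩ := h1
  have := congrArg Matrix.det he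
  rw [det_mul, det_mul, hd, one_mul, mul_one] at this
  exact this.symm

theorem Orb.symm {x y : Matrix ι ι F} (h1 : Orb x y) : Orb y x := by
  obtain ⟨h, hd, he⟩ := h1
  have hu : IsUnit h.det := by rw [hd]; exact isUnit_one
  refine ⟨h⁻¹, by rw [det_nonsing_inv, hd, Ring.inverse_one], ?_⟩
  calc h⁻¹ * y = h⁻¹ * (y * h) * h⁻¹ := by
        rw [← mul_assoc h⁻¹ y h, mul_assoc (h⁻¹ * y), mul_nonsing_inv _ hu, mul_one]
    _ = x * h⁻¹ := by rw [← he, ← mul_assoc, nonsing_inv_mul _ hu, one_mul]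

/-- Simultaneous conjugation of the product. -/
theorem InProd.conj {l : List (Matrix ι ι F)} {g g' : Matrix ι ι F} (h : InProd l g)
    (hg : Orb g g') : InProd l g' := by
  obtain ⟨k, kd, ke⟩ := hg
  have hu : IsUnit k.det := by rw [kd]; exact isUnit_one
  obtain ⟨y, h1, h2⟩ := h
  refine ⟨y.map fun a => k * a * k⁻¹, ?_, ?_⟩
  · rw [List.forall₂_map_right_iff]
    refine h1.imp fun a b hab => hab.trans ⟨k, kd, ?_⟩
    rw [mul_assoc (k * b), nonsing_inv_mul _ hu, mul_one]
  · have key : ∀ y : List (Matrix ι ι F),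
        (y.map fun a => k * a * k⁻¹).prod = k * y.prod * k⁻¹ := by
      intro y
      induction y with
      | nil => rw [List.map_nil, List.prod_nil, mul_one, mul_nonsing_inv _ hu]
      | cons a t ih =>
        rw [List.map_cons, List.prod_cons, List.prod_cons, ih,
          mul_assoc (k * a), ← mul_assoc k⁻¹ (k * t.prod), ← mul_assoc k⁻¹ k,
          nonsing_inv_mul _ hu, one_mul]
        simp only [mul_assoc]
    rw [key, h2, ke, mul_assoc, mul_nonsing_inv _ hu, mul_one]

theorem Good.conj {l : List (Matrix ι ι F)} {g g' : Matrix ι ι F} (h : Good l g)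
    (hg : Orb g g') : Good l g' := by
  obtain ⟨k, kd, ke⟩ := hg
  have hu : IsUnit k.det := by rw [kd]; exact isUnit_one
  obtain ⟨y, h1, h2, h3⟩ := h
  refine ⟨y.map fun a => k * a * k⁻¹, ?_, ?_, ?_⟩
  · rw [List.forall₂_map_right_iff]
    refine h1.imp fun a b hab => hab.trans ⟨k, kd, ?_⟩
    rw [mul_assoc (k * b), nonsing_inv_mul _ hu, mul_one]
  · have key : ∀ y : List (Matrix ι ι F),
        (y.map fun a => k * a * k⁻¹).prod = k * y.prod * k⁻¹ := by
      intro y
      induction y with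
      | nil => rw [List.map_nil, List.prod_nil, mul_one, mul_nonsing_inv _ hu]
      | cons a t ih =>
        rw [List.map_cons, List.prod_cons, List.prod_cons, ih,
          mul_assoc (k * a), ← mul_assoc k⁻¹ (k * t.prod), ← mul_assoc k⁻¹ k,
          nonsing_inv_mul _ hu, one_mul]
        simp only [mul_assoc]
    rw [key, h2, ke, mul_assoc, mul_nonsing_inv _ hu, mul_one]
  · rintro ⟨w, hw, he⟩
    refine h3 ⟨k⁻¹ *ᵥ w, fun h0 => hw ?_, fun a ha => ?_⟩
    · have := congrArg (k *ᵥ ·) h0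
      simpa [mulVec_mulVec, mul_nonsing_inv _ hu] using this
    · obtain ⟨c, hc⟩ := he _ (List.mem_map.2 ⟨a, ha, rfl⟩)
      refine ⟨c, ?_⟩
      have := congrArg (k⁻¹ *ᵥ ·) hc
      simp only [mulVec_mulVec, mulVec_smul] at this
      rw [mulVec_mulVec, ← this]
      congr 1
      rw [← mul_assoc, ← mul_assoc, nonsing_inv_mul _ hu, one_mul]

theorem IsScalarMat.of_orb {x y : Matrix ι ι F} (hs : IsScalarMat x) (h : Orb x y) :
    IsScalarMat y := by
  obtain ⟨c, rfl⟩ := hs
  obtain ⟨k, kd, ke⟩ := h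
  have hu : IsUnit k.det := by rw [kd]; exact isUnit_one
  refine ⟨c, ?_⟩
  calc y = y * k * k⁻¹ := by rw [mul_assoc, mul_nonsing_inv _ hu, mul_one]
    _ = c • 1 := by rw [← ke, Matrix.mul_smul, mul_one, Matrix.smul_mul, mul_nonsing_inv _ hu]

variable {κ : Type*} [Fintype κ] [DecidableEq κ]

theorem Orb.reindex {x y : Matrix ι ι F} (h : Orb x y) (e : ι ≃ κ) :
    Orb (Matrix.reindexAlgEquiv F F e x) (Matrix.reindexAlgEquiv F F e y) := by
  obtain ⟨k, kd, ke⟩ := h
  exact ⟨Matrix.reindexAlgEquiv F F e k, by rw [Matrix.det_reindexAlgEquiv, kd],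
    by rw [← map_mul, ke, map_mul]⟩

theorem InProd.reindex {l : List (Matrix ι ι F)} {g : Matrix ι ι F} (h : InProd l g) (e : ι ≃ κ) :
    InProd (l.map (Matrix.reindexAlgEquiv F F e)) (Matrix.reindexAlgEquiv F F e g) := by
  obtain ⟨y, h1, h2⟩ := h
  refine ⟨y.map (Matrix.reindexAlgEquiv F F e), ?_, ?_⟩
  · rw [List.forall₂_map_left_iff, List.forall₂_map_right_iff]
    exact h1.imp fun a b hab => hab.reindex e
  · rw [← map_list_prod, h2]

end CfsgLib.Lev
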