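import Cfsg.Agent.Lib.Lev.EigenLift
import Mathlib.FieldTheory.Finite.Basic
import Mathlib.LinearAlgebra.Matrix.Charpoly.Coeff
import Mathlib.Tactic

/-!
The eigenline induction in dimensions three and four (Lev): split classes.
-/

set_option autoImplicit false
set_option linter.unusedSectionVars false
set_option maxHeartbeats 1000000

namespace CfsgLib.Lev.EigenBase

open Matrix

variable {F : Type*} [Field F] {n k : ℕ}

/-- `u, x u, x² u` are independent. -/
def Cyc (x : Matrix (Fin n) (Fin n) F) (u : Fin n → F) : Prop :=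
  ∀ a b c : F, a • u + b • (x *ᵥ u) + c • (x *ᵥ (x *ᵥ u)) = 0 → a = 0 ∧ b = 0 ∧ c = 0

theorem Cyc.indep {x : Matrix (Fin n) (Fin n) F} {u : Fin n → F} (h : Cyc x u) :
    LinearIndependent F ![u, x *ᵥ u] := by
  rw [LinearIndependent.pair_iff]
  intro s t hst
  obtain ⟨h1, h2, -⟩ := h s t 0 (by rw [zero_smul, add_zero]; exact hst)
  exact ⟨h1, h2⟩

theorem exists_indep {x : Matrix (Fin n) (Fin n) F} (hx : ¬ IsScalarMat x) :
    ∃ u : Fin n → F, LinearIndependent F ![u, x *ᵥ u] := by
  classical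
  by_contra hcon
  push Not at hcon
  have hev : ∀ u : Fin n → F, u ≠ 0 → ∃ c : F, x *ᵥ u = c • u := by
    intro u hu
    by_contra h
    push Not at h
    refine hcon u ((LinearIndependent.pair_iff' hu).2 fun a => (h a).symm)
  rcases Nat.eq_zero_or_pos n with rfl | hn
  · exact hx ⟨0, by ext i; exact i.elim0⟩
  choose c hc using fun i : Fin n => hev (Pi.single i 1) (by simp)
  obtain ⟨d, hd⟩ := hev (fun _ => 1) (fun h => one_ne_zero (congrFun h ⟨0, hn⟩))
  have hent : ∀ i j, x i j = if i = j then c j else 0 := by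
    intro i j
    have := congrFun (hc j) i
    rw [mulVec_single_one] at this
    rw [Matrix.col_apply] at this
    rw [this]
    by_cases hij : i = j
    · simp [hij]
    · simp [hij, Pi.single_eq_of_ne hij]
  refine hx ⟨d, ?_⟩
  ext i j
  have := congrFun hd i
  simp [mulVec, dotProduct, hent] at this
  rw [hent, Matrix.smul_apply, one_apply]
  by_cases hij : i = j
  · subst hij; simp [this]
  · simp [hij]

/-- The normal form at a vector. -/
theorem exists_normal {x : Matrix (Fin (k + 3)) (Fin (k + 3)) F} {u : Fin (k + 3) → F}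
    (hu : LinearIndependent F ![u, x *ᵥ u]) {s : F} (hs : s ≠ 0) :
    ∃ y, Orb x y ∧ y 1 0 = s ∧ (∀ i, i ≠ 1 → y i 0 = 0) ∧ (Cyc x u → Cyc y (Pi.single 0 1)) := by
  have hv : LinearIndependent F ![u, s⁻¹ • (x *ᵥ u)] := by
    rw [LinearIndependent.pair_iff] at hu ⊢
    intro a b hab
    obtain ⟨h1, h2⟩ := hu a (b * s⁻¹) (by rw [← smul_smul]; exact hab)
    exact ⟨h1, by simpa [hs] using h2⟩
  obtain ⟨K, hK, hcol⟩ := exists_det_one (n := k + 3) (m := 2) (by omega) hv
  have hKu : IsUnit K.det := det_ne_zero_of_eq hK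
  have h0 : K *ᵥ Pi.single 0 1 = u := by
    rw [mulVec_single_one]
    exact funext fun i => hcol i 0
  have h1 : K *ᵥ Pi.single 1 1 = s⁻¹ • (x *ᵥ u) := by
    rw [mulVec_single_one]
    exact funext fun i => hcol i 1
  set y := K⁻¹ * x * K with hy
  have hyK : ∀ v, K *ᵥ (y *ᵥ v) = x *ᵥ (K *ᵥ v) := fun v => by
    rw [hy, mulVec_mulVec, mulVec_mulVec, ← mul_assoc, ← mul_assoc, mul_nonsing_inv _ hKu, one_mul]
  have hy0 : y *ᵥ Pi.single 0 1 = s • Pi.single 1 1 := by
    apply mulVec_injective_iff_isUnit.2 ((Matrix.isUnit_iff_isUnit_det K).2 hKu)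
    rw [hyK, h0, mulVec_smul, h1, smul_smul, mul_inv_cancel₀ hs, one_smul]
  rw [mulVec_single_one] at hy0
  refine ⟨y, orb_conj hK, ?_, fun i hi => ?_, fun hc a b c habc => ?_⟩
  · simpa using congrFun hy0 1
  · simpa [Pi.single_eq_of_ne hi] using congrFun hy0 i
  · apply hc a b c
    have := congrArg (K *ᵥ ·) habc
    simp only [mulVec_add, mulVec_smul, mulVec_zero, hyK, h0] at this
    exact this

/-- Every nonscalar split class has an eigenline with nonscalar quotient. -/
theorem exists_low {x : Matrix (Fin (k + 3)) (Fin (k + 3)) F} (hs : SplitMat x)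
    (hx : ¬ IsScalarMat x) (hd : x.det ≠ 0) :
    ∃ (lam : F) (A : Matrix (Fin (k + 2)) (Fin (k + 2)) F), Low x (lam, A) ∧ SplitMat A ∧
      ¬ IsScalarMat A ∧ A.det ≠ 0 ∧ x.det = lam * A.det := by
  classical
  have hline : ∀ (z : Matrix (Fin (k + 3)) (Fin (k + 3)) F) (w : Fin (k + 3) → F) (lam : F),
      w ≠ 0 → z *ᵥ w = lam • w → ∃ y K : Matrix (Fin (k + 3)) (Fin (k + 3)) F,
        K.det = 1 ∧ y = K⁻¹ * z * K ∧ K *ᵥ Pi.single 0 1 = w ∧
          y = up lam (fun j => y 0 j.succ) (y.submatrix Fin.succ Fin.succ) := by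
    intro z w lam hw hz
    obtain ⟨K, hK, hcol⟩ := exists_det_one (n := k + 3) (m := 1) (v := fun _ : Fin 1 => w)
      (by omega) (LinearIndependent.of_subsingleton 0 hw)
    have hKu : IsUnit K.det := det_ne_zero_of_eq hK
    have h0 : K *ᵥ Pi.single 0 1 = w := by
      rw [mulVec_single_one]
      exact funext fun i => hcol i 0
    have hy : (K⁻¹ * z * K) *ᵥ Pi.single 0 1 = lam • Pi.single 0 1 := by
      rw [← mulVec_mulVec, h0, ← mulVec_mulVec, hz, mulVec_smul, ← h0, mulVec_mulVec,
        nonsing_inv_mul _ hKu, one_mulVec]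
    rw [mulVec_single_one] at hy
    refine ⟨_, K, hK, rfl, h0, ?_⟩
    have e : (K⁻¹ * z * K) 0 0 = lam := by simpa using congrFun hy 0
    conv_lhs => rw [eq_up (K⁻¹ * z * K) fun i => by
      simpa [Pi.single_eq_of_ne (Fin.succ_ne_zero i)] using congrFun hy i.succ]
    rw [e]
  obtain ⟨lam, hlam⟩ := Polynomial.Splits.exists_eval_eq_zero hs (by
    rw [Matrix.charpoly_degree_eq_dim, Fintype.card_fin]
    exact_mod_cast (show k + 3 ≠ 0 by omega))
  rw [Matrix.eval_charpoly] at hlam
  obtain ⟨w, hw, hw'⟩ := Matrix.exists_mulVec_eq_zero_iff.2 hlam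
  have hxw : x *ᵥ w = lam • w := by
    rw [Matrix.sub_mulVec, sub_eq_zero, Matrix.scalar_apply, ← Matrix.smul_one_eq_diagonal,
      smul_mulVec, one_mulVec] at hw'
    exact hw'.symm
  obtain ⟨y, K, hK, hyx, -, hyup⟩ := hline x w lam hw hxw
  have hxy : Orb x y := hyx ▸ orb_conj hK
  -- find a line with nonscalar quotient
  obtain ⟨mu, w2, hw2, hyw2, hns⟩ : ∃ (mu : F) (w2 : Fin (k + 3) → F), w2 ≠ 0 ∧
      y *ᵥ w2 = mu • w2 ∧ ∀ (K' : Matrix (Fin (k + 3)) (Fin (k + 3)) F), K'.det = 1 →
        K' *ᵥ Pi.single 0 1 = w2 → ¬ IsScalarMat ((K'⁻¹ * y * K').submatrix Fin.succ Fin.succ) := by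
    by_cases hsc : ∃ c : F, ∀ i j : Fin (k + 2), y i.succ j.succ = if i = j then c else 0
    swap
    · refine ⟨lam, Pi.single 0 1, by simp, ?_, ?_⟩
      · rw [mulVec_single_one]
        funext i
        induction i using Fin.cases with
        | zero => rw [hyup]; simp [up]
        | succ i => rw [hyup]; simp [up]
      · intro K' hK' h0 hsm
        obtain ⟨c, hc⟩ := hsm
        refine hsc ⟨c, fun i j => ?_⟩
        have hKu := det_ne_zero_of_eq hK'
        rw [mulVec_single_one] at h0
        have hK0 : ∀ i : Fin (k + 2), K' i.succ 0 = 0 := fun i => by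
          simpa [Pi.single_eq_of_ne (Fin.succ_ne_zero i)] using congrFun h0 i.succ
        have hy0 : ∀ i : Fin (k + 2), y i.succ 0 = 0 := fun i => by
          rw [hyup]; simp [up]
        have he : K' * (K'⁻¹ * y * K') = y * K' := by
          rw [← mul_assoc, ← mul_assoc, mul_nonsing_inv _ hKu, one_mul]
        have hsub : ∀ a b : Matrix (Fin (k + 3)) (Fin (k + 3)) F,
            (∀ i : Fin (k + 2), a i.succ 0 = 0) →
            (a * b).submatrix Fin.succ Fin.succ =
              a.submatrix Fin.succ Fin.succ * b.submatrix Fin.succ Fin.succ := by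
          intro a b ha
          ext i j
          simp [Matrix.mul_apply, Fin.sum_univ_succ, ha]
        have hq : (K'.submatrix Fin.succ Fin.succ).det ≠ 0 := by
          intro h
          have := congrArg Matrix.det (eq_up K' hK0)
          rw [hK', det_up, h, mul_zero] at this
          exact one_ne_zero this
        have := congrArg (fun M => M.submatrix Fin.succ Fin.succ) he
        rw [hsub _ _ hK0, hsub _ _ hy0, hc, Matrix.mul_smul, mul_one] at this
        have h3 := congrArg (· * (K'.submatrix Fin.succ Fin.succ)⁻¹) this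
        simp only [mul_assoc, Matrix.smul_mul, mul_nonsing_inv _ hq.isUnit, mul_one] at h3
        have := congrFun (congrFun h3 i) j
        simp [Matrix.one_apply] at this
        rw [← this]
    · obtain ⟨c, hc⟩ := hsc
      have hy0 : ∀ i : Fin (k + 2), y i.succ 0 = 0 := fun i => by rw [hyup]; simp [up]
      set r : Fin (k + 3) → F := fun j => y 0 j - if j = 0 then c else 0 with hr
      have hyc : ∀ v, y *ᵥ v = c • v + (r ⬝ᵥ v) • Pi.single 0 1 := by
        intro v
        funext i
        induction i using Fin.cases with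
        | zero =>
          simp [mulVec, dotProduct, hr, sub_mul, Finset.sum_sub_distrib]
        | succ i =>
          simp [mulVec, dotProduct, Fin.sum_univ_succ, hy0, hc, Fin.succ_ne_zero]
      -- a second eigenline of the eigenvalue `c`
      obtain ⟨i1, i2, hne10, hi1, hi2⟩ :
          ∃ i1 i2 : Fin (k + 3), i2 ≠ i1 ∧ i1 ≠ 0 ∧ i2 ≠ 0 :=
        ⟨Fin.succ 0, Fin.succ 1, fun h => absurd (Fin.succ_injective _ h) (by simp),
          Fin.succ_ne_zero _, Fin.succ_ne_zero _⟩
      let v1 : Fin (k + 3) → F :=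
        if r i1 = 0 then Pi.single i1 1
        else r i2 • Pi.single i1 1 - r i1 • Pi.single i2 1
      have hrv : r ⬝ᵥ v1 = 0 := by
        simp only [v1]
        split_ifs with h
        · simp [h]
        · simp [dotProduct_sub, dotProduct_smul, mul_comm]
      have hv0 : v1 0 = 0 := by
        simp only [v1]
        split_ifs <;> simp [Pi.single_eq_of_ne hi1.symm, Pi.single_eq_of_ne hi2.symm]
      have hv1 : v1 ≠ 0 := by
        intro h
        simp only [v1] at h
        split_ifs at h with h'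
        · simpa using congrFun h i1
        · have := congrFun h i2
          simp [h', Pi.single_eq_of_ne hne10] at this
      refine ⟨c, v1, hv1, by rw [hyc, hrv, zero_smul, add_zero], ?_⟩
      intro K' hK' h0 hsm
      obtain ⟨c', hc'⟩ := hsm
      have hKu := det_ne_zero_of_eq hK'
      set y' := K'⁻¹ * y * K' with hy'
      have key : ∀ v, ∃ t : F, y *ᵥ v - c' • v = t • v1 := by
        intro v
        set z := K'⁻¹ *ᵥ v
        have hz : v = K' *ᵥ z := by
          rw [mulVec_mulVec, mul_nonsing_inv _ hKu, one_mulVec]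
        have hys : ∃ t : F, y' *ᵥ z - c' • z = t • Pi.single 0 1 := by
          refine ⟨(y' *ᵥ z - c' • z) 0, ?_⟩
          funext i
          induction i using Fin.cases with
          | zero => simp
          | succ i =>
            have h1 : y' i.succ 0 = 0 := by
              have : y' *ᵥ Pi.single 0 1 = c • Pi.single 0 1 := by
                rw [hy', ← mulVec_mulVec, h0, ← mulVec_mulVec, hyc, hrv, zero_smul, add_zero,
                  mulVec_smul, ← h0, mulVec_mulVec, nonsing_inv_mul _ hKu, one_mulVec]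
              rw [mulVec_single_one] at this
              simpa [Pi.single_eq_of_ne (Fin.succ_ne_zero i)] using congrFun this i.succ
            have h2 : ∀ j : Fin (k + 2), y' i.succ j.succ = if i = j then c' else 0 := fun j => by
              have := congrFun (congrFun hc' i) j
              simpa [Matrix.one_apply] using this
            simp [mulVec, dotProduct, Fin.sum_univ_succ, h1, h2, Fin.succ_ne_zero]
        obtain ⟨t, ht⟩ := hys
        refine ⟨t, ?_⟩
        have := congrArg (K' *ᵥ ·) ht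
        rw [hy'] at this
        simp only [mulVec_sub, mulVec_smul, h0] at this
        rw [← hz, mulVec_mulVec, ← mul_assoc, ← mul_assoc, mul_nonsing_inv _ hKu, one_mul,
          ← mulVec_mulVec, ← hz] at this
        exact this
      -- compare the two rank one decompositions
      have hcc : c = c' := by
        by_contra hne
        obtain ⟨z, hz0, hz1⟩ : ∃ z : Fin (k + 3) → F, z 0 = 0 ∧ ∀ t : F, z ≠ t • v1 := by
          by_cases h : ∃ t : F, Pi.single i1 1 = t • v1
          · obtain ⟨t, ht⟩ := h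
            refine ⟨Pi.single i2 1, Pi.single_eq_of_ne hi2.symm _, fun s hs => ?_⟩
            have h1 := congrFun ht i1
            have h2 := congrFun ht i2
            have h3 := congrFun hs i2
            simp [Pi.single_eq_of_ne hne10] at h1 h2 h3
            rcases h2 with h2 | h2
            · simp [h2] at h1
            · simp [h2] at h3
          · push Not at h
            exact ⟨Pi.single i1 1, Pi.single_eq_of_ne hi1.symm _, h⟩
        obtain ⟨t, ht⟩ := key z
        rw [hyc] at ht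
        have hrz : r ⬝ᵥ z = 0 := by
          have := congrFun ht 0
          simpa [hz0, hv0] using this
        rw [hrz, zero_smul, add_zero, ← sub_smul] at ht
        exact hz1 ((c - c')⁻¹ * t) (by
          rw [← smul_smul, ← ht, smul_smul, inv_mul_cancel₀ (sub_ne_zero.2 hne), one_smul])
      have hr0 : r = 0 := dotProduct_eq_zero _ fun v => by
        obtain ⟨t, ht⟩ := key v
        rw [hyc, ← hcc, add_sub_cancel_left] at ht
        simpa [hv0] using congrFun ht 0
      refine hx (IsScalarMat.of_orb ⟨c, ?_⟩ hxy.symm)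
      apply Matrix.ext_of_mulVec_single
      intro i
      rw [hyc, hr0, smul_mulVec, one_mulVec, zero_dotProduct, zero_smul, add_zero]
  obtain ⟨y2, K2, hK2, hy2, h02, hup2⟩ := hline y w2 mu hw2 hyw2
  have hxy2 : Orb x y2 := hxy.trans (hy2 ▸ orb_conj hK2)
  have hdet : x.det = mu * (y2.submatrix Fin.succ Fin.succ).det := by
    rw [← hxy2.det_eq]
    conv_lhs => rw [hup2, det_up]
  refine ⟨mu, y2.submatrix Fin.succ Fin.succ, ⟨fun h => hd ?_, _, hup2 ▸ hxy2⟩, ?_,
    hy2 ▸ hns K2 hK2 h02, fun h => hd ?_, hdet⟩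
  · rw [hdet, show mu = 0 from h, zero_mul]
  · have h1 : SplitMat y2 := (GOrb.of_orb hxy2).splitMat hs
    refine Polynomial.Splits.of_dvd h1 (Matrix.charpoly_monic _).ne_zero ?_
    refine ⟨Polynomial.X - Polynomial.C mu, ?_⟩
    have h00 : y2 0 0 = mu := by rw [hup2]; simp [up]
    have hi0 : ∀ i : Fin (k + 2), y2 i.succ 0 = 0 := fun i => by rw [hup2]; simp [up]
    rw [Matrix.charpoly, det_succ_column_zero, Fin.sum_univ_succ]
    have hm : (charmatrix y2).submatrix Fin.succ Fin.succ =
        charmatrix (y2.submatrix Fin.succ Fin.succ) := by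
      ext i j
      by_cases hij : i = j
      · subst hij; simp
      · simp [hij]
    simp [hm, Matrix.charpoly, h00, hi0, mul_comm]
  · rw [hdet, h, mul_zero]

/-- Data of a list of classes. -/
theorem exists_data : ∀ (l : List (Matrix (Fin (k + 3)) (Fin (k + 3)) F)),
    (∀ x ∈ l, SplitMat x ∧ ¬ IsScalarMat x ∧ x.det ≠ 0) →
    ∃ D : List (F × Matrix (Fin (k + 2)) (Fin (k + 2)) F), List.Forall₂ Low l D ∧
      (∀ A ∈ D.map Prod.snd, SplitMat A ∧ ¬ IsScalarMat A ∧ A.det ≠ 0) ∧
      (l.map det).prod = (D.map Prod.fst).prod * ((D.map Prod.snd).map det).prod ∧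
      (D.map Prod.fst).prod ≠ 0
  | [], _ => ⟨[], List.Forall₂.nil, by simp, by simp, by simp⟩
  | x :: l, h => by
    obtain ⟨hs, hx, hd⟩ := h x List.mem_cons_self
    obtain ⟨lam, A, hlow, hsA, hA, hdA, hdet⟩ := exists_low hs hx hd
    obtain ⟨D, h1, h2, h3, h4⟩ := exists_data l fun z hz => h z (List.mem_cons_of_mem _ hz)
    refine ⟨(lam, A) :: D, List.Forall₂.cons hlow h1, ?_, ?_, ?_⟩
    · exact List.forall_mem_cons.2 ⟨⟨hsA, hA, hdA⟩, h2⟩
    · simp only [List.map_cons, List.prod_cons]
      rw [h3, hdet]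
      ring
    · simp only [List.map_cons, List.prod_cons]
      exact mul_ne_zero hlow.1 h4

theorem low_replace : ∀ {l : List (Matrix (Fin (k + 1)) (Fin (k + 1)) F)}
    {D : List (F × Matrix (Fin k) (Fin k) F)} {As : List (Matrix (Fin k) (Fin k) F)},
    List.Forall₂ Low l D → List.Forall₂ GOrb (D.map Prod.snd) As →
    ∃ D' : List (F × Matrix (Fin k) (Fin k) F), List.Forall₂ Low l D' ∧
      D'.map Prod.fst = D.map Prod.fst ∧ D'.map Prod.snd = As := by
  intro l D As h
  induction h generalizing As with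
  | nil =>
    intro hA
    simp only [List.map_nil, List.forall₂_nil_left_iff] at hA
    exact ⟨[], List.Forall₂.nil, by simp, by simp [hA]⟩
  | @cons x d l D hx _ ih =>
    intro hA
    obtain ⟨A, As, hA1, hA2, rfl⟩ := List.forall₂_cons_left_iff.1 hA
    obtain ⟨D', h1, h2, h3⟩ := ih hA2
    exact ⟨(d.1, A) :: D', List.Forall₂.cons (Low.gorb (lam := d.1) (A := d.2) hx hA1) h1,
      by simp [h2], by simp [h3]⟩

/-- The matrix left after removing a normalised first factor. -/
theorem normal_inv {y g : Matrix (Fin (k + 3)) (Fin (k + 3)) F} (hd : y.det ≠ 0)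
    (hy1 : y 1 0 = 1) (hy : ∀ i, i ≠ 1 → y i 0 = 0) {mu : F} (hg1 : g 1 0 = mu)
    (hg : ∀ i, i ≠ 1 → g i 0 = 0) :
    y⁻¹ 0 1 = 1 ∧ (∀ i : Fin (k + 2), y⁻¹ i.succ 1 = 0) ∧ (y⁻¹ * g) 0 0 = mu ∧
      (∀ i : Fin (k + 2), (y⁻¹ * g) i.succ 0 = 0) ∧
      (y⁻¹ * g).submatrix Fin.succ Fin.succ =
        y⁻¹.submatrix Fin.succ (Fin.succAbove (1 : Fin (k + 3))) *
          g.submatrix (Fin.succAbove (1 : Fin (k + 3))) Fin.succ := by
  have h1 : ∀ i, y⁻¹ i 1 = if i = 0 then 1 else 0 := fun i => by
    have := congrFun (congrFun (nonsing_inv_mul y hd.isUnit) i) 0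
    rw [Matrix.mul_apply, Finset.sum_eq_single (1 : Fin (k + 3))
      (fun b _ hb => by rw [hy b hb, mul_zero]) (fun h => absurd (Finset.mem_univ _) h), hy1,
      mul_one, Matrix.one_apply] at this
    exact this
  have h2 : ∀ i, (y⁻¹ * g) i 0 = y⁻¹ i 1 * mu := fun i => by
    rw [Matrix.mul_apply, Finset.sum_eq_single (1 : Fin (k + 3))
      (fun b _ hb => by rw [hg b hb, mul_zero]) (fun h => absurd (Finset.mem_univ _) h), hg1]
  refine ⟨by rw [h1, if_pos rfl], fun i => by rw [h1, if_neg (Fin.succ_ne_zero i)],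
    by rw [h2, h1, if_pos rfl, one_mul], fun i => by
      rw [h2, h1, if_neg (Fin.succ_ne_zero i), zero_mul], ?_⟩
  ext i j
  rw [submatrix_apply, Matrix.mul_apply, Matrix.mul_apply,
    Fin.sum_univ_succAbove _ (1 : Fin (k + 3)), h1, if_neg (Fin.succ_ne_zero i), zero_mul, zero_add]
  rfl

/-- The nonscalar classes in dimension two are given by trace and determinant. -/
theorem gorb_two {A B : Matrix (Fin 2) (Fin 2) F} (hA : ¬ IsScalarMat A) (hB : ¬ IsScalarMat B)
    (hd : A.det = B.det) (ht : A.trace = B.trace) : GOrb A B := by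
  have key : ∀ C : Matrix (Fin 2) (Fin 2) F, ¬ IsScalarMat C →
      GOrb !![0, -C.det; 1, C.trace] C := by
    intro C hC
    obtain ⟨u, hu⟩ := exists_indep hC
    set w := C *ᵥ u with hw
    let K : Matrix (Fin 2) (Fin 2) F := !![u 0, w 0; u 1, w 1]
    refine ⟨K, fun h0 => ?_, ?_⟩
    · rw [LinearIndependent.pair_iff] at hu
      simp only [K, det_fin_two_of] at h0
      obtain ⟨h1, h2⟩ := hu (w 1) (-(u 1)) (by
        funext i
        fin_cases i
        · simp; linear_combination h0
        · simp; ring)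
      obtain ⟨h3, h4⟩ := hu (w 0) (-(u 0)) (by
        funext i
        fin_cases i
        · simp; ring
        · simp; linear_combination -h0)
      rw [neg_eq_zero] at h2 h4
      exact one_ne_zero (hu 1 0 (by
        funext i
        fin_cases i <;> simp [h2, h4])).1
    · have h0 : w 0 = C 0 0 * u 0 + C 0 1 * u 1 := by
        simp [hw, mulVec, dotProduct, Fin.sum_univ_two]
      have h1 : w 1 = C 1 0 * u 0 + C 1 1 * u 1 := by
        simp [hw, mulVec, dotProduct, Fin.sum_univ_two]
      ext i j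
      fin_cases i <;> fin_cases j <;>
        simp [K, h0, h1, Matrix.mul_apply, Fin.sum_univ_two, det_fin_two, trace_fin_two] <;> ring
  refine (key A hA).symm.trans ?_
  rw [hd, ht]
  exact key B hB

theorem exists_eigen_two {A : Matrix (Fin 2) (Fin 2) F} (hA : SplitMat A) :
    ∃ a b : F, A.trace = a + b ∧ A.det = a * b := by
  obtain ⟨a, ha⟩ := Polynomial.Splits.exists_eval_eq_zero hA (by
    rw [Matrix.charpoly_degree_eq_dim, Fintype.card_fin]
    exact_mod_cast (show (2 : ℕ) ≠ 0 by omega))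
  rw [Matrix.charpoly_fin_two] at ha
  simp at ha
  exact ⟨a, A.trace - a, by ring, by linear_combination ha⟩

theorem not_scalar_lower {a b t : F} (ht : t ≠ 0) : ¬ IsScalarMat !![a, 0; t, b] := by
  rintro ⟨c, hc⟩
  have := congrFun (congrFun hc 1) 0
  simp at this
  exact ht this

theorem not_scalar_upper {a b s : F} (hs : s ≠ 0) : ¬ IsScalarMat !![a, s; 0, b] := by
  rintro ⟨c, hc⟩
  have := congrFun (congrFun hc 0) 1
  simp at this
  exact hs this

/-- Lower triangular members whose product has a nonzero corner. -/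
theorem exists_lower (h3 : ∀ z : F, ∃ t : F, t ≠ 0 ∧ t ≠ z) :
    ∀ (l : List (Matrix (Fin 2) (Fin 2) F)), l ≠ [] →
    (∀ A ∈ l, SplitMat A ∧ ¬ IsScalarMat A ∧ A.det ≠ 0) →
    ∃ (As : List (Matrix (Fin 2) (Fin 2) F)) (C D T : F), List.Forall₂ GOrb l As ∧
      As.prod = !![C, 0; T, D] ∧ T ≠ 0 ∧ C ≠ 0 ∧ D ≠ 0 ∧
      ∀ A ∈ As, ∃ c d t : F, A = !![c, 0; t, d] ∧ t ≠ 0
  | [], h, _ => absurd rfl h
  | A :: l, _, h => by
    obtain ⟨hs, hA, hd⟩ := h A List.mem_cons_self
    obtain ⟨c, d, htr, hdet⟩ := exists_eigen_two hs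
    have hcd : c ≠ 0 ∧ d ≠ 0 := by
      rw [hdet] at hd
      exact mul_ne_zero_iff.1 hd
    have hG : ∀ t : F, t ≠ 0 → GOrb A !![c, 0; t, d] := fun t ht =>
      gorb_two hA (not_scalar_lower ht) (by simp [hdet, det_fin_two_of])
        (by simp [htr, trace_fin_two_of])
    rcases eq_or_ne l [] with rfl | hl
    · exact ⟨[!![c, 0; 1, d]], c, d, 1,
        List.Forall₂.cons (hG 1 one_ne_zero) List.Forall₂.nil, by simp, one_ne_zero, hcd.1, hcd.2,
        fun B hB => ⟨c, d, 1, List.mem_singleton.1 hB, one_ne_zero⟩⟩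
    obtain ⟨As, C, D, T, h1, h2, hT, hC, hD, h4⟩ :=
      exists_lower h3 l hl fun B hB => h B (List.mem_cons_of_mem _ hB)
    obtain ⟨t, ht, htz⟩ := h3 (-(d * T) / C)
    refine ⟨!![c, 0; t, d] :: As, c * C, d * D, t * C + d * T, List.Forall₂.cons (hG t ht) h1, ?_,
      ?_, mul_ne_zero hcd.1 hC, mul_ne_zero hcd.2 hD,
      List.forall_mem_cons.2 ⟨⟨c, d, t, rfl, ht⟩, h4⟩⟩
    · rw [List.prod_cons, h2]
      simp [Matrix.mul_fin_two]
    · intro h0
      apply htz
      rw [eq_div_iff hC]
      linear_combination h0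

/-- **Two dimensional products without common eigenvector.** -/
theorem good_two (h3 : ∀ z : F, ∃ t : F, t ≠ 0 ∧ t ≠ z)
    {l : List (Matrix (Fin 2) (Fin 2) F)} (hl : 2 ≤ l.length)
    (hs : ∀ A ∈ l, SplitMat A ∧ ¬ IsScalarMat A ∧ A.det ≠ 0) :
    ∃ t1 t2 : F, ∀ U : Matrix (Fin 2) (Fin 2) F, U.det = (l.map det).prod → U.trace ≠ t1 →
      U.trace ≠ t2 → U.trace ^ 2 ≠ 4 * U.det →
      ∃ As, List.Forall₂ GOrb l As ∧ As.prod = U ∧ ¬ CommonEig As := by
  match l, hl, hs with
  | A :: B :: l, _, hs =>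
    obtain ⟨hsA, hA, hdA⟩ := hs A List.mem_cons_self
    obtain ⟨a, b, htr, hdet⟩ := exists_eigen_two hsA
    obtain ⟨As, C, D, T, h1, h2, hT, hC, hD, h4⟩ := exists_lower h3 (B :: l) (by simp)
      fun Z hZ => hs Z (List.mem_cons_of_mem _ hZ)
    have hdl : ∀ (a b : List (Matrix (Fin 2) (Fin 2) F)), List.Forall₂ GOrb a b →
        b.prod.det = (a.map det).prod := by
      intro a b hab
      induction hab with
      | nil => simp
      | cons h _ ih => rw [List.prod_cons, det_mul, ih, h.det_eq]; simp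
    refine ⟨a * C + b * D, b * C + a * D, fun U hU ht1 ht2 ht4 => ?_⟩
    set s := (U.trace - (a * C + b * D)) / T with hs'
    have hs0 : s ≠ 0 := div_ne_zero (sub_ne_zero.2 ht1) hT
    set A0 : Matrix (Fin 2) (Fin 2) F := !![a, s; 0, b]
    have hGA : GOrb A A0 := gorb_two hA (not_scalar_upper hs0)
      (by simp [A0, hdet, det_fin_two_of]) (by simp [A0, htr, trace_fin_two_of])
    set Z := A0 * As.prod with hZ
    have hZdet : Z.det = U.det := by
      rw [hU, hZ, ← List.prod_cons, hdl _ _ (List.Forall₂.cons hGA h1)]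
    have hZtr : Z.trace = U.trace := by
      rw [hZ, h2]
      simp [A0, Matrix.mul_fin_two, trace_fin_two_of, hs']
      field_simp
      ring
    have hnU : ∀ V : Matrix (Fin 2) (Fin 2) F, V.trace = U.trace → V.det = U.det →
        ¬ IsScalarMat V := by
      rintro V e1 e2 ⟨c, rfl⟩
      apply ht4
      rw [← e1, ← e2, trace_fin_two, det_fin_two]
      simp
      ring
    obtain ⟨P, hP, hPe⟩ := gorb_two (hnU Z hZtr hZdet) (hnU U rfl rfl) hZdet hZtr
    have hu : IsUnit P.det := hP.isUnit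
    refine ⟨(A0 :: As).map fun z => P * z * P⁻¹, ?_, ?_, ?_⟩
    · rw [List.forall₂_map_right_iff]
      refine (List.Forall₂.cons hGA h1).imp fun x z hxz => hxz.trans ⟨P, hP, ?_⟩
      rw [mul_assoc (P * z), nonsing_inv_mul _ hu, mul_one]
    · have key : ∀ y : List (Matrix (Fin 2) (Fin 2) F),
          (y.map fun a => P * a * P⁻¹).prod = P * y.prod * P⁻¹ := by
        intro y
        induction y with
        | nil => rw [List.map_nil, List.prod_nil, mul_one, mul_nonsing_inv _ hu]
        | cons a t ih =>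
          rw [List.map_cons, List.prod_cons, List.prod_cons, ih,
            mul_assoc (P * a), ← mul_assoc P⁻¹ (P * t.prod), ← mul_assoc P⁻¹ P,
            nonsing_inv_mul _ hu, one_mul]
          simp only [mul_assoc]
      rw [key, List.prod_cons, ← hZ, hPe, mul_assoc, mul_nonsing_inv _ hu, mul_one]
    · rintro ⟨v, hv, hev⟩
      set w := P⁻¹ *ᵥ v with hw
      have hw0 : w ≠ 0 := fun h => hv (by
        have := congrArg (P *ᵥ ·) h
        simpa [hw, mulVec_mulVec, mul_nonsing_inv _ hu] using this)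
      have hev' : ∀ z ∈ A0 :: As, ∃ c : F, z *ᵥ w = c • w := fun z hz => by
        obtain ⟨c, hc⟩ := hev _ (List.mem_map.2 ⟨z, hz, rfl⟩)
        refine ⟨c, ?_⟩
        have := congrArg (P⁻¹ *ᵥ ·) hc
        simp only [mulVec_mulVec, mulVec_smul] at this
        rw [hw, mulVec_mulVec, ← this]
        congr 1
        rw [← mul_assoc, ← mul_assoc, nonsing_inv_mul _ hu, one_mul]
      -- coordinates of the common eigenvector
      obtain ⟨B0, hB0⟩ : ∃ B0, B0 ∈ As := by
        cases h1 with
        | cons _ _ => exact ⟨_, List.mem_cons_self⟩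
      obtain ⟨c', d', t', rfl, ht'⟩ := h4 _ hB0
      obtain ⟨e, he⟩ := hev' _ (List.mem_cons_of_mem _ hB0)
      have he0 := congrFun he 0
      have he1 := congrFun he 1
      simp [mulVec, dotProduct, Fin.sum_univ_two] at he0 he1
      have hw1 : w 1 ≠ 0 := by
        intro h
        rw [h, mul_zero, mul_zero, add_zero] at he1
        exact hw0 (funext fun i => by
          fin_cases i
          · simpa [ht'] using he1
          · exact h)
      obtain ⟨f, hf⟩ := hev' A0 List.mem_cons_self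
      have hf0 := congrFun hf 0
      have hf1 := congrFun hf 1
      simp [A0, mulVec, dotProduct, Fin.sum_univ_two] at hf0 hf1
      have hfb : f = b := by
        rcases hf1 with h | h
        · exact h.symm
        · exact absurd h hw1
      have hw00 : w 0 ≠ 0 := fun h => by
        rw [h, mul_zero, mul_zero, zero_add] at hf0
        exact mul_ne_zero hs0 hw1 hf0
      obtain ⟨g, hg⟩ : ∃ g : F, As.prod *ᵥ w = g • w := by
        have hh : ∀ L : List (Matrix (Fin 2) (Fin 2) F),
            (∀ z ∈ L, ∃ c : F, z *ᵥ w = c • w) → ∃ g : F, L.prod *ᵥ w = g • w := by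
          intro L
          induction L with
          | nil => exact fun _ => ⟨1, by simp⟩
          | cons z L ih =>
            intro hL
            obtain ⟨p, hp⟩ := hL z List.mem_cons_self
            obtain ⟨q, hq⟩ := ih fun u hu => hL u (List.mem_cons_of_mem _ hu)
            exact ⟨q * p, by rw [List.prod_cons, ← mulVec_mulVec, hq, mulVec_smul, hp, smul_smul]⟩
        exact hh As fun z hz => hev' z (List.mem_cons_of_mem _ hz)
      rw [h2] at hg
      have hg0 := congrFun hg 0
      have hg1 := congrFun hg 1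
      simp [mulVec, dotProduct, Fin.sum_univ_two] at hg0 hg1
      have hgC : g = C := by
        rcases hg0 with h | h
        · exact h.symm
        · exact absurd h hw00
      subst hfb hgC
      apply ht2
      rw [← hZtr, hZ, h2]
      simp [A0, Matrix.mul_fin_two, trace_fin_two_of]
      refine mul_left_cancel₀ (mul_ne_zero hw00 hw1) ?_
      linear_combination (T * w 0) * hf0 + ((f - a) * w 0) * hg1

theorem cyc_of_orb {x y : Matrix (Fin n) (Fin n) F} (h : Orb x y) {u : Fin n → F} (hu : Cyc y u) :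
    ∃ v, Cyc x v := by
  obtain ⟨K, hK, he⟩ := h
  have hKu := det_ne_zero_of_eq hK
  refine ⟨K⁻¹ *ᵥ u, fun a b c habc => hu a b c ?_⟩
  have hxK : ∀ w, K *ᵥ (x *ᵥ w) = y *ᵥ (K *ᵥ w) := fun w => by
    rw [mulVec_mulVec, mulVec_mulVec, he]
  have hKK : K *ᵥ (K⁻¹ *ᵥ u) = u := by rw [mulVec_mulVec, mul_nonsing_inv _ hKu, one_mulVec]
  have := congrArg (K *ᵥ ·) habc
  simp only [mulVec_add, mulVec_smul, mulVec_zero, hxK, hKK] at this
  exact this

/-- In a normal form with scalar complement some vector is cyclic of length three. -/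
theorem exists_cyc_normal {y : Matrix (Fin (k + 3)) (Fin (k + 3)) F} (hy1 : y 1 0 = 1)
    (hy : ∀ i, i ≠ 1 → y i 0 = 0) (hr : ¬ RankOne y) {c : F}
    (hb : ∀ i : Fin (k + 3), i ≠ 0 → i ≠ 1 → ∀ j, y i j = if i = j then c else 0) :
    ∃ u, Cyc y u := by
  set r0 : Fin (k + 3) → F := fun j => y 0 j - if j = 0 then c else 0 with hr0
  set r1 : Fin (k + 3) → F := fun j => y 1 j - if j = 1 then c else 0 with hr1
  set e0 : Fin (k + 3) → F := Pi.single 0 1 with he0
  set e1 : Fin (k + 3) → F := Pi.single 1 1 with he1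
  have h01 : (0 : Fin (k + 3)) ≠ 1 := by simp
  have hN : ∀ v, y *ᵥ v = c • v + (r0 ⬝ᵥ v) • e0 + (r1 ⬝ᵥ v) • e1 := by
    intro v
    funext i
    by_cases hi0 : i = 0
    · subst hi0
      simp [he0, he1, hr0, mulVec, dotProduct, sub_mul, Finset.sum_sub_distrib]
    · by_cases hi1 : i = 1
      · subst hi1
        simp [he0, he1, hr1, mulVec, dotProduct, sub_mul, Finset.sum_sub_distrib]
      · simp [he0, he1, mulVec, dotProduct, hb i hi0 hi1, hi0, hi1]
  have hr00 : r0 ⬝ᵥ e0 = -c := by simp [he0, hr0, hy 0 h01]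
  have hr10 : r1 ⬝ᵥ e0 = 1 := by simp [he0, hr1, hy1]
  obtain ⟨z, j, hj0, hj1, hzj, hD⟩ : ∃ z : Fin (k + 3) → F, ∃ j, j ≠ 0 ∧ j ≠ 1 ∧ z j ≠ 0 ∧
      r0 ⬝ᵥ z + c * (r1 ⬝ᵥ z) ≠ 0 := by
    by_contra hcon
    push Not at hcon
    have h2 : (2 : Fin (k + 3)) ≠ 0 ∧ (2 : Fin (k + 3)) ≠ 1 := by
      constructor <;> intro h <;>
        simp [Fin.ext_iff, Nat.mod_eq_of_lt (show 2 < k + 3 by omega)] at h
    have hall : ∀ j, r0 j = -c * r1 j := by
      intro j
      by_cases hj0 : j = 0
      · subst hj0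
        simp [hr0, hr1, hy 0 h01, hy1]
      by_cases hj1 : j = 1
      · subst hj1
        have h := hcon (e1 + Pi.single 2 1) 2 h2.1 h2.2
          (by simp [he1, Pi.single_eq_of_ne h2.2])
        have h' := hcon (Pi.single 2 1) 2 h2.1 h2.2 (by simp)
        simp only [he1, dotProduct_add, dotProduct_single, mul_one] at h h'
        linear_combination h - h'
      · have h := hcon (Pi.single j 1) j hj0 hj1 (by simp)
        simp only [dotProduct_single, mul_one] at h
        linear_combination h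
    refine hr ⟨c, e1 - c • e0, r1, ?_⟩
    apply Matrix.ext_of_mulVec_single
    intro i
    rw [hN, add_mulVec, smul_mulVec, one_mulVec, vecMulVec_mulVec]
    have : r0 ⬝ᵥ Pi.single i 1 = -c * (r1 ⬝ᵥ Pi.single i 1) := by simpa using hall i
    rw [this]
    simp only [op_smul_eq_smul]
    module
  set D := r0 ⬝ᵥ z + c * (r1 ⬝ᵥ z) with hD'
  set u : Fin (k + 3) → F := D⁻¹ • z - (D⁻¹ * (r1 ⬝ᵥ z)) • e0 with hu
  have hu0 : r0 ⬝ᵥ u = 1 := by
    rw [hu, dotProduct_sub, dotProduct_smul, dotProduct_smul, hr00]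
    simp only [smul_eq_mul]
    have h := inv_mul_cancel₀ hD
    rw [hD'] at h ⊢
    linear_combination h
  have hu1 : r1 ⬝ᵥ u = 0 := by
    rw [hu, dotProduct_sub, dotProduct_smul, dotProduct_smul, hr10]
    simp
  have huj : u j ≠ 0 := by
    simp [hu, he0, hj0, hzj, hD]
  have hyu : y *ᵥ u = c • u + e0 := by rw [hN, hu0, hu1]; simp
  have hye : y *ᵥ e0 = e1 := by rw [hN, hr00, hr10]; simp
  refine ⟨u, fun a b d h => ?_⟩
  rw [hyu, mulVec_add, mulVec_smul, hye, hyu] at h
  have hj := congrFun h j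
  have h1' := congrFun h 1
  have h0' := congrFun h 0
  simp [he0, he1, hj0, hj1] at hj h1' h0'
  have hS : a + b * c + d * (c * c) = 0 := by
    refine (mul_eq_zero.1 (?_ : (a + b * c + d * (c * c)) * u j = 0)).resolve_right huj
    linear_combination hj
  have hd : d = 0 := by linear_combination h1' - u 1 * hS
  subst hd
  have hb : b = 0 := by linear_combination h0' - u 0 * hS
  subst hb
  exact ⟨by linear_combination hS, rfl, rfl⟩

/-- A cyclic vector in dimension three. -/
theorem exists_cyc_three {x : Matrix (Fin 3) (Fin 3) F} (hx : ¬ RankOne x) : ∃ u, Cyc x u := by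
  have hs : ¬ IsScalarMat x := fun ⟨c, hc⟩ => hx ⟨c, 0, 0, by simp [hc]⟩
  obtain ⟨u, hu⟩ := exists_indep hs
  obtain ⟨y, hy, hy1, hy0, -⟩ := exists_normal (k := 0) hu one_ne_zero
  by_cases h21 : y 2 1 = 0
  · have hr : ¬ RankOne y := fun h => hx ((GOrb.of_orb hy).rankOne h)
    obtain ⟨v, hv⟩ := exists_cyc_normal (c := y 2 2) hy1 hy0 hr (fun i hi0 hi1 j => by
      fin_cases i <;> first | exact absurd rfl hi0 | exact absurd rfl hi1 | skip
      fin_cases j
      · simpa using hy0 2 (by decide)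
      · simpa using h21
      · simp)
    exact cyc_of_orb hy hv
  · refine cyc_of_orb hy (u := Pi.single 0 1) fun a b c h => ?_
    have h0 := congrFun h 0
    have h1 := congrFun h 1
    have h2 := congrFun h 2
    simp [mulVec, dotProduct, Fin.sum_univ_three, hy1, hy0 0 (by decide), hy0 2 (by decide)]
      at h0 h1 h2
    have hc : c = 0 := h2.resolve_right h21
    subst hc
    exact ⟨by simpa using h0, by simpa using h1, rfl⟩

theorem exists_avoid [Fintype F] (hq : 4 ≤ Fintype.card F) (t1 t2 d : F) :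
    ∃ t : F, t ≠ t1 ∧ t ≠ t2 ∧ t ^ 2 ≠ 4 * d := by
  classical
  by_cases hr : ∃ r : F, r ^ 2 = 4 * d
  swap
  · push Not at hr
    obtain ⟨t, -, ht⟩ := Finset.exists_mem_notMem_of_card_lt_card
      (s := ({t1, t2} : Finset F)) (t := Finset.univ)
      (lt_of_le_of_lt Finset.card_le_two (by rw [Finset.card_univ]; omega))
    simp only [Finset.mem_insert, Finset.mem_singleton, not_or] at ht
    exact ⟨t, ht.1, ht.2, hr t⟩
  obtain ⟨r, hr⟩ := hr
  obtain ⟨t, ht⟩ : ∃ t : F, t ∉ ({t1, t2, r, -r} : Finset F) := by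
    by_contra hall
    push Not at hall
    have huniv : (Finset.univ : Finset F) ⊆ {t1, t2, r, -r} := fun t _ => hall t
    rcases eq_or_lt_of_le hq with h4 | h5
    · have hneg : -r = r := by
        have h0 : ((Fintype.card F : ℕ) : F) = 0 := FiniteField.cast_card_eq_zero F
        rw [← h4] at h0
        have h2 : (2 : F) = 0 := by
          have : (2 : F) * 2 = 0 := by push_cast at h0; linear_combination h0
          exact mul_self_eq_zero.1 this
        linear_combination -r * h2
      rw [hneg] at huniv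
      have h1 : ({t1, t2, r, r} : Finset F) = {t1, t2, r} := by simp
      rw [h1] at huniv
      have := le_trans (Finset.card_le_card huniv) Finset.card_le_three
      rw [Finset.card_univ] at this
      omega
    · have := le_trans (Finset.card_le_card huniv) Finset.card_le_four
      rw [Finset.card_univ] at this
      omega
  simp only [Finset.mem_insert, Finset.mem_singleton, not_or] at ht
  refine ⟨t, ht.1, ht.2.1, fun h => ?_⟩
  rw [← hr] at h
  rcases sq_eq_sq_iff_eq_or_eq_neg.1 h with h | h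
  · exact ht.2.2.1 h
  · exact ht.2.2.2 h

theorem inv_conj {h hi y : Matrix (Fin n) (Fin n) F} (hh : h * hi = 1) (hy : y.det ≠ 0) :
    (h * y * hi)⁻¹ = h * y⁻¹ * hi := by
  refine Matrix.inv_eq_right_inv ?_
  have hh' : hi * h = 1 := mul_eq_one_comm.1 hh
  calc h * y * hi * (h * y⁻¹ * hi) = h * y * (hi * h) * y⁻¹ * hi := by simp only [mul_assoc]
    _ = 1 := by rw [hh', mul_one, mul_assoc h, mul_nonsing_inv _ hy.isUnit, mul_one, hh]

theorem orb_mul {x h hi y : Matrix (Fin n) (Fin n) F} (hy : Orb x y) (hd : h.det = 1)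
    (hh : h * hi = 1) : Orb x (h * y * hi) := by
  refine hy.trans ⟨h, hd, ?_⟩
  rw [mul_assoc (h * y), mul_eq_one_comm.1 hh, mul_one]

/-- Dimension three, the first class in front. -/
theorem good_three_front [Fintype F] (hq : 4 ≤ Fintype.card F) {x g : Matrix (Fin 3) (Fin 3) F}
    {l : List (Matrix (Fin 3) (Fin 3) F)} (hl : 2 ≤ l.length)
    (hx : SplitMat x ∧ ¬ IsScalarMat x ∧ x.det ≠ 0)
    (hs : ∀ z ∈ l, SplitMat z ∧ ¬ IsScalarMat z ∧ z.det ≠ 0) (hg : ¬ IsScalarMat g)
    (hdet : g.det = x.det * (l.map det).prod)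
    (hne : (∃ u, Cyc x u) ∨ ∃ v, Cyc g v) : Good (x :: l) g := by
  classical
  obtain ⟨D, hD, hDs, hDd, hmu⟩ := exists_data (k := 0) l hs
  have hlen : 2 ≤ (D.map Prod.snd).length := by rw [List.length_map, ← hD.length_eq]; exact hl
  obtain ⟨u, hu, huc⟩ : ∃ u, LinearIndependent F ![u, x *ᵥ u] ∧ ((∃ u, Cyc x u) → Cyc x u) := by
    by_cases h : ∃ u, Cyc x u
    · obtain ⟨u, hu⟩ := h
      exact ⟨u, hu.indep, fun _ => hu⟩
    · obtain ⟨u, hu⟩ := exists_indep hx.2.1
      exact ⟨u, hu, fun h' => absurd h' h⟩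
  obtain ⟨v, hv, hvc⟩ : ∃ u, LinearIndependent F ![u, g *ᵥ u] ∧ ((∃ u, Cyc g u) → Cyc g u) := by
    by_cases h : ∃ u, Cyc g u
    · obtain ⟨u, hu⟩ := h
      exact ⟨u, hu.indep, fun _ => hu⟩
    · obtain ⟨u, hu⟩ := exists_indep hg
      exact ⟨u, hu, fun h' => absurd h' h⟩
  obtain ⟨y, hy, hy1, hy0, hyc⟩ := exists_normal (k := 0) hu one_ne_zero
  obtain ⟨g', hg', hg1, hg0, hgc⟩ := exists_normal (k := 0) hv hmu
  refine Good.conj ?_ hg'.symm
  have hdy : y.det ≠ 0 := by rw [hy.det_eq]; exact hx.2.2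
  obtain ⟨-, hY, hU00, -, hU⟩ := normal_inv hdy hy1 hy0 hg1 hg0
  set Y := y⁻¹ with hYd
  -- the determinant of the quotient
  have hdetA : ∀ y' : Matrix (Fin 3) (Fin 3) F, Orb x y' → y' 1 0 = 1 →
      (∀ i, i ≠ 1 → y' i 0 = 0) →
      ((y'⁻¹ * g').submatrix Fin.succ Fin.succ).det = ((D.map Prod.snd).map det).prod := by
    intro y' h1 h2 h3
    have hd' : y'.det ≠ 0 := by rw [h1.det_eq]; exact hx.2.2
    obtain ⟨-, -, e1, e2, -⟩ := normal_inv hd' h2 h3 hg1 hg0
    have h := congrArg Matrix.det (eq_up _ e2)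
    rw [det_up, e1, det_mul, det_nonsing_inv, Ring.inverse_eq_inv', h1.det_eq, hg'.det_eq, hdet,
      inv_mul_cancel_left₀ hx.2.2, hDd] at h
    exact (mul_left_cancel₀ hmu h).symm
  have hP : ¬ (Y 2 0 = 0 ∧ g' 2 1 = 0) := by
    rintro ⟨hP, hG⟩
    rcases hne with h | h
    · -- the first class is cyclic
      have hc := hyc (huc h)
      have hdY : Y.det ≠ 0 := by
        rw [hYd, det_nonsing_inv, Ring.inverse_eq_inv']
        exact inv_ne_zero hdy
      by_cases h10 : Y 1 0 = 0
      · refine hdY ?_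
        have h11 : Y 1 1 = 0 := hY 0
        have h21 : Y 2 1 = 0 := hY 1
        rw [det_fin_three, hP, h10, h11, h21]
        ring
      · have e := congrFun (congrFun (mul_nonsing_inv y hdy.isUnit) 2) 0
        rw [← hYd] at e
        simp [Matrix.mul_apply, Fin.sum_univ_three, hP, hy0 2 (by decide), h10] at e
        have := hc (-(y 0 1)) (-(y 1 1)) 1 (by
          funext i
          fin_cases i <;> simp [mulVec, dotProduct, Fin.sum_univ_three, hy1, hy0 0 (by decide),
            hy0 2 (by decide), e])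
        exact one_ne_zero this.2.2
    · have hc := hgc (hvc h)
      set μ := (D.map Prod.fst).prod
      have := hc (-(μ * g' 0 1)) (-(g' 1 1)) 1 (by
        funext i
        fin_cases i <;>
          simp [mulVec, dotProduct, Fin.sum_univ_three, hg1, hg0 0 (by decide),
            hg0 2 (by decide), hG] <;> ring)
      exact one_ne_zero this.2.2
  obtain ⟨t1, t2, hgood⟩ := good_two (fun z => by
    obtain ⟨t, -, ht⟩ := Finset.exists_mem_notMem_of_card_lt_card (s := ({0, z} : Finset F))
      (t := Finset.univ) (lt_of_le_of_lt Finset.card_le_two (by rw [Finset.card_univ]; omega))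
    simp only [Finset.mem_insert, Finset.mem_singleton, not_or] at ht
    exact ⟨t, ht⟩) hlen hDs
  obtain ⟨τ, hτ1, hτ2, hτ4⟩ := exists_avoid hq t1 t2 ((D.map Prod.snd).map det).prod
  -- the trace after conjugating the first factor
  set M : F → F → Matrix (Fin 2) (Fin 2) F := fun a b =>
    !![1, b; 0, 1] * (!![Y 1 0, Y 1 2; Y 2 0, Y 2 2] * !![1, -a; 0, 1] *
      !![g' 0 1, g' 0 2; g' 2 1, g' 2 2])
  obtain ⟨a, b, hab⟩ : ∃ a b : F, (M a b).trace = τ := by
    -- the trace is `T + b * (A + a * B) + a * C`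
    set A := Y 2 0 * g' 0 1 + Y 2 2 * g' 2 1 with hA
    set B := -(Y 2 0 * g' 2 1) with hB
    set C := -(Y 1 0 * g' 2 1 + Y 2 0 * g' 2 2) with hC
    set T := Y 1 0 * g' 0 1 + Y 1 2 * g' 2 1 + (Y 2 0 * g' 0 2 + Y 2 2 * g' 2 2) with hT
    have htr : ∀ a b, (M a b).trace = T + b * (A + a * B) + a * C := fun a b => by
      simp [M, hA, hB, hC, hT, Matrix.mul_fin_two, trace_fin_two_of]
      ring
    obtain ⟨a, ha⟩ : ∃ a, A + a * B ≠ 0 := by
      by_cases hBz : B = 0
      · refine ⟨0, ?_⟩
        rw [zero_mul, add_zero, hA]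
        rcases mul_eq_zero.1 (neg_eq_zero.1 hBz) with hp | hgz
        · have hg21 : g' 2 1 ≠ 0 := fun h => hP ⟨hp, h⟩
          have h22 : Y 2 2 ≠ 0 := by
            intro h
            have hdY : Y.det ≠ 0 := by
              rw [hYd, det_nonsing_inv, Ring.inverse_eq_inv']
              exact inv_ne_zero hdy
            have h21 : Y 2 1 = 0 := hY 1
            exact hdY (det_eq_zero_of_row_eq_zero 2 fun j => by fin_cases j <;> assumption)
          rw [hp, zero_mul, zero_add]
          exact mul_ne_zero h22 hg21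
        · have hp : Y 2 0 ≠ 0 := fun h => hP ⟨h, hgz⟩
          have h01 : g' 0 1 ≠ 0 := by
            intro h
            have hdg : g'.det ≠ 0 := by
              rw [hg'.det_eq, hdet, hDd]
              refine mul_ne_zero hx.2.2 (mul_ne_zero hmu (List.prod_ne_zero fun h0 => ?_))
              obtain ⟨z, hz, hz0⟩ := List.mem_map.1 h0
              exact (hDs z hz).2.2 hz0
            refine hdg ?_
            rw [det_fin_three, h, hgz, hg0 0 (by decide), hg0 2 (by decide)]
            ring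
          rw [hgz, mul_zero, add_zero]
          exact mul_ne_zero hp h01
      · exact ⟨(1 - A) / B, by rw [div_mul_cancel₀ _ hBz]; simp⟩
    refine ⟨a, (τ - T - a * C) / (A + a * B), ?_⟩
    rw [htr, div_mul_cancel₀ _ ha]
    ring
  set h : Matrix (Fin 3) (Fin 3) F := !![1, 0, a; 0, 1, b; 0, 0, 1] with hh
  set hi : Matrix (Fin 3) (Fin 3) F := !![1, 0, -a; 0, 1, -b; 0, 0, 1] with hhi
  have hhh : h * hi = 1 := by
    ext i j
    fin_cases i <;> fin_cases j <;> simp [hh, hhi, Matrix.mul_apply, Fin.sum_univ_three]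
  have hdh : h.det = 1 := by simp [hh, det_fin_three]
  set y' := h * y * hi with hy'
  have hxy' : Orb x y' := orb_mul hy hdh hhh
  have hy'0 : ∀ i, y' i 0 = y i 0 := fun i => by
    fin_cases i <;>
      simp [hy', hh, hhi, Matrix.mul_apply, Matrix.vecMul, dotProduct, Fin.sum_univ_three, hy1, hy0 0 (by decide),
        hy0 2 (by decide)]
  have hy'1 : y' 1 0 = 1 := by rw [hy'0, hy1]
  have hy'z : ∀ i, i ≠ 1 → y' i 0 = 0 := fun i hi => by rw [hy'0, hy0 i hi]
  have hdy' : y'.det ≠ 0 := by rw [hxy'.det_eq]; exact hx.2.2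
  obtain ⟨-, -, hU00', hUcol', hU'⟩ := normal_inv hdy' hy'1 hy'z hg1 hg0
  have htr : ((y'⁻¹ * g').submatrix Fin.succ Fin.succ).trace = τ := by
    rw [← hab, hU', hy', inv_conj hhh hdy, ← hYd]
    have h11 : Y 1 1 = 0 := hY 0
    have h21 : Y 2 1 = 0 := hY 1
    simp [M, hh, hhi, trace_fin_two, Matrix.mul_apply, Matrix.vecMul, dotProduct, Fin.sum_univ_two,
      Fin.sum_univ_three,
      Fin.succAbove, h11, h21]
    ring
  obtain ⟨As, hAs, hprod, hcommon⟩ := hgood _ (hdetA y' hxy' hy'1 hy'z)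
    (by rw [htr]; exact hτ1) (by rw [htr]; exact hτ2)
    (by rw [htr, hdetA y' hxy' hy'1 hy'z]; exact hτ4)
  obtain ⟨D', hD', hf, hsnd⟩ := low_replace hD hAs
  refine good_step hxy' hdy' hD' (by rw [hsnd]; exact hcommon) hUcol' ?_ ?_
    ⟨0, by rw [show (0 : Fin 2).succ = 1 from rfl, hy'1]; exact one_ne_zero⟩
  · rw [hf]; exact hU00'
  · rw [hsnd]; exact hprod.symm

end CfsgLib.Lev.EigenBase

namespace CfsgLib.Lev

open Matrix EigenBase

variable {F : Type*} [Field F] [Fintype F]

/-- **Dimension three**: products of split classes without common eigenvector. -/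
theorem good_three (hq : 4 ≤ Fintype.card F) {l : List (Matrix (Fin 3) (Fin 3) F)}
    {g : Matrix (Fin 3) (Fin 3) F} (hl : 3 ≤ l.length)
    (hs : ∀ x ∈ l, SplitMat x ∧ ¬ IsScalarMat x ∧ x.det ≠ 0) (hg : ¬ IsScalarMat g)
    (hdet : g.det = (l.map det).prod) (hne : ¬ RankOne g ∨ ∃ x ∈ l, ¬ RankOne x) : Good l g := by
  rcases hne with hr | ⟨x, hx, hr⟩
  · obtain ⟨x, l, rfl⟩ := List.exists_cons_of_ne_nil (l := l) (by intro h; simp [h] at hl)
    refine good_three_front hq (by simp at hl; omega) (hs x List.mem_cons_self)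
      (fun z hz => hs z (List.mem_cons_of_mem _ hz)) hg (by simpa using hdet)
      (Or.inr (exists_cyc_three hr))
  · obtain ⟨l1, l2, rfl⟩ := List.append_of_mem hx
    refine good_of_front (fun z hz => (hs z (List.mem_append_left _ hz)).2.2) fun x' hx' => ?_
    obtain ⟨h1, h2, h3⟩ := hs x hx
    refine good_three_front hq (by simp at hl ⊢; omega)
      ⟨hx'.splitMat h1, hx'.not_isScalarMat h2, by rw [hx'.det_eq]; exact h3⟩
      (fun z hz => hs z (by simp only [List.mem_append, List.mem_cons] at hz ⊢; tauto)) hg ?_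
      (Or.inl (exists_cyc_three fun h => hr (hx'.rankOne h)))
    rw [hdet, hx'.det_eq]
    simp
    ring

end CfsgLib.Lev
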