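import Cfsg.Agent.Lib.Lev.Defs
import Mathlib.FieldTheory.Finite.GaloisField
import Mathlib.RingTheory.AdjoinRoot
import Mathlib.LinearAlgebra.Matrix.ToLin
import Mathlib.LinearAlgebra.Matrix.Charpoly.Coeff

/-!
Covering number of `PSL n q` (Lev): matrices with irreducible characteristic polynomial form one orbit
under determinant one conjugation, because the norm of the centralising field is surjective.
-/

set_option autoImplicit false
set_option linter.style.haveILetI false

namespace CfsgLib.Lev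

open Matrix Polynomial

variable {F : Type*} [Field F]

/-- The field generated by a matrix with irreducible characteristic polynomial, with a vector basis. -/
theorem exists_field_rep {n : ℕ} {p : F[X]} [Fact (Irreducible p)] (z : Matrix (Fin n) (Fin n) F)
    (hz : z.charpoly = p) :
    ∃ (Φ : AdjoinRoot p →ₐ[F] Matrix (Fin n) (Fin n) F) (Ψ : AdjoinRoot p ≃ₗ[F] (Fin n → F)),
      Φ (AdjoinRoot.root p) = z ∧ (∀ a b, Ψ (a * b) = Φ a *ᵥ Ψ b) ∧
      ∀ a, (Φ a).det = Algebra.norm F a := by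
  classical
  subst hz
  have hn : 0 < n := by
    have h := (Fact.out : Irreducible z.charpoly).natDegree_pos
    rwa [charpoly_natDegree_eq_dim, Fintype.card_fin] at h
  have hI : ∀ a ∈ Ideal.span {z.charpoly}, aeval z a = 0 := by
    intro a ha
    obtain ⟨b, rfl⟩ := Ideal.mem_span_singleton'.1 ha
    rw [map_mul, Matrix.aeval_self_charpoly, mul_zero]
  let Φ : AdjoinRoot z.charpoly →ₐ[F] Matrix (Fin n) (Fin n) F :=
    Ideal.Quotient.liftₐ (Ideal.span {z.charpoly}) (aeval z) hI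
  let e0 : Fin n → F := Pi.single ⟨0, hn⟩ 1
  let ψ : AdjoinRoot z.charpoly →ₗ[F] (Fin n → F) :=
    ((Matrix.mulVecBilin F F).flip e0).comp Φ.toLinearMap
  have hψ : ∀ a, ψ a = Φ a *ᵥ e0 := fun a => rfl
  have hinj : Function.Injective ψ := by
    rw [← LinearMap.ker_eq_bot, LinearMap.ker_eq_bot']
    intro a ha
    by_contra h0
    have h1 := congrArg (Φ a⁻¹ *ᵥ ·) (hψ a ▸ ha)
    simp only [mulVec_mulVec, ← map_mul, inv_mul_cancel₀ h0, map_one, one_mulVec, mulVec_zero] at h1
    have := congrFun h1 ⟨0, hn⟩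
    simp [e0] at this
  have hdim : Module.finrank F (AdjoinRoot z.charpoly) = Module.finrank F (Fin n → F) := by
    rw [(AdjoinRoot.powerBasis (charpoly_monic z).ne_zero).finrank, AdjoinRoot.powerBasis_dim,
      charpoly_natDegree_eq_dim, Module.finrank_pi]
  haveI : FiniteDimensional F (AdjoinRoot z.charpoly) :=
    (AdjoinRoot.powerBasis (charpoly_monic z).ne_zero).finite
  let Ψ := LinearMap.linearEquivOfInjective ψ hinj hdim
  have hmul : ∀ a b, Ψ (a * b) = Φ a *ᵥ Ψ b := fun a b => by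
    show ψ (a * b) = Φ a *ᵥ ψ b
    rw [hψ, hψ, map_mul, mulVec_mulVec]
  refine ⟨Φ, Ψ, ?_, hmul, fun a => ?_⟩
  · show aeval z (X : F[X]) = z
    rw [aeval_X]
  · have hc : (Ψ : AdjoinRoot z.charpoly →ₗ[F] _) ∘ₗ (Algebra.lmul F (AdjoinRoot z.charpoly) a) ∘ₗ
        (Ψ.symm : (Fin n → F) →ₗ[F] _) = Matrix.toLin' (Φ a) := by
      refine LinearMap.ext fun v => ?_
      show Ψ (a * Ψ.symm v) = _
      rw [hmul, LinearEquiv.apply_symm_apply, Matrix.toLin'_apply]
    rw [Algebra.norm_apply, ← LinearMap.det_conj _ Ψ, hc, LinearMap.det_toLin']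

variable [Fintype F]

/-- Matrices with the same irreducible characteristic polynomial are conjugate in determinant one. -/
theorem orb_of_irreducible {n : ℕ} {x y : Matrix (Fin n) (Fin n) F} (hx : Irreducible x.charpoly)
    (h : y.charpoly = x.charpoly) : Orb x y := by
  classical
  haveI : Fact (Irreducible x.charpoly) := ⟨hx⟩
  obtain ⟨Φ₁, Ψ₁, hr₁, hm₁, -⟩ := exists_field_rep (p := x.charpoly) x rfl
  obtain ⟨Φ₂, Ψ₂, hr₂, hm₂, hd₂⟩ := exists_field_rep (p := x.charpoly) y h
  haveI : Module.Finite F (AdjoinRoot x.charpoly) :=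
    (AdjoinRoot.powerBasis (charpoly_monic x).ne_zero).finite
  haveI : Finite (AdjoinRoot x.charpoly) := Module.finite_of_finite F
  set T : Matrix (Fin n) (Fin n) F :=
    LinearMap.toMatrix' (Ψ₁.symm.trans Ψ₂).toLinearMap with hT
  have hTv : ∀ v, T *ᵥ v = Ψ₂ (Ψ₁.symm v) := fun v => by
    rw [hT, ← Matrix.toLin'_apply, Matrix.toLin'_toMatrix']; rfl
  have hTx : T * x = y * T := by
    refine Matrix.ext_of_mulVec_single fun i => ?_
    set v : Fin n → F := Pi.single i 1
    rw [← mulVec_mulVec, ← mulVec_mulVec, hTv, hTv]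
    obtain ⟨b, hb⟩ := Ψ₁.surjective v
    rw [← hb, show x *ᵥ Ψ₁ b = Ψ₁ (AdjoinRoot.root _ * b) by rw [hm₁, hr₁], LinearEquiv.symm_apply_apply,
      LinearEquiv.symm_apply_apply, hm₂, hr₂]
  have hTd : T.det ≠ 0 := by
    intro h0
    obtain ⟨v, hv, hv0⟩ := Matrix.exists_mulVec_eq_zero_iff.2 h0
    rw [hTv] at hv0
    simp at hv0
    exact hv hv0
  obtain ⟨k, hk⟩ := FiniteField.norm_surjective F (AdjoinRoot x.charpoly) T.det⁻¹
  refine ⟨Φ₂ k * T, by rw [det_mul, hd₂, hk, inv_mul_cancel₀ hTd], ?_⟩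
  rw [mul_assoc, hTx, ← mul_assoc, ← mul_assoc]
  congr 1
  rw [← hr₂, ← map_mul, ← map_mul, mul_comm]

end CfsgLib.Lev
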