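import Cfsg.Agent.Lib.Lev.Defs
import Cfsg.Agent.Lib.Lev.IrredOrb
import Mathlib.LinearAlgebra.Matrix.Charpoly.Eigs
import Mathlib.LinearAlgebra.Matrix.Transvection
import Mathlib.LinearAlgebra.Matrix.ToLinearEquiv
import Mathlib.LinearAlgebra.Matrix.SchurComplement
import Mathlib.LinearAlgebra.Dual.Lemmas
import Mathlib.Algebra.Polynomial.SpecificDegree

/-!
Covering number of `PSL n q` (Lev), piece F: the step through an eigenvector.

A class with an eigenvalue contains block upper triangular matrices `blk a u M`; the step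
peels one factor so that the remaining product fixes a line, applies the smaller case to the
quotient, and fills in the top rows.
-/

set_option autoImplicit false

namespace CfsgLib.Lev

open Matrix

variable {F : Type*} [Field F]

namespace EigenStep

section Blk

variable {R : Type*} [CommRing R] {n : ℕ}

/-- The block upper triangular matrix with corner `a`, top row `u` and lower block `M`. -/
def blk (a : R) (u : Fin n → R) (M : Matrix (Fin n) (Fin n) R) :
    Matrix (Fin (n + 1)) (Fin (n + 1)) R :=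
  Matrix.of (Fin.cons (Fin.cons a u) fun i => Fin.cons 0 (M i))

variable (a b : R) (u v : Fin n → R) (M N : Matrix (Fin n) (Fin n) R)

@[simp] theorem blk_zero_zero : blk a u M 0 0 = a := rfl
@[simp] theorem blk_zero_succ (j : Fin n) : blk a u M 0 j.succ = u j := by simp [blk]
@[simp] theorem blk_succ_zero (i : Fin n) : blk a u M i.succ 0 = 0 := by simp [blk]
@[simp] theorem blk_succ_succ (i j : Fin n) : blk a u M i.succ j.succ = M i j := by simp [blk]

theorem blk_mul : blk a u M * blk b v N = blk (a * b) (a • v + u ᵥ* N) (M * N) := by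
  ext i j
  rw [mul_apply, Fin.sum_univ_succ]
  refine Fin.cases ?_ (fun i => ?_) i <;> refine Fin.cases ?_ (fun j => ?_) j <;>
    simp [vecMul, dotProduct, mul_apply]

theorem blk_one : blk (1 : R) (0 : Fin n → R) 1 = 1 := by
  ext i j
  refine Fin.cases ?_ (fun i => ?_) i <;> refine Fin.cases ?_ (fun j => ?_) j <;>
    simp [one_apply, Fin.succ_ne_zero, (Fin.succ_ne_zero _).symm]

theorem blk_sub_smul_one (c : R) : blk a u M - c • 1 = blk (a - c) u (M - c • 1) := by
  ext i j
  refine Fin.cases ?_ (fun i => ?_) i <;> refine Fin.cases ?_ (fun j => ?_) j <;>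
    simp [one_apply, Fin.succ_ne_zero, (Fin.succ_ne_zero _).symm]

theorem det_blk : (blk a u M).det = a * M.det := by
  rw [det_succ_column_zero, Fin.sum_univ_succ]
  simp only [blk_succ_zero, mul_zero, zero_mul, Finset.sum_const_zero, add_zero, blk_zero_zero,
    Fin.val_zero, pow_zero, one_mul, Fin.succAbove_zero]
  congr 2

theorem blk_mulVec (t : R) (z : Fin n → R) :
    blk a u M *ᵥ Fin.cons t z = Fin.cons (a * t + u ⬝ᵥ z) (M *ᵥ z) := by
  ext i
  simp only [mulVec, dotProduct]
  rw [Fin.sum_univ_succ]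
  refine Fin.cases ?_ (fun i => ?_) i <;> simp [mulVec, dotProduct]

theorem blk_mulVec_single : blk a u M *ᵥ Pi.single 0 1 = a • Pi.single 0 1 := by
  ext i
  rw [mulVec_single_one]
  refine Fin.cases ?_ (fun i => ?_) i <;> simp [Fin.succ_ne_zero]

theorem eq_blk_of_col {B : Matrix (Fin (n + 1)) (Fin (n + 1)) R}
    (h : ∀ i : Fin n, B i.succ 0 = 0) :
    B = blk (B 0 0) (fun j => B 0 j.succ) (B.submatrix Fin.succ Fin.succ) := by
  ext i j
  refine Fin.cases ?_ (fun i => ?_) i <;> refine Fin.cases ?_ (fun j => ?_) j <;> simp [h]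

theorem charpoly_blk : (blk a u M).charpoly = (Polynomial.X - Polynomial.C a) * M.charpoly := by
  have : charmatrix (blk a u M) =
      blk (Polynomial.X - Polynomial.C a) (fun j => -Polynomial.C (u j)) (charmatrix M) := by
    ext i j
    refine Fin.cases ?_ (fun i => ?_) i <;> refine Fin.cases ?_ (fun j => ?_) j <;>
      simp [charmatrix_apply, diagonal_apply, Fin.succ_ne_zero, (Fin.succ_ne_zero _).symm]
  rw [Matrix.charpoly, this, det_blk]
  rfl

end Blk

/-- A triple standing for the matrix `blk a u M`. -/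
abbrev Trip (F : Type*) (n : ℕ) := F × (Fin n → F) × Matrix (Fin n) (Fin n) F

/-- The matrix of a triple. -/
def tb {n : ℕ} (p : Trip F n) : Matrix (Fin (n + 1)) (Fin (n + 1)) F := blk p.1 p.2.1 p.2.2

section General

variable {n : ℕ}

theorem forall₂_orb_trans {l : List (Matrix (Fin n) (Fin n) F)} :
    ∀ {l' l''}, List.Forall₂ Orb l l' → List.Forall₂ Orb l' l'' → List.Forall₂ Orb l l'' := by
  induction l with
  | nil => intro l' l'' h h'; cases h; cases h'; exact .nil
  | cons a t ih =>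
    intro l' l'' h h'
    cases h with
    | cons h1 h2 =>
      cases h' with
      | cons h3 h4 => exact .cons (h1.trans h3) (ih h2 h4)

theorem good_of_forall₂ {l l' : List (Matrix (Fin n) (Fin n) F)} {g : Matrix (Fin n) (Fin n) F}
    (h : List.Forall₂ Orb l l') (hg : Good l' g) : Good l g :=
  let ⟨y, h1, h2, h3⟩ := hg; ⟨y, forall₂_orb_trans h h1, h2, h3⟩

theorem forall₂_orb_det {l l' : List (Matrix (Fin n) (Fin n) F)} (h : List.Forall₂ Orb l l') :
    (l'.map det).prod = (l.map det).prod := by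
  induction h with
  | nil => rfl
  | cons h1 _ ih => simp [ih, h1.det_eq]

theorem forall₂_orb_replicate {x : Matrix (Fin n) (Fin n) F} :
    ∀ {l : List (Matrix (Fin n) (Fin n) F)}, (∀ y ∈ l, Orb x y) →
      List.Forall₂ Orb (List.replicate l.length x) l := by
  intro l h
  induction l with
  | nil => exact .nil
  | cons a t ih =>
    rw [List.length_cons, List.replicate_succ]
    exact .cons (h a (by simp)) (ih fun y hy => h y (by simp [hy]))

theorem orb_of_mul_eq {x B P : Matrix (Fin n) (Fin n) F} (hP : P.det = 1)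
    (h : x * P = P * B) : Orb x B :=
  Orb.symm ⟨P, hP, h.symm⟩

theorem orb_conj {x P : Matrix (Fin n) (Fin n) F} (hP : P.det = 1) : Orb x (P⁻¹ * x * P) :=
  orb_of_mul_eq hP (by
    rw [← mul_assoc P, ← mul_assoc P, mul_nonsing_inv _ (by rw [hP]; exact isUnit_one), one_mul])

theorem orb_inv {x y : Matrix (Fin n) (Fin n) F} (hx : x.det ≠ 0) (h : Orb x y) :
    Orb x⁻¹ y⁻¹ := by
  have hy : y.det ≠ 0 := by rw [h.det_eq]; exact hx
  obtain ⟨k, kd, ke⟩ := h
  refine ⟨k, kd, ?_⟩
  calc k * x⁻¹ = y⁻¹ * (y * k) * x⁻¹ := by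
        rw [← mul_assoc y⁻¹, nonsing_inv_mul _ (isUnit_iff_ne_zero.2 hy), one_mul]
    _ = y⁻¹ * k := by
        rw [← ke, mul_assoc y⁻¹, mul_assoc k, mul_nonsing_inv _ (isUnit_iff_ne_zero.2 hx),
          mul_one]

theorem not_isScalarMat_inv {x : Matrix (Fin n) (Fin n) F} (hx : x.det ≠ 0)
    (h : ¬ IsScalarMat x) : ¬ IsScalarMat x⁻¹ := by
  rintro ⟨c, hc⟩
  refine h ⟨c⁻¹, ?_⟩
  have h1 : c • x = 1 := by
    have := mul_nonsing_inv x (isUnit_iff_ne_zero.2 hx)
    rwa [hc, Matrix.mul_smul, mul_one] at this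
  by_cases h0 : c = 0
  · rw [h0, zero_smul] at h1
    have h2 : x = x * 1 := (mul_one x).symm
    rw [← h1, mul_zero] at h2
    rw [h2, ← h1, smul_zero]
  · rw [← h1, smul_smul, inv_mul_cancel₀ h0, one_smul]

theorem noEigen_of_orb {x y : Matrix (Fin n) (Fin n) F} (hx : NoEigen x) (h : Orb x y) :
    NoEigen y := by
  intro c
  obtain ⟨k, kd, ke⟩ := h
  have : k * (x - c • 1) = (y - c • 1) * k := by simp [mul_sub, sub_mul, ke]
  have hd := congrArg Matrix.det this
  rw [det_mul, det_mul, kd, one_mul, mul_one] at hd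
  rw [← hd]
  exact hx c

theorem exists_eigvec {x : Matrix (Fin n) (Fin n) F} {c : F} (h : (x - c • 1).det = 0) :
    ∃ v, v ≠ 0 ∧ x *ᵥ v = c • v := by
  obtain ⟨v, hv, he⟩ := exists_mulVec_eq_zero_iff.2 h
  refine ⟨v, hv, ?_⟩
  rw [sub_mulVec, smul_mulVec, one_mulVec, sub_eq_zero] at he
  exact he

theorem det_sub_of_isRoot {x : Matrix (Fin n) (Fin n) F} {c : F} (h : x.charpoly.IsRoot c) :
    (x - c • 1).det = 0 := by
  rw [Polynomial.IsRoot, eval_charpoly] at h
  have : x - c • 1 = -(scalar (Fin n) c - x) := by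
    rw [neg_sub]
    simp [scalar_apply, smul_one_eq_diagonal]
  rw [this, det_neg, h, mul_zero]

theorem exists_frame {k N : ℕ} (hk : k < N) (f : Fin k → Fin N → F)
    (hf : LinearIndependent F f) :
    ∃ P : Matrix (Fin N) (Fin N) F, P.det = 1 ∧
      ∀ i : Fin k, P *ᵥ Pi.single (Fin.castLE hk.le i) 1 = f i := by
  have ext : ∀ (d k : ℕ) (h : k + d = N) (f : Fin k → Fin N → F), LinearIndependent F f →
      ∃ g : Fin N → Fin N → F, LinearIndependent F g ∧
        ∀ i : Fin k, g (Fin.castLE (by omega) i) = f i := by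
    intro d
    induction d with
    | zero =>
      intro k h f hf
      obtain rfl : k = N := by omega
      exact ⟨f, hf, fun i => by simp⟩
    | succ d ih =>
      intro k h f hf
      obtain ⟨z, hz⟩ := exists_linearIndependent_snoc_of_lt_finrank hf
        (by rw [Module.finrank_fin_fun]; omega)
      obtain ⟨g, hg, he⟩ := ih (k + 1) (by omega) _ hz
      refine ⟨g, hg, fun i => ?_⟩
      have := he i.castSucc
      rw [Fin.snoc_castSucc] at this
      rw [← this]
      rfl
  obtain ⟨g, hg, he⟩ := ext (N - k) k (by omega) f hf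
  set P0 : Matrix (Fin N) (Fin N) F := (Matrix.of g)ᵀ with hP0
  have hu : IsUnit P0 := Matrix.linearIndependent_cols_iff_isUnit.1 (by simpa [hP0] using hg)
  have hd : P0.det ≠ 0 := ((Matrix.isUnit_iff_isUnit_det _).1 hu).ne_zero
  refine ⟨P0 * diagonal (Function.update 1 ⟨k, hk⟩ P0.det⁻¹), ?_, fun i => ?_⟩
  · rw [det_mul, det_diagonal, Finset.prod_update_of_mem (Finset.mem_univ _)]
    simp [hd]
  · rw [mulVec_single_one]
    ext j
    have hne : Fin.castLE hk.le i ≠ ⟨k, hk⟩ := fun h => by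
      have := congrArg Fin.val h
      simp at this
      omega
    simp only [col_apply, mul_diagonal, Function.update_of_ne hne, Pi.one_apply, mul_one]
    exact congrFun (he i) j

theorem exists_frame_one (hn : 1 ≤ n) {v : Fin (n + 1) → F} (hv : v ≠ 0) :
    ∃ P : Matrix (Fin (n + 1)) (Fin (n + 1)) F, P.det = 1 ∧ P *ᵥ Pi.single 0 1 = v := by
  obtain ⟨P, hP, he⟩ := exists_frame (k := 1) (N := n + 1) (by omega) ![v]
    (linearIndependent_unique_iff.2 (by simpa using hv))
  exact ⟨P, hP, by simpa using he 0⟩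

theorem exists_frame_two {v w : Fin (n + 3) → F} (hv : v ≠ 0) (hw : ∀ c : F, w ≠ c • v) :
    ∃ P : Matrix (Fin (n + 3)) (Fin (n + 3)) F, P.det = 1 ∧ P *ᵥ Pi.single 0 1 = v ∧
      P *ᵥ Pi.single 1 1 = w := by
  have hli : LinearIndependent F ![v, w] := by
    rw [linearIndependent_fin2]
    refine ⟨by simpa using hw 0, fun a ha => ?_⟩
    simp at ha
    by_cases h0 : a = 0
    · rw [h0, zero_smul] at ha; exact hv ha.symm
    · exact hw a⁻¹ (by rw [← ha, smul_smul, inv_mul_cancel₀ h0, one_smul])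
  obtain ⟨P, hP, he⟩ := exists_frame (k := 2) (N := n + 3) (by omega) ![v, w] hli
  refine ⟨P, hP, by simpa using he 0, ?_⟩
  have h1 : Fin.castLE (by omega : 2 ≤ n + 3) (1 : Fin 2) = (1 : Fin (n + 3)) := by
    ext; simp
  simpa [h1] using he 1

theorem exists_moved {g : Matrix (Fin n) (Fin n) F} (hg : ¬ IsScalarMat g) :
    ∃ v : Fin n → F, v ≠ 0 ∧ ∀ c : F, g *ᵥ v ≠ c • v := by
  by_contra hcon
  push Not at hcon
  have key : ∀ v, ∃ c : F, g *ᵥ v = c • v := by
    intro v
    by_cases hv : v = 0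
    · exact ⟨0, by simp [hv]⟩
    · exact hcon v hv
  rcases Nat.eq_zero_or_pos n with rfl | hn
  · exact hg ⟨0, by ext i; exact i.elim0⟩
  choose c hc using fun i : Fin n => key (Pi.single i 1)
  have hgij : ∀ i j, g i j = if i = j then c j else 0 := by
    intro i j
    have := congrFun (hc j) i
    rw [mulVec_single_one] at this
    simpa [Pi.single_apply] using this
  refine hg ⟨c ⟨0, hn⟩, ?_⟩
  ext i j
  rw [hgij]
  by_cases hij : i = j
  · subst hij
    by_cases h0 : i = ⟨0, hn⟩
    · simp [h0]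
    obtain ⟨t, ht⟩ := key (Pi.single i 1 + Pi.single ⟨0, hn⟩ 1)
    rw [mulVec_add, hc, hc] at ht
    have h1 := congrFun ht i
    have h2 := congrFun ht ⟨0, hn⟩
    simp [Ne.symm h0, h0] at h1 h2
    simp [h1, h2]
  · simp [hij]

theorem rankOne_of_range {x : Matrix (Fin n) (Fin n) F} {c : F} {a : Fin n → F}
    (h : ∀ z, ∃ t : F, (x - c • 1) *ᵥ z = t • a) : RankOne x := by
  choose t ht using fun j : Fin n => h (Pi.single j 1)
  refine ⟨c, a, t, ?_⟩
  ext i j
  have := congrFun (ht j) i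
  rw [mulVec_single_one] at this
  simp [vecMulVec_apply] at this ⊢
  linear_combination this

end General

/-! ### Choice of eigenlines -/

section Children

variable {n : ℕ}

theorem exists_blk_of_eig (hn : 1 ≤ n) {x : Matrix (Fin (n + 1)) (Fin (n + 1)) F}
    {v : Fin (n + 1) → F} (hv : v ≠ 0) {c : F} (he : x *ᵥ v = c • v) :
    ∃ (P : Matrix (Fin (n + 1)) (Fin (n + 1)) F) (u : Fin n → F)
      (M : Matrix (Fin n) (Fin n) F),
      P.det = 1 ∧ P *ᵥ Pi.single 0 1 = v ∧ x * P = P * blk c u M := by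
  obtain ⟨P, hP, hPv⟩ := exists_frame_one hn hv
  have hu : IsUnit P.det := by rw [hP]; exact isUnit_one
  set B := P⁻¹ * x * P with hB
  have hcol : B *ᵥ Pi.single 0 1 = c • Pi.single 0 1 := by
    rw [hB, ← mulVec_mulVec, ← mulVec_mulVec, hPv, he, mulVec_smul, ← hPv, mulVec_mulVec,
      nonsing_inv_mul _ hu, one_mulVec]
  rw [mulVec_single_one] at hcol
  have h00 : B 0 0 = c := by simpa using congrFun hcol 0
  have hs : ∀ i : Fin n, B i.succ 0 = 0 := fun i => by
    simpa [Fin.succ_ne_zero] using congrFun hcol i.succ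
  refine ⟨P, fun j => B 0 j.succ, B.submatrix Fin.succ Fin.succ, hP, hPv, ?_⟩
  conv_rhs => rw [← h00, ← eq_blk_of_col hs, hB, ← mul_assoc, ← mul_assoc,
    mul_nonsing_inv _ hu, one_mul]

theorem quot_range {x P : Matrix (Fin (n + 1)) (Fin (n + 1)) F} {v : Fin (n + 1) → F} {lam : F}
    {u : Fin n → F} {c : F} {a b : Fin n → F} (hP : P.det = 1)
    (hPv : P *ᵥ Pi.single 0 1 = v) (h : x * P = P * blk lam u (c • 1 + vecMulVec a b))
    (z : Fin (n + 1) → F) :
    ∃ t s : F, (x - c • 1) *ᵥ z = t • v + s • (P *ᵥ Fin.cons 0 a) := by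
  have hu : IsUnit P.det := by rw [hP]; exact isUnit_one
  set w := P⁻¹ *ᵥ z
  have hz : z = P *ᵥ w := by rw [mulVec_mulVec, mul_nonsing_inv _ hu, one_mulVec]
  have h2 : (x - c • 1) * P = P * blk (lam - c) u (vecMulVec a b) := by
    rw [sub_mul, h, Matrix.smul_mul, one_mul]
    conv_lhs => arg 2; rw [show c • P = P * (c • 1) by rw [Matrix.mul_smul, mul_one]]
    rw [← mul_sub, blk_sub_smul_one, add_sub_cancel_left]
  refine ⟨(lam - c) * w 0 + u ⬝ᵥ Fin.tail w, b ⬝ᵥ Fin.tail w, ?_⟩
  rw [hz, mulVec_mulVec, h2, ← mulVec_mulVec]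
  conv_lhs => rw [← Fin.cons_self_tail w, blk_mulVec]
  rw [← hPv, ← mulVec_smul, ← mulVec_smul, ← mulVec_add]
  congr 1
  ext i
  refine Fin.cases ?_ (fun i => ?_) i
  · simp
  · simp [vecMulVec_mulVec, Fin.succ_ne_zero, mul_comm]

theorem quot_scalar {x P : Matrix (Fin (n + 1)) (Fin (n + 1)) F} {v : Fin (n + 1) → F} {lam : F}
    {u : Fin n → F} {M : Matrix (Fin n) (Fin n) F} (hP : P.det = 1)
    (hPv : P *ᵥ Pi.single 0 1 = v) (h : x * P = P * blk lam u M) {c : F} (hM : M = c • 1)
    (z : Fin (n + 1) → F) :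
    ∃ t : F, (x - c • 1) *ᵥ z = t • v := by
  obtain ⟨t, s, hts⟩ := quot_range (a := 0) (b := 0) (u := u) (c := c) (lam := lam) hP hPv
    (by rw [h, hM]; simp) z
  refine ⟨t, ?_⟩
  have h0 : (Fin.cons 0 (0 : Fin n → F) : Fin (n + 1) → F) = 0 := by
    ext i; refine Fin.cases ?_ (fun i => ?_) i <;> simp
  rw [hts, h0, mulVec_zero, smul_zero, add_zero]

theorem child_facts {x : Matrix (Fin (n + 1)) (Fin (n + 1)) F} (hd : x.det ≠ 0) {c : F}
    {u : Fin n → F} {M : Matrix (Fin n) (Fin n) F} (h : Orb x (blk c u M)) :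
    c ≠ 0 ∧ M.det ≠ 0 := by
  rw [← h.det_eq, det_blk] at hd
  exact ⟨left_ne_zero_of_mul hd, right_ne_zero_of_mul hd⟩

theorem charpoly_of_orb {x y : Matrix (Fin n) (Fin n) F} (h : Orb x y) :
    y.charpoly = x.charpoly := by
  obtain ⟨k, kd, ke⟩ := h
  have hu : IsUnit k := (Matrix.isUnit_iff_isUnit_det _).2 (by rw [kd]; exact isUnit_one)
  obtain ⟨U, rfl⟩ := hu
  have : y = (U : Matrix (Fin n) (Fin n) F) * x * (↑U⁻¹ : Matrix (Fin n) (Fin n) F) := by
    rw [ke, mul_assoc, Units.mul_inv, mul_one]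
  rw [this, Matrix.coe_units_inv, charpoly_units_conj]

theorem splitMat_child {x : Matrix (Fin (n + 1)) (Fin (n + 1)) F} (hs : SplitMat x) {c : F}
    {u : Fin n → F} {M : Matrix (Fin n) (Fin n) F} (h : Orb x (blk c u M)) : SplitMat M := by
  unfold SplitMat at hs ⊢
  rw [← charpoly_of_orb h, charpoly_blk] at hs
  exact Polynomial.splits_X_sub_C_mul_iff.1 hs

theorem exists_root {x : Matrix (Fin (n + 1)) (Fin (n + 1)) F} (hs : SplitMat x) :
    ∃ c : F, (x - c • 1).det = 0 := by
  obtain ⟨c, hc⟩ := Polynomial.Splits.exists_eval_eq_zero hs (by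
    rw [charpoly_degree_eq_dim, Fintype.card_fin]
    exact_mod_cast Nat.succ_ne_zero n)
  exact ⟨c, det_sub_of_isRoot hc⟩

theorem two_le_finrank_range {x : Matrix (Fin n) (Fin n) F} (hr : ¬ RankOne x) (c : F) :
    2 ≤ Module.finrank F (x - c • 1).mulVecLin.range := by
  by_contra hlt
  obtain ⟨a, ha⟩ := finrank_le_one_iff.1 (by omega : Module.finrank F (x - c • 1).mulVecLin.range ≤ 1)
  refine hr (rankOne_of_range (c := c) (a := (a : Fin n → F)) fun z => ?_)
  obtain ⟨t, ht⟩ := ha ⟨(x - c • 1).mulVecLin z, LinearMap.mem_range_self _ z⟩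
  exact ⟨t, (congrArg Subtype.val ht).symm⟩

/-- An eigenvector whose quotient is not scalar plus rank one. -/
theorem exists_good_eig (hn : 4 ≤ n) {x : Matrix (Fin (n + 1)) (Fin (n + 1)) F}
    (hs : SplitMat x) (hr : ¬ RankOne x) :
    ∃ (c : F) (v : Fin (n + 1) → F), v ≠ 0 ∧ x *ᵥ v = c • v ∧
      ∀ (d : F) (a : Fin (n + 1) → F),
        ¬ ∀ z, ∃ t s : F, (x - d • 1) *ᵥ z = t • v + s • a := by
  have le2 : ∀ (v : Fin (n + 1) → F) (d : F) (a : Fin (n + 1) → F),
      (∀ z, ∃ t s : F, (x - d • 1) *ᵥ z = t • v + s • a) →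
        (x - d • 1).mulVecLin.range ≤ Submodule.span F (Set.range ![v, a]) := by
    rintro v d a h _ ⟨z, rfl⟩
    obtain ⟨t, s, hts⟩ := h z
    rw [mulVecLin_apply, hts]
    exact Submodule.add_mem _ (Submodule.smul_mem _ _ (Submodule.subset_span ⟨0, rfl⟩))
      (Submodule.smul_mem _ _ (Submodule.subset_span ⟨1, rfl⟩))
  have sp2 : ∀ v a : Fin (n + 1) → F,
      Module.finrank F (Submodule.span F (Set.range ![v, a])) ≤ 2 := fun v a => by
    simpa [Set.finrank] using finrank_range_le_card (R := F) ![v, a]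
  by_cases hc0 : ∃ c0 : F, Module.finrank F (x - c0 • 1).mulVecLin.range ≤ 2
  · obtain ⟨c0, hc0⟩ := hc0
    set K := (x - c0 • 1).mulVecLin.ker with hK
    have hdim : 3 ≤ Module.finrank F K := by
      have : Module.finrank F (x - c0 • 1).mulVecLin.range + Module.finrank F K =
          Module.finrank F (Fin (n + 1) → F) := LinearMap.finrank_range_add_finrank_ker _
      rw [Module.finrank_fin_fun] at this
      omega
    obtain ⟨v, hvK, hvR⟩ := SetLike.not_le_iff_exists.1 (show ¬ K ≤ (x - c0 • 1).mulVecLin.range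
      from fun h => by have := Submodule.finrank_mono h; omega)
    have hev : x *ᵥ v = c0 • v := by
      have : (x - c0 • 1) *ᵥ v = 0 := hvK
      rw [sub_mulVec, smul_mulVec, one_mulVec, sub_eq_zero] at this
      exact this
    refine ⟨c0, v, fun h0 => hvR (h0 ▸ Submodule.zero_mem _), hev, fun d a h => ?_⟩
    have hle := le2 v d a h
    by_cases hd : d = c0
    · subst hd
      have heq := Submodule.eq_of_le_of_finrank_le hle
        ((sp2 v a).trans (two_le_finrank_range hr d))
      exact hvR (heq ▸ Submodule.subset_span ⟨0, rfl⟩)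
    · have hKle : K ≤ (x - d • 1).mulVecLin.range := by
        intro z hz
        have hz' : (x - c0 • 1) *ᵥ z = 0 := hz
        rw [sub_mulVec, smul_mulVec, one_mulVec, sub_eq_zero] at hz'
        refine ⟨(c0 - d)⁻¹ • z, ?_⟩
        rw [map_smul, mulVecLin_apply, sub_mulVec, smul_mulVec, one_mulVec, hz', ← sub_smul,
          smul_smul, inv_mul_cancel₀ (sub_ne_zero.2 (Ne.symm hd)), one_smul]
      have := (Submodule.finrank_mono (hKle.trans hle)).trans (sp2 v a)
      omega
  · push Not at hc0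
    obtain ⟨c, hc⟩ := exists_root hs
    obtain ⟨v, hv, he⟩ := exists_eigvec hc
    refine ⟨c, v, hv, he, fun d a h => ?_⟩
    have := (Submodule.finrank_mono (le2 v d a h)).trans (sp2 v a)
    have := hc0 d
    omega

theorem not_scalar_of_not_rankOne {x P : Matrix (Fin (n + 1)) (Fin (n + 1)) F}
    (hr : ¬ RankOne x) {v : Fin (n + 1) → F} {lam : F} {u : Fin n → F}
    {M : Matrix (Fin n) (Fin n) F} (hP : P.det = 1)
    (hPv : P *ᵥ Pi.single 0 1 = v) (h : x * P = P * blk lam u M) : ¬ IsScalarMat M := by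
  rintro ⟨c, hc⟩
  exact hr (rankOne_of_range (quot_scalar hP hPv h hc))

/-- An eigenline with nonscalar quotient, not scalar plus rank one if possible. -/
theorem exists_child (hn : 2 ≤ n) {x : Matrix (Fin (n + 1)) (Fin (n + 1)) F}
    (hs : SplitMat x) (hx : ¬ IsScalarMat x) :
    ∃ (c : F) (u : Fin n → F) (M : Matrix (Fin n) (Fin n) F),
      Orb x (blk c u M) ∧ ¬ IsScalarMat M ∧ (4 ≤ n → ¬ RankOne x → ¬ RankOne M) := by
  by_cases hr : RankOne x
  · obtain ⟨c, a, b, hab⟩ := id hr
    have hb : b ≠ 0 := fun h0 => hx ⟨c, by rw [hab, h0]; simp⟩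
    have ha : a ≠ 0 := fun h0 => hx ⟨c, by rw [hab, h0]; simp⟩
    let φ : (Fin (n + 1) → F) →ₗ[F] F :=
      { toFun := fun z => b ⬝ᵥ z
        map_add' := fun y z => dotProduct_add _ y z
        map_smul' := fun t z => dotProduct_smul t _ z }
    have hker : 2 ≤ Module.finrank F φ.ker := by
      have h1 := φ.finrank_range_add_finrank_ker
      rw [Module.finrank_fin_fun] at h1
      have h2 := φ.range.finrank_le
      rw [Module.finrank_self] at h2
      omega
    have hnl : ∀ w : Fin (n + 1) → F, ∃ z, b ⬝ᵥ z = 0 ∧ ∀ t : F, z ≠ t • w := by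
      intro w
      obtain ⟨z, hzK, hzw⟩ := SetLike.not_le_iff_exists.1 (show ¬ φ.ker ≤ Submodule.span F {w}
        from fun h => by
          have := Submodule.finrank_mono h
          have h3 : Module.finrank F (Submodule.span F {w}) ≤ 1 := by
            simpa using finrank_span_le_card (R := F) ({w} : Set (Fin (n + 1) → F))
          omega)
      exact ⟨z, hzK, fun t ht => hzw (ht ▸ Submodule.smul_mem _ _
        (Submodule.mem_span_singleton_self w))⟩
    obtain ⟨v, hbv, hva⟩ := hnl a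
    have hv : v ≠ 0 := by simpa using hva 0
    have hev : x *ᵥ v = c • v := by
      rw [hab, add_mulVec, smul_mulVec, one_mulVec, vecMulVec_mulVec, hbv]; simp
    obtain ⟨P, u, M, hP, hPv, hPx⟩ := exists_blk_of_eig (by omega) hv hev
    refine ⟨c, u, M, orb_of_mul_eq hP hPx, ?_, fun _ h => absurd hr h⟩
    rintro ⟨d, hd⟩
    have hq := quot_scalar hP hPv hPx hd
    have happ : ∀ z, (x - d • 1) *ᵥ z = (c - d) • z + (b ⬝ᵥ z) • a := by
      intro z
      rw [hab, sub_mulVec, add_mulVec, smul_mulVec, smul_mulVec, one_mulVec, vecMulVec_mulVec,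
        sub_smul]
      ext i
      simp [mul_comm]
      ring
    obtain ⟨z, hbz, hzv⟩ := hnl v
    have hdc : c - d = 0 := by
      by_contra hne
      obtain ⟨t, ht⟩ := hq z
      rw [happ, hbz, zero_smul, add_zero] at ht
      exact hzv ((c - d)⁻¹ * t) (by rw [← smul_smul, ← ht, smul_smul, inv_mul_cancel₀ hne,
        one_smul])
    obtain ⟨j, hj⟩ : ∃ j, b j ≠ 0 := Function.ne_iff.1 hb
    obtain ⟨t, ht⟩ := hq (Pi.single j 1)
    rw [happ, hdc, zero_smul, zero_add, dotProduct_single_one] at ht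
    by_cases ht0 : t = 0
    · rw [ht0, zero_smul, smul_eq_zero] at ht
      exact ht.elim hj ha
    · exact hva (t⁻¹ * b j) (by rw [← smul_smul, ht, smul_smul, inv_mul_cancel₀ ht0, one_smul])
  · by_cases hn4 : 4 ≤ n
    · obtain ⟨c, v, hv, he, hbad⟩ := exists_good_eig hn4 hs hr
      obtain ⟨P, u, M, hP, hPv, hPx⟩ := exists_blk_of_eig (by omega) hv he
      refine ⟨c, u, M, orb_of_mul_eq hP hPx, not_scalar_of_not_rankOne hr hP hPv hPx,
        fun _ _ => ?_⟩
      rintro ⟨d, a, b, hM⟩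
      exact hbad d _ (quot_range hP hPv (by rw [hPx, hM]))
    · obtain ⟨c, hc⟩ := exists_root hs
      obtain ⟨v, hv, he⟩ := exists_eigvec hc
      obtain ⟨P, u, M, hP, hPv, hPx⟩ := exists_blk_of_eig (by omega) hv he
      exact ⟨c, u, M, orb_of_mul_eq hP hPx, not_scalar_of_not_rankOne hr hP hPv hPx,
        fun h => absurd h hn4⟩

end Children

/-! ### The top rows -/

section Fill

variable {n : ℕ}

theorem prod_mulVec {L : List (Trip F n)} {z : Fin n → F}
    (h : ∀ p ∈ L, p.2.2 *ᵥ z = p.1 • z) :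
    (L.map fun p => p.2.2).prod *ᵥ z = (L.map fun p => p.1).prod • z := by
  induction L with
  | nil => simp
  | cons p L ih =>
    rw [List.map_cons, List.prod_cons, List.map_cons, List.prod_cons, ← mulVec_mulVec,
      ih fun q hq => h q (by simp [hq]), mulVec_smul, h p (by simp), smul_smul, mul_comm]

theorem orb_top (a : F) (u s : Fin n → F) (M : Matrix (Fin n) (Fin n) F) :
    Orb (blk a u M) (blk a (u + s ᵥ* (M - a • 1)) M) := by
  refine ⟨blk 1 s 1, by rw [det_blk, det_one, one_mul], ?_⟩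
  rw [blk_mul, blk_mul, one_mul, mul_one, one_mul, mul_one]
  congr 1
  rw [vecMul_sub, vecMul_smul, vecMul_one, vecMul_one, one_smul]
  abel

theorem orb_lift (a : F) (u : Fin n → F) {M M' : Matrix (Fin n) (Fin n) F} (h : Orb M M') :
    ∃ u', Orb (blk a u M) (blk a u' M') := by
  obtain ⟨k, kd, ke⟩ := h
  have hu : IsUnit k.det := by rw [kd]; exact isUnit_one
  refine ⟨u ᵥ* k⁻¹, blk 1 0 k, by rw [det_blk, kd, one_mul], ?_⟩
  rw [blk_mul, blk_mul, ke, zero_vecMul, add_zero, one_smul, smul_zero, zero_add, vecMul_vecMul,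
    nonsing_inv_mul _ hu, vecMul_one, one_mul, mul_one]

theorem fill_space (L : List (Trip F n)) (ha : ∀ p ∈ L, p.1 ≠ 0) :
    ∃ (W : Submodule F (Fin n → F)) (u0 : Fin n → F),
      (∀ d ∈ W, ∃ ys, List.Forall₂ (fun p y => Orb (tb p) y ∧ ∃ u', y = blk p.1 u' p.2.2) L ys ∧
        ys.prod = blk (L.map fun p => p.1).prod (u0 + d) (L.map fun p => p.2.2).prod) ∧
      ∀ z, (∀ d ∈ W, d ⬝ᵥ z = 0) → ∀ p ∈ L, p.2.2 *ᵥ z = p.1 • z := by
  induction L with
  | nil =>
    refine ⟨⊥, 0, fun d hd => ⟨[], .nil, ?_⟩, by simp⟩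
    rw [Submodule.mem_bot] at hd
    simp [hd, blk_one]
  | cons p L ih =>
    obtain ⟨W, u0, hW, hZ⟩ := ih fun q hq => ha q (by simp [hq])
    obtain ⟨a, u, M⟩ := p
    have ha0 : a ≠ 0 := ha (a, u, M) (by simp)
    set A := (L.map fun p => p.1).prod with hA
    set MM := (L.map fun p => p.2.2).prod with hMM
    refine ⟨W.map (a • LinearMap.id) ⊔ LinearMap.range (vecMulLinear ((M - a • 1) * MM)),
      a • u0 + u ᵥ* MM, ?_, ?_⟩
    · intro d hd
      obtain ⟨d1, hd1, d2, hd2, rfl⟩ := Submodule.mem_sup.1 hd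
      obtain ⟨d0, hd0, rfl⟩ := Submodule.mem_map.1 hd1
      obtain ⟨s, rfl⟩ := hd2
      obtain ⟨ys, hys, hprod⟩ := hW d0 hd0
      refine ⟨blk a (u + s ᵥ* (M - a • 1)) M :: ys, .cons ⟨orb_top a u s M, _, rfl⟩ hys, ?_⟩
      rw [List.prod_cons, hprod, blk_mul]
      simp only [List.map_cons, List.prod_cons, ← hA, ← hMM]
      congr 1
      simp only [LinearMap.smul_apply, LinearMap.id_apply, vecMulLinear_apply, add_vecMul,
        vecMul_vecMul, smul_add]
      abel
    · intro z hz q hq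
      have hL : ∀ p ∈ L, p.2.2 *ᵥ z = p.1 • z := hZ z fun d hd => by
        have := hz _ (Submodule.mem_sup_left (Submodule.mem_map_of_mem hd))
        rw [LinearMap.smul_apply, LinearMap.id_apply, smul_dotProduct, smul_eq_zero] at this
        exact this.resolve_left ha0
      rcases List.mem_cons.1 hq with rfl | hq
      · have hA0 : A ≠ 0 := by
          rw [hA]
          refine List.prod_ne_zero fun h => ?_
          obtain ⟨p, hp, hp0⟩ := List.mem_map.1 h
          exact ha p (by simp [hp]) hp0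
        have h0 : ((M - a • 1) * MM) *ᵥ z = 0 := by
          ext i
          have := hz _ (Submodule.mem_sup_right (LinearMap.mem_range_self _ (Pi.single i 1)))
          rw [vecMulLinear_apply, ← dotProduct_mulVec, single_one_dotProduct] at this
          simpa using this
        rw [← mulVec_mulVec, hMM, prod_mulVec hL, mulVec_smul, smul_eq_zero] at h0
        have := h0.resolve_left hA0
        rw [sub_mulVec, smul_mulVec, one_mulVec, sub_eq_zero] at this
        exact this
      · exact hL q hq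

theorem lift_list (L : List (Trip F n)) :
    ∀ yM, List.Forall₂ Orb (L.map fun p => p.2.2) yM →
      ∃ L' : List (Trip F n), L'.map (fun p => p.1) = L.map (fun p => p.1) ∧
        L'.map (fun p => p.2.2) = yM ∧ List.Forall₂ Orb (L.map tb) (L'.map tb) := by
  induction L with
  | nil => intro yM h; cases h; exact ⟨[], rfl, rfl, .nil⟩
  | cons p L ih =>
    intro yM h
    cases h with
    | cons h1 h2 =>
      obtain ⟨u', hu'⟩ := orb_lift p.1 p.2.1 h1
      obtain ⟨L', e1, e2, e3⟩ := ih _ h2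
      exact ⟨(p.1, u', _) :: L', by simp [e1], by simp [e2], .cons hu' e3⟩

/-- Any top row can be realised over a good product in the quotient. -/
theorem fill (L : List (Trip F n)) (ha : ∀ p ∈ L, p.1 ≠ 0) {U : Matrix (Fin n) (Fin n) F}
    (hU : Good (L.map fun p => p.2.2) U) (u : Fin n → F) :
    ∃ ys, List.Forall₂ Orb (L.map tb) ys ∧ ys.prod = blk (L.map fun p => p.1).prod u U ∧
      ∀ w : Fin (n + 1) → F, (∀ y ∈ ys, ∃ c : F, y *ᵥ w = c • w) → Fin.tail w = 0 := by
  obtain ⟨yM, h1, h2, h3⟩ := hU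
  obtain ⟨L', e1, e2, e3⟩ := lift_list L yM h1
  have ha' : ∀ p ∈ L', p.1 ≠ 0 := by
    intro p hp
    have : p.1 ∈ L.map fun p => p.1 := e1 ▸ List.mem_map_of_mem hp
    obtain ⟨q, hq, hqe⟩ := List.mem_map.1 this
    rw [← hqe]
    exact ha q hq
  obtain ⟨W, u0, hW, hZ⟩ := fill_space L' ha'
  have htop : W = ⊤ := by
    by_contra hne
    obtain ⟨f, hf0, hf⟩ := Submodule.exists_le_ker_of_lt_top W (lt_top_iff_ne_top.2 hne)
    set z := (dotProductEquiv F (Fin n)).symm f with hz
    have hfz : ∀ d, f d = z ⬝ᵥ d := fun d => by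
      conv_lhs => rw [← (dotProductEquiv F (Fin n)).apply_symm_apply f]
      rfl
    have hz0 : z ≠ 0 := fun h0 => hf0 (LinearMap.ext fun d => by rw [hfz, h0]; simp)
    refine h3 ⟨z, hz0, fun y hy => ?_⟩
    rw [← e2] at hy
    obtain ⟨p, hp, rfl⟩ := List.mem_map.1 hy
    exact ⟨p.1, hZ z (fun d hd => by rw [dotProduct_comm, ← hfz]; exact hf hd) p hp⟩
  obtain ⟨ys, hys, hprod⟩ := hW (u - u0) (htop ▸ Submodule.mem_top)
  refine ⟨ys, forall₂_orb_trans e3 ?_, ?_, fun w hw => ?_⟩
  · rw [List.forall₂_map_left_iff]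
    exact hys.imp fun p y h => h.1
  · rw [hprod, e1, e2, h2, add_sub_cancel]
  · by_contra hne
    refine h3 ⟨Fin.tail w, hne, fun M hM => ?_⟩
    rw [← e2] at hM
    obtain ⟨p, hp, rfl⟩ := List.mem_map.1 hM
    obtain ⟨y, hy, -, u', rfl⟩ : ∃ y ∈ ys, Orb (tb p) y ∧ ∃ u', y = blk p.1 u' p.2.2 := by
      clear hprod hw e1 e2 e3 ha' hW hZ htop hM
      induction hys with
      | nil => simp at hp
      | cons h _ ih =>
        rcases List.mem_cons.1 hp with rfl | hp
        · exact ⟨_, List.mem_cons_self, h⟩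
        · obtain ⟨y, hy, hh⟩ := ih hp
          exact ⟨y, List.mem_cons_of_mem _ hy, hh⟩
    obtain ⟨c, hc⟩ := hw _ hy
    rw [← Fin.cons_self_tail w, blk_mulVec] at hc
    refine ⟨c, ?_⟩
    ext i
    simpa [Fin.tail] using congrFun hc i.succ

theorem det_map_tb (L : List (Trip F n)) :
    ((L.map tb).map det).prod =
      (L.map fun p => p.1).prod * ((L.map fun p => p.2.2).map det).prod := by
  induction L with
  | nil => simp
  | cons p L ih =>
    simp only [List.map_cons, List.prod_cons, ih, tb, det_blk]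
    ring

theorem eq_smul_single {w : Fin (n + 1) → F} (h : Fin.tail w = 0) :
    w = w 0 • Pi.single 0 1 := by
  ext i
  refine Fin.cases ?_ (fun i => ?_) i
  · simp
  · simpa [Fin.succ_ne_zero, Fin.tail] using congrFun h i

/-- A factor moving the first line destroys the last common eigenvector. -/
theorem not_commonEig_of_fill {y : Matrix (Fin (n + 1)) (Fin (n + 1)) F}
    {ys all : List (Matrix (Fin (n + 1)) (Fin (n + 1)) F)}
    (hy : ∀ c : F, y *ᵥ Pi.single 0 1 ≠ c • Pi.single 0 1) (hmem : y ∈ all)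
    (hsub : ∀ z ∈ ys, z ∈ all)
    (hw : ∀ w : Fin (n + 1) → F, (∀ z ∈ ys, ∃ c : F, z *ᵥ w = c • w) → Fin.tail w = 0) :
    ¬ CommonEig all := by
  rintro ⟨w, hw0, he⟩
  have hws := eq_smul_single (hw w fun z hz => he z (hsub z hz))
  have h0 : w 0 ≠ 0 := fun h => hw0 (by rw [hws, h, zero_smul])
  obtain ⟨c, hc⟩ := he y hmem
  refine hy c ?_
  rw [hws, mulVec_smul, smul_comm] at hc
  exact smul_right_injective _ h0 hc

end Fill

/-! ### Peeling one factor -/

section Peel

variable {k : ℕ}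

theorem fin_facts :
    (0 : Fin (k + 3)) ≠ 2 ∧ (0 : Fin (k + 3)) ≠ 1 ∧ (1 : Fin (k + 3)) ≠ 2 := by
  refine ⟨?_, ?_, ?_⟩ <;> simp [Fin.ext_iff, Nat.mod_eq_of_lt]

/-- Conjugation by the transvection `1 + c e₀₂`. -/
theorem orb_transvection (c : F) (y : Matrix (Fin (k + 3)) (Fin (k + 3)) F) :
    Orb y (transvection 0 2 c * y * transvection 0 2 (-c)) := by
  refine ⟨transvection 0 2 c, det_transvection_of_ne _ _ fin_facts.1 _, ?_⟩
  have h : transvection (0 : Fin (k + 3)) 2 (-c) * transvection 0 2 c = 1 := by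
    rw [transvection_mul_transvection_same _ _ fin_facts.1, neg_add_cancel, transvection_zero]
  rw [mul_assoc (transvection 0 2 c * y), h, mul_one]

theorem transvection_conj_apply (c : F) (y : Matrix (Fin (k + 3)) (Fin (k + 3)) F)
    (i j : Fin (k + 3)) :
    (transvection (0 : Fin (k + 3)) 2 c * y * transvection 0 2 (-c) :
      Matrix (Fin (k + 3)) (Fin (k + 3)) F) i j =
      (y i j + if i = 0 then c * y 2 j else 0) -
        if j = 2 then c * (y i 0 + if i = 0 then c * y 2 0 else 0) else 0 := by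
  by_cases hj : j = 2
  · subst hj
    by_cases hi : i = 0
    · subst hi; simp [sub_eq_add_neg]
    · simp [hi, sub_eq_add_neg]
  · by_cases hi : i = 0
    · subst hi; simp [hj]
    · simp [hi, hj]

theorem exists_peel {x g : Matrix (Fin (k + 3)) (Fin (k + 3)) F} (hx : ¬ IsScalarMat x)
    (hdx : x.det ≠ 0) (hg : ¬ IsScalarMat g) (hdg : g.det ≠ 0) {mu : F} (hmu : mu ≠ 0) :
    ∃ (y g' : Matrix (Fin (k + 3)) (Fin (k + 3)) F) (u : Fin (k + 2) → F)
      (U : Matrix (Fin (k + 2)) (Fin (k + 2)) F),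
      Orb x y ∧ Orb g g' ∧ g' = y * blk mu u U ∧ y *ᵥ Pi.single 0 1 = Pi.single 1 1 ∧
        ¬ IsScalarMat U := by
  obtain ⟨v, hv, hgv⟩ := exists_moved hg
  obtain ⟨P, hP, hP0, hP1⟩ := exists_frame_two (w := mu⁻¹ • (g *ᵥ v)) hv fun c hc => hgv (mu * c)
    (by rw [← smul_smul, ← hc, smul_smul, mul_inv_cancel₀ hmu, one_smul])
  obtain ⟨v0, hv0, hxv⟩ := exists_moved hx
  obtain ⟨Q, hQ, hQ0, hQ1⟩ := exists_frame_two hv0 hxv
  have hPu : IsUnit P.det := by rw [hP]; exact isUnit_one
  have hQu : IsUnit Q.det := by rw [hQ]; exact isUnit_one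
  set g' := P⁻¹ * g * P
  have hg' : g' *ᵥ Pi.single 0 1 = mu • Pi.single 1 1 := by
    rw [← mulVec_mulVec, ← mulVec_mulVec, hP0,
      show g *ᵥ v = mu • (P *ᵥ Pi.single 1 1) by
        rw [hP1, smul_smul, mul_inv_cancel₀ hmu, one_smul],
      mulVec_smul, mulVec_mulVec, nonsing_inv_mul _ hPu, one_mulVec]
  set y0 := Q⁻¹ * x * Q
  have hy0 : y0 *ᵥ Pi.single 0 1 = Pi.single 1 1 := by
    rw [← mulVec_mulVec, ← mulVec_mulVec, hQ0, ← hQ1, mulVec_mulVec, nonsing_inv_mul _ hQu,
      one_mulVec]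
  set y1 : Matrix (Fin (k + 3)) (Fin (k + 3)) F :=
    transvection 0 2 1 * y0 * transvection 0 2 (-1) with hy1def
  have o0 : Orb x y0 := orb_conj hQ
  have o1 : Orb x y1 := o0.trans (orb_transvection 1 y0)
  have og : Orb g g' := orb_conj hP
  have hdy : y0.det ≠ 0 := by rw [o0.det_eq]; exact hdx
  have hdg' : g'.det ≠ 0 := by rw [og.det_eq]; exact hdg
  obtain ⟨f02, f01, f12⟩ := fin_facts (k := k)
  have hc0 : ∀ i : Fin (k + 3), y0 i 0 = if i = 1 then 1 else 0 := fun i => by
    have := congrFun hy0 i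
    rw [mulVec_single_one] at this
    simpa [Pi.single_apply] using this
  have r2 : ∀ j, y1 2 j = y0 2 j := fun j => by
    rw [hy1def, transvection_conj_apply]; simp [f02.symm, hc0, f12.symm]
  have r0 : ∀ j, y1 0 j = y0 0 j + y0 2 j := fun j => by
    rw [hy1def, transvection_conj_apply]; simp [hc0, f01, f12.symm]
  have hy1c : y1 *ᵥ Pi.single 0 1 = Pi.single 1 1 := by
    rw [mulVec_single_one]
    ext i
    rw [col_apply, hy1def, transvection_conj_apply, Pi.single_apply]
    simp [f02, hc0, f12.symm]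
  -- one of `y0`, `y1` leaves a nonscalar quotient
  obtain ⟨y, oy, hy, hbad⟩ : ∃ y, Orb x y ∧ y *ᵥ Pi.single 0 1 = Pi.single 1 1 ∧
      ¬ ∃ c : F, ∀ i : Fin (k + 3), i ≠ 1 → ∀ j, g' i j = c * y i j := by
    by_contra hcon
    push Not at hcon
    obtain ⟨c, hc⟩ := hcon y0 o0 hy0
    obtain ⟨c', hc'⟩ := hcon y1 o1 hy1c
    obtain ⟨j, hj⟩ : ∃ j, y0 2 j ≠ 0 := by
      by_contra h
      push Not at h
      exact hdy (det_eq_zero_of_row_eq_zero 2 h)
    have hcc : c = c' := by
      have h1 := hc 2 f12.symm j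
      have h2 := hc' 2 f12.symm j
      rw [r2, h1] at h2
      exact mul_right_cancel₀ hj h2
    have h1 := hc 0 f01 j
    have h2 := hc' 0 f01 j
    rw [r0, ← hcc, h1, mul_add] at h2
    have : c = 0 := by
      have : c * y0 2 j = 0 := by linear_combination -h2
      exact (mul_eq_zero.1 this).resolve_right hj
    exact hdg' (det_eq_zero_of_row_eq_zero 2 fun l => by rw [hc 2 f12.symm l, this, zero_mul])
  have hyu : IsUnit y.det := isUnit_iff_ne_zero.2 (by rw [oy.det_eq]; exact hdx)
  set B := y⁻¹ * g' with hB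
  have hcol : B *ᵥ Pi.single 0 1 = mu • Pi.single 0 1 := by
    rw [hB, ← mulVec_mulVec, hg', mulVec_smul, ← hy, mulVec_mulVec, nonsing_inv_mul _ hyu,
      one_mulVec]
  rw [mulVec_single_one] at hcol
  have h00 : B 0 0 = mu := by simpa using congrFun hcol 0
  have hs : ∀ i : Fin (k + 2), B i.succ 0 = 0 := fun i => by
    simpa [Fin.succ_ne_zero] using congrFun hcol i.succ
  have hBb := eq_blk_of_col hs
  rw [h00] at hBb
  have hgy : g' = y * B := by rw [hB, ← mul_assoc, mul_nonsing_inv _ hyu, one_mul]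
  refine ⟨y, g', _, _, oy, og, hgy.trans (by rw [← hBb]), hy, ?_⟩
  rintro ⟨c, hc⟩
  refine hbad ⟨c, fun i hi j => ?_⟩
  have hyi : y i 0 = 0 := by
    have := congrFun hy i
    rw [mulVec_single_one] at this
    simpa [hi] using this
  rw [hgy, mul_apply, Fin.sum_univ_succ, hyi, zero_mul, zero_add]
  refine Fin.cases ?_ (fun j => ?_) j
  · simp [hs, hyi]
  · have : ∀ l : Fin (k + 2), B l.succ j.succ = if l = j then c else 0 := fun l => by
      have := congrFun (congrFun hc l) j
      simpa [one_apply] using this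
    simp [this, mul_comm]

theorem exists_peel_last {x g : Matrix (Fin (k + 3)) (Fin (k + 3)) F} (hx : ¬ IsScalarMat x)
    (hdx : x.det ≠ 0) (hg : ¬ IsScalarMat g) (hdg : g.det ≠ 0) {mu : F} (hmu : mu ≠ 0) :
    ∃ (y g' : Matrix (Fin (k + 3)) (Fin (k + 3)) F) (u : Fin (k + 2) → F)
      (U : Matrix (Fin (k + 2)) (Fin (k + 2)) F),
      Orb x y ∧ Orb g g' ∧ g' = blk mu u U * y ∧
        (∀ c : F, y *ᵥ Pi.single 0 1 ≠ c • Pi.single 0 1) ∧ ¬ IsScalarMat U := by
  have hxu : IsUnit x.det := isUnit_iff_ne_zero.2 hdx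
  have hgu : IsUnit g.det := isUnit_iff_ne_zero.2 hdg
  have hdxi : x⁻¹.det ≠ 0 := by simpa [det_nonsing_inv] using hdx
  have hdgi : g⁻¹.det ≠ 0 := by simpa [det_nonsing_inv] using hdg
  obtain ⟨y, g', u, U, oy, og, he, hy, hU⟩ := exists_peel (not_isScalarMat_inv hdx hx) hdxi
    (not_isScalarMat_inv hdg hg) hdgi (inv_ne_zero hmu)
  have hdy : y.det ≠ 0 := by rw [oy.det_eq]; exact hdxi
  have hdU : U.det ≠ 0 := by
    have : g'.det ≠ 0 := by rw [og.det_eq]; exact hdgi
    rw [he, det_mul, det_blk] at this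
    exact right_ne_zero_of_mul (right_ne_zero_of_mul this)
  refine ⟨y⁻¹, g'⁻¹, -mu • (u ᵥ* U⁻¹), U⁻¹, ?_, ?_, ?_, fun c hc => ?_,
    not_isScalarMat_inv hdU hU⟩
  · simpa [nonsing_inv_nonsing_inv _ hxu] using orb_inv hdxi oy
  · simpa [nonsing_inv_nonsing_inv _ hgu] using orb_inv hdgi og
  · rw [he, Matrix.mul_inv_rev]
    congr 1
    refine inv_eq_right_inv ?_
    rw [blk_mul, mul_nonsing_inv _ (isUnit_iff_ne_zero.2 hdU), inv_mul_cancel₀ hmu, smul_smul,
      mul_neg, inv_mul_cancel₀ hmu, neg_smul, one_smul, neg_add_cancel, blk_one]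
  · have := congrArg (y *ᵥ ·) hc
    simp only [mulVec_mulVec, mul_nonsing_inv _ (isUnit_iff_ne_zero.2 hdy), one_mulVec,
      mulVec_smul, hy] at this
    have := congrFun this 0
    simp [fin_facts.2.1] at this

theorem good_cons_step {x : Matrix (Fin (k + 3)) (Fin (k + 3)) F} (hx : ¬ IsScalarMat x)
    (hdx : x.det ≠ 0) (L : List (Trip F (k + 2))) (ha : ∀ p ∈ L, p.1 ≠ 0)
    {g : Matrix (Fin (k + 3)) (Fin (k + 3)) F} (hg : ¬ IsScalarMat g) (hdg : g.det ≠ 0)
    (hdet : g.det = x.det * ((L.map tb).map det).prod)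
    (H : ∀ U, ¬ IsScalarMat U → U.det = ((L.map fun p => p.2.2).map det).prod →
      Good (L.map fun p => p.2.2) U) :
    Good (x :: L.map tb) g := by
  have hA : (L.map fun p => p.1).prod ≠ 0 :=
    List.prod_ne_zero fun h => let ⟨p, hp, hp0⟩ := List.mem_map.1 h; ha p hp hp0
  obtain ⟨y, g', u, U, oy, og, he, hy, hU⟩ := exists_peel hx hdx hg hdg hA
  have hd : U.det = ((L.map fun p => p.2.2).map det).prod := by
    have := og.det_eq
    rw [he, det_mul, det_blk, oy.det_eq, hdet, det_map_tb] at this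
    exact mul_left_cancel₀ hA (mul_left_cancel₀ hdx this)
  obtain ⟨ys, h1, h2, h3⟩ := fill L ha (H U hU hd) u
  refine Good.conj ⟨y :: ys, .cons oy h1, by rw [List.prod_cons, h2, ← he], ?_⟩ og.symm
  refine not_commonEig_of_fill (fun c hc => ?_) List.mem_cons_self
    (fun z hz => List.mem_cons_of_mem _ hz) h3
  rw [hy] at hc
  have := congrFun hc 1
  simp [fin_facts.2.1.symm] at this

theorem good_concat_step {x : Matrix (Fin (k + 3)) (Fin (k + 3)) F} (hx : ¬ IsScalarMat x)
    (hdx : x.det ≠ 0) (L : List (Trip F (k + 2))) (ha : ∀ p ∈ L, p.1 ≠ 0)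
    {g : Matrix (Fin (k + 3)) (Fin (k + 3)) F} (hg : ¬ IsScalarMat g) (hdg : g.det ≠ 0)
    (hdet : g.det = ((L.map tb).map det).prod * x.det)
    (H : ∀ U, ¬ IsScalarMat U → U.det = ((L.map fun p => p.2.2).map det).prod →
      Good (L.map fun p => p.2.2) U) :
    Good (L.map tb ++ [x]) g := by
  have hA : (L.map fun p => p.1).prod ≠ 0 :=
    List.prod_ne_zero fun h => let ⟨p, hp, hp0⟩ := List.mem_map.1 h; ha p hp hp0
  obtain ⟨y, g', u, U, oy, og, he, hy, hU⟩ := exists_peel_last hx hdx hg hdg hA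
  have hd : U.det = ((L.map fun p => p.2.2).map det).prod := by
    have := og.det_eq
    rw [he, det_mul, det_blk, oy.det_eq, hdet, det_map_tb] at this
    exact mul_left_cancel₀ hA (mul_right_cancel₀ hdx this)
  obtain ⟨ys, h1, h2, h3⟩ := fill L ha (H U hU hd) u
  refine Good.conj ⟨ys ++ [y], List.rel_append h1 (.cons oy .nil),
    by rw [List.prod_append, List.prod_singleton, h2, ← he], ?_⟩ og.symm
  exact not_commonEig_of_fill hy (by simp) (fun z hz => by simp [hz]) h3

end Peel

end EigenStep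

/-- The specification of the case of split classes. -/
def SplitSpec (F : Type*) [Field F] (n : ℕ) : Prop :=
  ∀ (l : List (Matrix (Fin n) (Fin n) F)) (g : Matrix (Fin n) (Fin n) F), n ≤ l.length →
    (∀ x ∈ l, SplitMat x ∧ ¬ IsScalarMat x ∧ x.det ≠ 0) → ¬ IsScalarMat g →
    g.det = (l.map det).prod → (∃ x ∈ l, ¬ RankOne x) → Good l g

namespace EigenStep

theorem choose_children {n : ℕ} (hn : 4 ≤ n) :
    ∀ l : List (Matrix (Fin (n + 1)) (Fin (n + 1)) F),
      (∀ x ∈ l, SplitMat x ∧ ¬ IsScalarMat x ∧ x.det ≠ 0) →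
      ∃ L : List (Trip F n), List.Forall₂ Orb l (L.map tb) ∧
        (∀ p ∈ L, p.1 ≠ 0 ∧ SplitMat p.2.2 ∧ ¬ IsScalarMat p.2.2 ∧ p.2.2.det ≠ 0) ∧
        ((∃ x ∈ l, ¬ RankOne x) → ∃ p ∈ L, ¬ RankOne p.2.2) := by
  intro l h
  induction l with
  | nil => exact ⟨[], .nil, by simp, by simp⟩
  | cons x l ih =>
    obtain ⟨hs, hx, hd⟩ := h x (by simp)
    obtain ⟨c, u, M, ho, hM, hr⟩ := exists_child (by omega) hs hx
    obtain ⟨L, h1, h2, h3⟩ := ih fun y hy => h y (by simp [hy])
    refine ⟨(c, u, M) :: L, .cons ho h1, ?_, ?_⟩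
    · intro p hp
      rcases List.mem_cons.1 hp with rfl | hp
      · exact ⟨(child_facts hd ho).1, splitMat_child hs ho, hM, (child_facts hd ho).2⟩
      · exact h2 p hp
    · rintro ⟨y, hy, hyr⟩
      rcases List.mem_cons.1 hy with rfl | hy
      · exact ⟨(c, u, M), List.mem_cons_self, hr hn hyr⟩
      · obtain ⟨p, hp, hpr⟩ := h3 ⟨y, hy, hyr⟩
        exact ⟨p, List.mem_cons_of_mem _ hp, hpr⟩

end EigenStep

open EigenStep

theorem splitSpec_succ [Fintype F] (_hq : 4 ≤ Fintype.card F) {n : ℕ} (hn : 4 ≤ n)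
    (h : SplitSpec F n) : SplitSpec F (n + 1) := by
  obtain ⟨k, rfl⟩ : ∃ k, n = k + 2 := ⟨n - 2, by omega⟩
  intro l g hlen hl hg hdet hne
  have hdg : g.det ≠ 0 := by
    rw [hdet]
    exact List.prod_ne_zero fun h0 => let ⟨y, hy, hy0⟩ := List.mem_map.1 h0; (hl y hy).2.2 hy0
  have body : ∀ t : List (Matrix (Fin (k + 3)) (Fin (k + 3)) F), k + 2 ≤ t.length →
      (∀ x ∈ t, SplitMat x ∧ ¬ IsScalarMat x ∧ x.det ≠ 0) → (∃ x ∈ t, ¬ RankOne x) →
      ∃ L : List (Trip F (k + 2)), List.Forall₂ Orb t (L.map tb) ∧ (∀ p ∈ L, p.1 ≠ 0) ∧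
        ∀ U, ¬ IsScalarMat U → U.det = ((L.map fun p => p.2.2).map det).prod →
          Good (L.map fun p => p.2.2) U := by
    intro t ht htp hte
    obtain ⟨L, h1, h2, h3⟩ := choose_children hn t htp
    refine ⟨L, h1, fun p hp => (h2 p hp).1, fun U hU hd => h _ U ?_ ?_ hU hd ?_⟩
    · have := h1.length_eq
      simp at this ⊢
      omega
    · intro x hx
      obtain ⟨p, hp, rfl⟩ := List.mem_map.1 hx
      exact (h2 p hp).2
    · obtain ⟨p, hp, hpr⟩ := h3 hte
      exact ⟨_, List.mem_map_of_mem hp, hpr⟩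
  cases l with
  | nil => simp at hlen
  | cons x t =>
    by_cases ht : ∃ y ∈ t, ¬ RankOne y
    · obtain ⟨L, h1, h2, h3⟩ := body t (by simp at hlen; omega)
        (fun y hy => hl y (by simp [hy])) ht
      refine good_of_forall₂ (.cons (Orb.refl x) h1) (good_cons_step (hl x (by simp)).2.1
        (hl x (by simp)).2.2 L h2 hg hdg ?_ h3)
      rw [hdet, forall₂_orb_det h1]
      simp
    · have hxr : ¬ RankOne x := by
        obtain ⟨y, hy, hyr⟩ := hne
        rcases List.mem_cons.1 hy with rfl | hy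
        · exact hyr
        · exact absurd ⟨y, hy, hyr⟩ ht
      rcases List.eq_nil_or_concat t with rfl | ⟨t', b, rfl⟩
      · simp at hlen
      rw [List.concat_eq_append] at hlen hl hdet ⊢
      obtain ⟨L, h1, h2, h3⟩ := body (x :: t') (by simp at hlen ⊢; omega)
        (fun y hy => hl y (by
          rcases List.mem_cons.1 hy with rfl | hy <;> simp [*])) ⟨x, by simp, hxr⟩
      rw [← List.cons_append]
      refine good_of_forall₂ (List.rel_append h1 (.cons (Orb.refl b) .nil))
        (good_concat_step (hl b (by simp)).2.1 (hl b (by simp)).2.2 L h2 hg hdg ?_ h3)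
      rw [hdet, forall₂_orb_det h1]
      simp [mul_assoc]

/-! ### Classes that are not split -/

namespace EigenStep

section Nonsplit

variable {k : ℕ}

/-- The lower unipotent matrix with first column `(1, w)`. -/
def low {n : ℕ} (w : Fin n → F) : Matrix (Fin (n + 1)) (Fin (n + 1)) F :=
  1 + vecMulVec (Fin.cons 0 w) (Pi.single 0 1)

theorem low_mul_apply_zero {n : ℕ} (w : Fin n → F) (B : Matrix (Fin (n + 1)) (Fin (n + 1)) F)
    (j : Fin (n + 1)) : (low w * B) 0 j = B 0 j := by
  simp [low, add_mul, vecMulVec_mul, vecMulVec_apply]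

theorem low_mul_apply_succ {n : ℕ} (w : Fin n → F) (B : Matrix (Fin (n + 1)) (Fin (n + 1)) F)
    (i : Fin n) (j : Fin (n + 1)) : (low w * B) i.succ j = B i.succ j + w i * B 0 j := by
  simp [low, add_mul, vecMulVec_mul, vecMulVec_apply]

theorem det_low {n : ℕ} (w : Fin n → F) : (low w).det = 1 := by
  rw [low, vecMulVec_eq Unit, det_one_add_replicateCol_mul_replicateRow]
  simp

/-- Conjugates of `g` with corner `d`: the Schur complement can be moved along `1 + t e₀₁`. -/
theorem exists_corner {g : Matrix (Fin (k + 3)) (Fin (k + 3)) F} (hg : ¬ IsScalarMat g)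
    {d : F} (hd : d ≠ 0) :
    ∃ S0 : Matrix (Fin (k + 2)) (Fin (k + 2)) F, d * S0.det = g.det ∧
      ∀ t : F, ∃ (g' : Matrix (Fin (k + 3)) (Fin (k + 3)) F) (u : Fin (k + 2) → F),
        Orb g g' ∧
          g' = low (d⁻¹ • Pi.single 0 1) * blk d u (transvection 0 1 t * S0) := by
  obtain ⟨v, hv, hgv⟩ := exists_moved hg
  obtain ⟨P, hP, hP0, hP1⟩ := exists_frame_two (w := g *ᵥ v - d • v) hv fun c hc =>
    hgv (c + d) (by rw [add_smul, ← hc]; abel)
  have hPu : IsUnit P.det := by rw [hP]; exact isUnit_one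
  set g0 := P⁻¹ * g * P
  have hg0 : g0 *ᵥ Pi.single 0 1 = d • Pi.single 0 1 + Pi.single 1 1 := by
    rw [← mulVec_mulVec, ← mulVec_mulVec, hP0,
      show g *ᵥ v = P *ᵥ (d • Pi.single 0 1 + Pi.single 1 1) by
        rw [mulVec_add, mulVec_smul, hP0, hP1]; abel,
      mulVec_mulVec, nonsing_inv_mul _ hPu, one_mulVec]
  have og : Orb g g0 := orb_conj hP
  obtain ⟨f02, f01, f12⟩ := fin_facts (k := k)
  have hc0 : ∀ i : Fin (k + 3), g0 i 0 = if i = 0 then d else if i = 1 then 1 else 0 := fun i => by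
    have := congrFun hg0 i
    rw [mulVec_single_one, col_apply] at this
    rw [this]
    by_cases h0 : i = 0
    · subst h0; simp [f01]
    · by_cases h1 : i = 1
      · subst h1; simp [f01.symm]
      · simp [h0, h1]
  let schur : Matrix (Fin (k + 3)) (Fin (k + 3)) F → Matrix (Fin (k + 2)) (Fin (k + 2)) F :=
    fun h => Matrix.of fun i j =>
      h i.succ j.succ - if i = 0 then d⁻¹ * h 0 j.succ else 0
  have key : ∀ h : Matrix (Fin (k + 3)) (Fin (k + 3)) F,
      (∀ i, h i 0 = if i = 0 then d else if i = 1 then 1 else 0) →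
      h = low (d⁻¹ • Pi.single 0 1) * blk d (fun j => h 0 j.succ) (schur h) := by
    intro h hh
    ext i j
    refine Fin.cases ?_ (fun i => ?_) i
    · rw [low_mul_apply_zero]
      refine Fin.cases ?_ (fun j => ?_) j <;> simp [hh]
    · rw [low_mul_apply_succ]
      refine Fin.cases ?_ (fun j => ?_) j
      · rw [blk_succ_zero, blk_zero_zero]
        by_cases hi : i = 0
        · subst hi
          simp [hh, hd]
        · have hi1 : i.succ ≠ (1 : Fin (k + 3)) := fun h => hi (Fin.succ_injective _ h)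
          simp [hh, hi1, Fin.succ_ne_zero, hi]
      · simp [schur, Pi.single_apply]
  have hdet : d * (schur g0).det = g.det := by
    have := congrArg Matrix.det (key g0 hc0)
    rw [og.det_eq, det_mul, det_low, det_blk, one_mul] at this
    exact this.symm
  refine ⟨schur g0, hdet, fun t => ?_⟩
  set g1 : Matrix (Fin (k + 3)) (Fin (k + 3)) F :=
    transvection 0 2 (-(t * d)) * g0 * transvection 0 2 (- -(t * d)) with hg1
  have hc1 : ∀ i, g1 i 0 = if i = 0 then d else if i = 1 then 1 else 0 := fun i => by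
    rw [hg1, transvection_conj_apply]; simp [f02, hc0, f02.symm, f12.symm]
  refine ⟨g1, fun j => g1 0 j.succ, og.trans (orb_transvection _ g0), ?_⟩
  have hS : schur g1 = transvection 0 1 t * schur g0 := by
    ext i j
    by_cases hi : i = 0
    · subst hi
      have s0 : (0 : Fin (k + 2)).succ = (1 : Fin (k + 3)) := rfl
      have s1 : (1 : Fin (k + 2)).succ = (2 : Fin (k + 3)) := rfl
      have hne : (1 : Fin (k + 2)) ≠ 0 := by simp
      rw [transvection_mul_apply_same]
      simp only [schur, Matrix.of_apply, s0, s1, if_pos, if_neg hne, sub_zero]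
      rw [hg1, transvection_conj_apply, transvection_conj_apply]
      by_cases hj : j.succ = (2 : Fin (k + 3))
      · simp [hj, f01.symm, hc0, f02.symm, f12.symm]
        field_simp
        ring
      · simp [hj, f01.symm]
        field_simp
        ring
    · rw [transvection_mul_apply_of_ne _ _ _ _ hi]
      have hi0 : i.succ ≠ (0 : Fin (k + 3)) := Fin.succ_ne_zero i
      have hi1 : i.succ ≠ (1 : Fin (k + 3)) := fun h => hi (Fin.succ_injective _ h)
      simp only [schur, Matrix.of_apply, if_neg hi, sub_zero]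
      rw [hg1, transvection_conj_apply]
      simp [hi0, hi1, hc0]
  rw [← hS]
  exact key g1 hc1

theorem exists_corner_nonscalar {d : F} {S0 : Matrix (Fin (k + 2)) (Fin (k + 2)) F}
    {g : Matrix (Fin (k + 3)) (Fin (k + 3)) F} (hdg : g.det ≠ 0) (hS0 : d * S0.det = g.det) :
    ∃ t : F, ¬ IsScalarMat (transvection 0 1 t * S0) := by
  by_cases hS : IsScalarMat S0
  · obtain ⟨s, rfl⟩ := hS
    have hs0 : s ≠ 0 := by
      intro h0
      rw [h0, zero_smul] at hS0
      simp at hS0
      exact hdg hS0.symm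
    refine ⟨1, fun ⟨c, hc⟩ => ?_⟩
    have := congrFun (congrFun hc 0) 1
    simp [transvection, one_apply] at this
    exact hs0 this
  · exact ⟨0, by rwa [transvection_zero, one_mul]⟩

/-- Two conjugates of an elliptic `2 × 2` matrix reach some `(1 + t e₀₁) S`. -/
theorem exists_inProd_two [Fintype F] {R S : Matrix (Fin 2) (Fin 2) F} (hR : NoEigen R)
    (hS : S.det = R.det ^ 2) :
    ∃ t : F, InProd (List.replicate 2 R) (transvection 0 1 t * S) := by
  set δ := R.det with hδ
  set τ := R.trace with hτ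
  have hδ0 : δ ≠ 0 := by simpa using hR 0
  have hirr : Irreducible R.charpoly := by
    refine (Polynomial.Monic.irreducible_iff_roots_eq_zero_of_degree_le_three R.charpoly_monic
      ?_ ?_).2 (Multiset.eq_zero_of_forall_notMem fun c hc => ?_)
    · simp [charpoly_natDegree_eq_dim]
    · simp [charpoly_natDegree_eq_dim]
    · exact hR c (det_sub_of_isRoot (Polynomial.isRoot_of_mem_roots hc))
  have orbR : ∀ y : Matrix (Fin 2) (Fin 2) F, y.trace = τ → y.det = δ → Orb R y := fun y h1 h2 =>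
    orb_of_irreducible hirr (by rw [charpoly_fin_two, charpoly_fin_two, h1, h2])
  obtain ⟨a, ha⟩ : ∃ a : F, (τ - a) * S 1 0 - S 1 1 ≠ 0 := by
    by_cases h : S 1 0 = 0
    · refine ⟨0, ?_⟩
      rw [h, mul_zero, zero_sub, neg_ne_zero]
      intro h11
      rw [det_fin_two, h, h11] at hS
      exact pow_ne_zero 2 hδ0 (by linear_combination -hS)
    · refine ⟨τ - S 1 1 / S 1 0 - 1, ?_⟩
      have : (τ - (τ - S 1 1 / S 1 0 - 1)) * S 1 0 - S 1 1 = S 1 0 := by
        field_simp
        ring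
      rw [this]
      exact h
  set b := a * (τ - a) - δ with hb
  set R1 : Matrix (Fin 2) (Fin 2) F := !![a, b; 1, τ - a] with hR1
  set A1 : Matrix (Fin 2) (Fin 2) F := !![τ - a, -b; -1, a] with hA1
  set t := (τ * δ - ((τ - a) * S 0 0 - b * S 1 0 - S 0 1 + a * S 1 1)) /
    ((τ - a) * S 1 0 - S 1 1) with ht
  have ht' : t * ((τ - a) * S 1 0 - S 1 1) =
      τ * δ - ((τ - a) * S 0 0 - b * S 1 0 - S 0 1 + a * S 1 1) := by
    rw [ht, div_mul_cancel₀ _ ha]
  set S' := transvection 0 1 t * S with hS'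
  set R2 := δ⁻¹ • (A1 * S') with hR2
  have hA : R1 * A1 = δ • 1 := by
    ext i j
    fin_cases i <;> fin_cases j <;> simp [hR1, hA1, mul_apply, Fin.sum_univ_two, hb] <;> ring
  have hp : R1 * R2 = S' := by
    rw [hR2, Matrix.mul_smul, ← mul_assoc, hA, Matrix.smul_mul, one_mul, smul_smul,
      inv_mul_cancel₀ hδ0, one_smul]
  have e : ∀ j, S' 0 j = S 0 j + t * S 1 j ∧ S' 1 j = S 1 j := fun j =>
    ⟨transvection_mul_apply_same _ _ _ _ _,
      transvection_mul_apply_of_ne _ _ _ _ (by simp : (1 : Fin 2) ≠ 0) _ _⟩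
  have tr1 : R1.trace = τ := by simp [hR1, trace_fin_two]
  have de1 : R1.det = δ := by rw [hR1, det_fin_two_of, hb]; ring
  have de2 : R2.det = δ := by
    have := congrArg Matrix.det hp
    rw [det_mul, de1, hS', det_mul, det_transvection_of_ne _ _ (by simp), one_mul, hS, sq] at this
    exact mul_left_cancel₀ hδ0 this
  have tr2 : R2.trace = τ := by
    rw [hR2, trace_smul, trace_fin_two, smul_eq_mul, hA1, mul_apply, mul_apply, Fin.sum_univ_two,
      Fin.sum_univ_two, (e 0).1, (e 0).2, (e 1).1, (e 1).2]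
    simp
    field_simp
    linear_combination ht'
  refine ⟨t, [R1, R2], ?_, by simp [hp, hS']⟩
  exact .cons (orbR R1 tr1 de1) (.cons (orbR R2 tr2 de2) .nil)

theorem exists_vec {n : ℕ} {M : Matrix (Fin n) (Fin n) F} (hM : M.det ≠ 0) (b : Fin n → F) :
    ∃ s, M *ᵥ s = b :=
  ⟨M⁻¹ *ᵥ b, by rw [mulVec_mulVec, mul_nonsing_inv _ (isUnit_iff_ne_zero.2 hM), one_mulVec]⟩

/-- One simple eigenvalue next to a part without eigenvalue. -/
theorem good_blk_noEigen {lam : F} (hlam : lam ≠ 0) {R : Matrix (Fin (k + 2)) (Fin (k + 2)) F}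
    (hR0 : NoEigen R) {x : Matrix (Fin (k + 3)) (Fin (k + 3)) F} {u : Fin (k + 2) → F}
    (hx : Orb x (blk lam u R)) {m : ℕ} (hm : 2 ≤ m)
    {g g' : Matrix (Fin (k + 3)) (Fin (k + 3)) F} {u' : Fin (k + 2) → F}
    {S : Matrix (Fin (k + 2)) (Fin (k + 2)) F} (og : Orb g g')
    (he : g' = low ((lam ^ m)⁻¹ • Pi.single 0 1) * blk (lam ^ m) u' S)
    (hS : InProd (List.replicate m R) S) : Good (List.replicate m x) g := by
  have hx0 : Orb x (blk lam 0 R) := by
    obtain ⟨s, hs⟩ := exists_vec (M := (R - lam • 1)ᵀ) (by rw [det_transpose]; exact hR0 lam) (-u)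
    rw [mulVec_transpose] at hs
    have := orb_top lam u s R
    rw [hs, add_neg_cancel] at this
    exact hx.trans this
  have hd : lam ^ m ≠ 0 := pow_ne_zero m hlam
  set w : Fin (k + 2) → F := (lam ^ m)⁻¹ • Pi.single 0 1 with hw
  obtain ⟨m', rfl⟩ : ∃ m', m = m' + 1 := ⟨m - 1, by omega⟩
  obtain ⟨ys, h1, h2⟩ := hS
  rw [List.replicate_succ] at h1
  cases h1 with
  | @cons _ R1 _ rest o1 orest =>
  rw [List.prod_cons] at h2
  have hR1 : NoEigen R1 := noEigen_of_orb hR0 o1
  -- the first factor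
  obtain ⟨s, hs⟩ := exists_vec (M := R1 - lam • 1) (hR1 lam) (-lam • w)
  set x1 := low w * blk lam 0 R1 with hx1
  have ox1 : Orb x x1 := by
    obtain ⟨u1, hu1⟩ := orb_lift lam (0 : Fin (k + 2) → F) o1
    have hu1' : Orb x (blk lam 0 R1) := by
      obtain ⟨s1, hs1⟩ := exists_vec (M := (R1 - lam • 1)ᵀ)
        (by rw [det_transpose]; exact hR1 lam) (-u1)
      rw [mulVec_transpose] at hs1
      have := orb_top lam u1 s1 R1
      rw [hs1, add_neg_cancel] at this
      exact hx0.trans (hu1.trans this)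
    refine hu1'.trans ⟨low s, det_low _, ?_⟩
    rw [hx1]
    ext i j
    refine Fin.cases ?_ (fun i => ?_) i
    · rw [low_mul_apply_zero, mul_assoc, low_mul_apply_zero, mul_apply, Fin.sum_univ_succ]
      refine Fin.cases ?_ (fun j => ?_) j <;>
        simp [low, vecMulVec_apply, one_apply, Fin.succ_ne_zero, (Fin.succ_ne_zero _).symm]
    · rw [low_mul_apply_succ, mul_assoc, low_mul_apply_succ]
      simp only [mul_apply, Fin.sum_univ_succ (n := k + 2)]
      have hsi : ∑ l, R1 i l * s l = lam * s i - lam * w i := by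
        have := congrFun hs i
        rw [sub_mulVec, smul_mulVec, one_mulVec] at this
        simp [mulVec, dotProduct] at this
        linear_combination this
      refine Fin.cases ?_ (fun j => ?_) j
      · simp [low, vecMulVec_apply, one_apply, Fin.succ_ne_zero, hsi]
        ring
      · simp [low, vecMulVec_apply, one_apply, Fin.succ_ne_zero, (Fin.succ_ne_zero _).symm,
          mul_comm]
  -- the remaining factors
  let L : List (Trip F (k + 2)) := List.replicate m' (lam, 0, R)
  have hGood : Good (L.map fun p => p.2.2) rest.prod := by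
    refine ⟨rest, by simpa [L] using orest, rfl, ?_⟩
    rintro ⟨z, hz, hze⟩
    cases rest with
    | nil => have := orest.length_eq; simp at this; omega
    | cons R2 rest' =>
      obtain ⟨c, hc⟩ := hze R2 (by simp)
      have ho2 : Orb R R2 := by
        cases m' with
        | zero => omega
        | succ q => rw [List.replicate_succ] at orest; cases orest; assumption
      exact noEigen_of_orb hR0 ho2 c (exists_mulVec_eq_zero_iff.1
        ⟨z, hz, by rw [sub_mulVec, smul_mulVec, one_mulVec, hc, sub_self]⟩)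
  obtain ⟨zs, g1, g2, g3⟩ := fill L (by simp [L, hlam]) hGood (lam⁻¹ • u')
  have hA : (L.map fun p => p.1).prod = lam ^ m' := by simp [L]
  refine Good.conj (g := g') ⟨x1 :: zs, ?_, ?_, ?_⟩ og.symm
  · rw [List.replicate_succ]
    refine .cons ox1 (forall₂_orb_trans ?_ g1)
    have hl : List.replicate m' x = List.replicate (L.map tb).length x := by simp [L]
    rw [hl]
    exact forall₂_orb_replicate fun y hy => by
      simp [L] at hy
      rw [hy.2]
      exact hx0
  · rw [List.prod_cons, g2, hA, hx1, mul_assoc, blk_mul, zero_vecMul, add_zero, smul_smul,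
      mul_inv_cancel₀ hlam, one_smul, ← pow_succ', h2, he]
  · refine not_commonEig_of_fill (fun c hc => ?_) List.mem_cons_self
      (fun z hz => List.mem_cons_of_mem _ hz) g3
    have := congrFun hc (0 : Fin (k + 2)).succ
    rw [mulVec_single_one, col_apply, hx1, low_mul_apply_succ, blk_succ_zero, blk_zero_zero] at this
    simp [hw, hlam] at this

end Nonsplit

theorem splitMat_of_scalar : ∀ {n : ℕ} {x : Matrix (Fin n) (Fin n) F}, IsScalarMat x → SplitMat x := by
  rintro n x ⟨c, rfl⟩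
  rw [SplitMat, smul_one_eq_diagonal, charpoly_diagonal]
  exact Polynomial.Splits.prod fun i _ => Polynomial.Splits.X_sub_C c

theorem splitMat_fin_one (x : Matrix (Fin 1) (Fin 1) F) : SplitMat x :=
  splitMat_of_scalar ⟨x 0 0, by ext i j; fin_cases i; fin_cases j; simp⟩

end EigenStep

theorem good_nonsplit [Fintype F] (_hq : 4 ≤ Fintype.card F) (hN : NoEigenSpec F) {n : ℕ}
    (hn : 3 ≤ n) {x : Matrix (Fin n) (Fin n) F} (hs : ¬ SplitMat x) (he : ¬ NoEigen x)
    (hdx : x.det ≠ 0) {m : ℕ} (hm : n - 1 ≤ m) {g : Matrix (Fin n) (Fin n) F}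
    (hg : ¬ IsScalarMat g) (hdet : g.det = x.det ^ m) : Good (List.replicate m x) g := by
  obtain ⟨k, rfl⟩ : ∃ k, n = k + 3 := ⟨n - 3, by omega⟩
  clear hn
  induction k using Nat.strong_induction_on generalizing m with
  | _ k ih =>
  simp only [NoEigen, ne_eq, not_forall, not_not] at he
  obtain ⟨lam, hlam⟩ := he
  obtain ⟨v, hv, hev⟩ := exists_eigvec hlam
  obtain ⟨P, u, M, hP, -, hPx⟩ := exists_blk_of_eig (by omega) hv hev
  have ho := orb_of_mul_eq hP hPx
  obtain ⟨hl0, hdM⟩ := child_facts hdx ho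
  have hMs : ¬ SplitMat M := fun h => hs (by
    unfold SplitMat at h ⊢
    rw [← charpoly_of_orb ho, charpoly_blk]
    exact Polynomial.splits_X_sub_C_mul_iff.2 h)
  by_cases hMe : NoEigen M
  · have hdg : g.det ≠ 0 := by rw [hdet]; exact pow_ne_zero _ hdx
    obtain ⟨S0, hS0, hfam⟩ := exists_corner hg (pow_ne_zero m hl0)
    have hS0d : S0.det = M.det ^ m := by
      rw [hdet, ← ho.det_eq, det_blk, mul_pow] at hS0
      exact mul_left_cancel₀ (pow_ne_zero m hl0) hS0
    obtain ⟨t, ht⟩ : ∃ t : F,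
        InProd (List.replicate m M) (transvection 0 1 t * S0) := by
      by_cases hk : k = 0 ∧ m = 2
      · obtain ⟨rfl, rfl⟩ := hk
        exact exists_inProd_two hMe hS0d
      · obtain ⟨t, ht⟩ := exists_corner_nonscalar hdg hS0
        refine ⟨t, hN (k + 2) M (by omega) hMe m _ ?_ ?_⟩
        · rw [det_mul, det_transvection_of_ne _ _ (by simp), one_mul, hS0d]
        · first
            | exact Or.inl ⟨ht, by omega⟩
            | exact Or.inl ⟨ht, by omega, fun h => absurd h (by omega)⟩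
    obtain ⟨g', u', og, he⟩ := hfam t
    exact good_blk_noEigen hl0 hMe ho (by omega) og he ht
  · cases k with
    | zero =>
      refine absurd ?_ hMs
      simp only [NoEigen, ne_eq, not_forall, not_not] at hMe
      obtain ⟨c, hc⟩ := hMe
      obtain ⟨v, hv, hev⟩ := exists_eigvec hc
      obtain ⟨P, u, M', hP, -, hPx⟩ := exists_blk_of_eig (by omega) hv hev
      unfold SplitMat
      rw [← charpoly_of_orb (orb_of_mul_eq hP hPx), charpoly_blk]
      exact Polynomial.splits_X_sub_C_mul_iff.2 (splitMat_fin_one M')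
    | succ k =>
      obtain ⟨m', rfl⟩ : ∃ m', m = m' + 1 := ⟨m - 1, by omega⟩
      let L : List (Trip F (k + 3)) := List.replicate m' (lam, u, M)
      have h1 : List.Forall₂ Orb (List.replicate m' x) (L.map tb) := by
        have hl : List.replicate m' x = List.replicate (L.map tb).length x := by simp [L]
        rw [hl]
        exact forall₂_orb_replicate fun y hy => by
          simp [L] at hy
          rw [hy.2]
          exact ho
      rw [List.replicate_succ]
      refine good_of_forall₂ (.cons (Orb.refl x) h1) (good_cons_step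
        (fun h => hs (splitMat_of_scalar h)) hdx L (by simp [L, hl0]) hg
        (by rw [hdet]; exact pow_ne_zero _ hdx) ?_ ?_)
      · rw [hdet, forall₂_orb_det h1, List.map_replicate, List.prod_replicate, pow_succ']
      · intro U hU hd
        have hl : (L.map fun p => p.2.2) = List.replicate m' M := by simp [L]
        rw [hl] at hd ⊢
        rw [List.map_replicate, List.prod_replicate] at hd
        exact ih k (by omega) hMs hMe hdM (by omega) hU hd

theorem inProd_one_split [Fintype F] (_hq : 4 ≤ Fintype.card F) {n : ℕ} (hn : 5 ≤ n)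
    (h : SplitSpec F (n - 1)) {x : Matrix (Fin n) (Fin n) F} (hs : SplitMat x)
    (hr : ¬ RankOne x) (hdx : x.det = 1) : InProd (List.replicate n x) 1 := by
  obtain ⟨k, rfl⟩ : ∃ k, n = k + 1 := ⟨n - 1, by omega⟩
  rw [Nat.add_sub_cancel] at h
  classical
  have hd0 : x.det ≠ 0 := by rw [hdx]; exact one_ne_zero
  obtain ⟨c0, v, hv, hev, hbad⟩ := exists_good_eig (by omega) hs hr
  obtain ⟨P, u, M, hP, hPv, hPx⟩ := exists_blk_of_eig (by omega) hv hev
  have ho := orb_of_mul_eq hP hPx
  have hMr : ¬ RankOne M := by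
    rintro ⟨d, a, b, hM⟩
    exact hbad d _ (quot_range hP hPv (by rw [hPx, hM]))
  have hc0 : c0 ∈ x.charpoly.roots := by
    rw [Polynomial.mem_roots x.charpoly_monic.ne_zero, ← charpoly_of_orb ho, charpoly_blk]
    simp
  -- one child for each remaining root
  have kids : ∀ rs : List F, (∀ c ∈ rs, c ∈ x.charpoly.roots) →
      ∃ L : List (Trip F k), L.map (fun p => p.1) = rs ∧
        ∀ p ∈ L, Orb x (tb p) ∧ ¬ IsScalarMat p.2.2 := by
    intro rs hrs
    induction rs with
    | nil => exact ⟨[], rfl, by simp⟩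
    | cons c rs ih =>
      obtain ⟨L, h1, h2⟩ := ih fun d hd => hrs d (by simp [hd])
      obtain ⟨v, hv, hev⟩ := exists_eigvec (det_sub_of_isRoot
        (Polynomial.isRoot_of_mem_roots (hrs c (by simp))))
      obtain ⟨P, u, M, hP, hPv, hPx⟩ := exists_blk_of_eig (by omega) hv hev
      refine ⟨(c, u, M) :: L, by simp [h1], ?_⟩
      intro p hp
      rcases List.mem_cons.1 hp with rfl | hp
      · exact ⟨orb_of_mul_eq hP hPx, not_scalar_of_not_rankOne hr hP hPv hPx⟩
      · exact h2 p hp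
  have hcard : x.charpoly.roots.card = k + 1 := by
    rw [← Polynomial.Splits.natDegree_eq_card_roots hs, charpoly_natDegree_eq_dim, Fintype.card_fin]
  have hlen : (x.charpoly.roots.erase c0).toList.length = k := by
    rw [Multiset.length_toList, Multiset.card_erase_of_mem hc0, hcard, Nat.pred_succ]
  obtain ⟨c, rs, hrs⟩ : ∃ c rs, (x.charpoly.roots.erase c0).toList = c :: rs := by
    cases e : (x.charpoly.roots.erase c0).toList with
    | nil => rw [e] at hlen; simp at hlen; omega
    | cons c rs => exact ⟨c, rs, rfl⟩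
  obtain ⟨L0, hL1, hL2⟩ := kids (c :: rs) fun d hd => by
    rw [← hrs, Multiset.mem_toList] at hd
    exact Multiset.mem_of_mem_erase hd
  obtain ⟨pc, L', rfl, hpc, hL'⟩ : ∃ pc L', L0 = pc :: L' ∧ pc.1 = c ∧
      L'.map (fun p => p.1) = rs := by
    cases L0 with
    | nil => simp at hL1
    | cons pc L' =>
      rw [List.map_cons, List.cons.injEq] at hL1
      exact ⟨pc, L', rfl, hL1⟩
  set L : List (Trip F k) := (c0, u, M) :: L' with hLdef
  have hLo : ∀ p ∈ L, Orb x (tb p) ∧ ¬ IsScalarMat p.2.2 := by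
    intro p hp
    rcases List.mem_cons.1 hp with rfl | hp
    · exact ⟨ho, not_scalar_of_not_rankOne hr hP hPv hPx⟩
    · exact hL2 p (by simp [hp])
  have hLlen : L.length = k := by
    have h1 := congrArg List.length hL'
    rw [hrs] at hlen
    simp [hLdef] at h1 hlen ⊢
    omega
  set A := (L.map fun p => p.1).prod with hAdef
  have hcA : pc.1 * A = 1 := by
    rw [← hdx, det_eq_prod_roots_charpoly_of_splits hs, ← Multiset.cons_erase hc0,
      Multiset.prod_cons, ← Multiset.coe_toList (x.charpoly.roots.erase c0), hrs,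
      Multiset.prod_coe, List.prod_cons, hAdef, hLdef, List.map_cons, List.prod_cons, hL', hpc]
    ring
  have hc : pc.1 ≠ 0 := left_ne_zero_of_mul (hcA ▸ one_ne_zero)
  obtain ⟨opc, hpcs⟩ := hL2 pc (by simp)
  have hpcd : pc.2.2.det ≠ 0 := (child_facts hd0 opc).2
  have hLd : ((L.map fun p => p.2.2).map det).prod = pc.1 := by
    have h1 : ((L.map tb).map det).prod = 1 := by
      rw [List.map_map]
      refine List.prod_eq_one fun d hd => ?_
      obtain ⟨p, hp, rfl⟩ := List.mem_map.1 hd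
      rw [Function.comp_apply, (hLo p hp).1.det_eq, hdx]
    rw [det_map_tb, ← hAdef] at h1
    have hA0 : A ≠ 0 := right_ne_zero_of_mul (hcA ▸ one_ne_zero)
    exact mul_left_cancel₀ hA0 (by rw [h1, mul_comm, hcA])
  have hT : Good (L.map fun p => p.2.2) pc.2.2⁻¹ := by
    refine h _ _ (by simp [hLlen]) ?_ (not_isScalarMat_inv hpcd hpcs) ?_
      ⟨M, by simp [hLdef], hMr⟩
    · intro y hy
      obtain ⟨p, hp, rfl⟩ := List.mem_map.1 hy
      exact ⟨splitMat_child hs (hLo p hp).1, (hLo p hp).2, (child_facts hd0 (hLo p hp).1).2⟩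
    · rw [hLd, det_nonsing_inv, Ring.inverse_eq_inv']
      refine inv_eq_of_mul_eq_one_left ?_
      have := opc.det_eq
      rw [tb, det_blk, hdx] at this
      exact this
  obtain ⟨ys, h1, h2, -⟩ := fill L (fun p hp => (child_facts hd0 (hLo p hp).1).1) hT
    (-(pc.1⁻¹) • (pc.2.1 ᵥ* pc.2.2⁻¹))
  refine ⟨tb pc :: ys, ?_, ?_⟩
  · rw [List.replicate_succ]
    refine .cons opc (forall₂_orb_trans ?_ h1)
    have hl : List.replicate k x = List.replicate (L.map tb).length x := by simp [hLlen]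
    rw [hl]
    exact forall₂_orb_replicate fun y hy => by
      obtain ⟨p, hp, rfl⟩ := List.mem_map.1 hy
      exact (hLo p hp).1
  · rw [List.prod_cons, h2, tb, blk_mul, ← hAdef, hcA,
      mul_nonsing_inv _ (isUnit_iff_ne_zero.2 hpcd), smul_smul, mul_neg, mul_inv_cancel₀ hc,
      neg_smul, one_smul, neg_add_cancel, blk_one]

end CfsgLib.Lev
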