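import Cfsg.Agent.Lib.Lev.EigenBase
import Cfsg.Agent.Lib.Lev.EigenStep

/-!
The eigenline induction in dimension four (Lev): the base of the induction.
-/

set_option autoImplicit false
set_option linter.unusedSectionVars false
set_option maxHeartbeats 1000000

namespace CfsgLib.Lev.EigenBase

open Matrix

variable {F : Type*} [Field F] {n k : ℕ}

/-- A scalar block below the first row. -/
def Form (M : Matrix (Fin 3) (Fin 3) F) : Prop :=
  ∃ c : F, ∀ i : Fin 3, i ≠ 0 → ∀ j, M i j = if i = j then c else 0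

theorem boost {M : Matrix (Fin 3) (Fin 3) F} (hd : M.det ≠ 0) (hM : ¬ Form M) :
    ∃ b1 b2 : F, ¬ RankOne (!![1, b1, b2; 0, 1, 0; 0, 0, 1] * M) := by
  classical
  by_cases hr : RankOne M
  swap
  · refine ⟨0, 0, ?_⟩
    rwa [show !![(1 : F), 0, 0; 0, 1, 0; 0, 0, 1] = 1 from
      (Matrix.one_fin_three).symm, one_mul]
  obtain ⟨c, a, f, rfl⟩ := hr
  obtain ⟨i, hi, hai⟩ : ∃ i : Fin 3, i ≠ 0 ∧ a i ≠ 0 := by
    by_contra hcon
    push Not at hcon
    refine hM ⟨c, fun i hi j => ?_⟩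
    by_cases hij : i = j
    · subst hij; simp [vecMulVec_apply, hcon i hi]
    · simp [vecMulVec_apply, hcon i hi, hij]
  have hf : f 0 ≠ 0 ∨ f 2 ≠ 0 ∨ f 1 ≠ 0 := by
    by_contra hcon
    push Not at hcon
    refine hM ⟨c, fun i hi j => ?_⟩
    have : f j = 0 := by fin_cases j <;> simp [hcon.1, hcon.2.1, hcon.2.2]
    by_cases hij : i = j
    · subst hij; simp [vecMulVec_apply, this]
    · simp [vecMulVec_apply, this, hij]
  have hc : c ≠ 0 := by
    rintro rfl
    apply hd
    simp [det_fin_three, vecMulVec_apply]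
    ring
  obtain ⟨p1, p2, hp⟩ : ∃ p1 p2 : F, (p1 = 1 ∧ p2 = 0 ∧ (f 0 ≠ 0 ∨ f 2 ≠ 0)) ∨
      (p1 = 0 ∧ p2 = 1 ∧ f 0 = 0 ∧ f 2 = 0 ∧ f 1 ≠ 0) := by
    by_cases h : f 0 ≠ 0 ∨ f 2 ≠ 0
    · exact ⟨1, 0, Or.inl ⟨rfl, rfl, h⟩⟩
    · push Not at h
      refine ⟨0, 1, Or.inr ⟨rfl, rfl, h.1, h.2, ?_⟩⟩
      rcases hf with h' | h' | h'
      · exact absurd h.1 h'
      · exact absurd h.2 h'
      · exact h'
  refine ⟨p1, p2, ?_⟩
  rintro ⟨d', b, q, he⟩
  have key : ∀ i j, (!![1, p1, p2; 0, 1, 0; 0, 0, 1] * (c • (1 : Matrix (Fin 3) (Fin 3) F) +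
      vecMulVec a f)) i j = (d' • (1 : Matrix (Fin 3) (Fin 3) F) + vecMulVec b q) i j := fun i j =>
    congrFun (congrFun he i) j
  have r00 := key 0 0
  have r01 := key 0 1
  have r02 := key 0 2
  have r10 := key 1 0
  have r11 := key 1 1
  have r12 := key 1 2
  have r20 := key 2 0
  have r21 := key 2 1
  have r22 := key 2 2
  simp [Matrix.mul_apply, Fin.sum_univ_three, vecMulVec_apply, Matrix.one_apply]
    at r00 r01 r02 r10 r11 r12 r20 r21 r22
  set e := a 0 + p1 * a 1 + p2 * a 2 with hedef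
  by_cases hdc : d' = c
  · -- no change of the scalar
    have hi12 : i = 1 ∨ i = 2 := by
      have : ∀ i : Fin 3, i ≠ 0 → i = 1 ∨ i = 2 := by decide
      exact this i hi
    have hj3 : ∀ j : Fin 3, j = 0 ∨ j = 1 ∨ j = 2 := by decide
    have hai' : ∀ j, a i * f j = b i * q j := by
      intro j
      rcases hi12 with rfl | rfl <;> rcases hj3 j with rfl | rfl | rfl <;>
        first
          | linear_combination r10 | linear_combination r12 | linear_combination r20
          | linear_combination r21 | linear_combination r11 + hdc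
          | linear_combination r22 + hdc
    have hb : b i ≠ 0 := by
      intro h
      rcases hf with h' | h' | h'
      all_goals exact mul_ne_zero hai h' (by rw [hai', h, zero_mul])
    set t := b 0 * a i / b i - e with ht
    have hrow : ∀ j, ![0, c * p1, c * p2] j = t * f j := by
      intro j
      have hqj : b 0 * q j = b 0 * a i / b i * f j := by
        rw [mul_div_assoc, div_eq_mul_inv]
        have h := hai' j
        have hbb := inv_mul_cancel₀ hb
        linear_combination -(b 0 * (b i)⁻¹) * h - b 0 * q j * hbb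
      rcases hj3 j with rfl | rfl | rfl <;> simp only [ht, Matrix.cons_val_zero,
        Matrix.cons_val_one, Matrix.cons_val, Matrix.head_cons] <;>
        first
          | linear_combination r00 + hqj + hdc
          | linear_combination r01 + hqj
          | linear_combination r02 + hqj
    have e0 := hrow 0
    have e1 := hrow 1
    have e2 := hrow 2
    simp at e0 e1 e2
    rcases hp with ⟨rfl, rfl, h⟩ | ⟨rfl, rfl, h0, h2, h1⟩
    · have ht0 : t ≠ 0 := fun h0 => hc (by rw [h0] at e1; simpa using e1)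
      rcases h with h | h
      · exact h (e0.resolve_left ht0)
      · exact mul_ne_zero ht0 h (by linear_combination -e2)
    · exact hc (by rw [h2] at e2; simpa using e2)
  · -- a new scalar
    have hdc' : d' - c ≠ 0 := sub_ne_zero.2 hdc
    set Δ := a 2 * b 1 - a 1 * b 2 with hΔ
    have k0 : Δ * q 0 = 0 := by linear_combination a 1 * r20 - a 2 * r10
    have k1 : Δ * q 1 = -(a 2 * (d' - c)) := by linear_combination a 1 * r21 - a 2 * r11
    have k2 : Δ * q 2 = a 1 * (d' - c) := by linear_combination a 1 * r22 - a 2 * r12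
    have hΔ0 : Δ ≠ 0 := by
      intro h
      rw [h, zero_mul] at k1 k2
      have : ∀ i : Fin 3, i ≠ 0 → i = 1 ∨ i = 2 := by decide
      rcases this i hi with rfl | rfl
      · exact mul_ne_zero hai hdc' k2.symm
      · exact mul_ne_zero hai hdc' (by linear_combination k1)
    have hq0 : q 0 = 0 := (mul_eq_zero.1 k0).resolve_left hΔ0
    have hf0 : f 0 = 0 := by
      rw [hq0, mul_zero] at r10 r20
      have : ∀ i : Fin 3, i ≠ 0 → i = 1 ∨ i = 2 := by decide
      rcases this i hi with rfl | rfl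
      · exact (mul_eq_zero.1 r10).resolve_left hai
      · exact (mul_eq_zero.1 r20).resolve_left hai
    rw [hq0, hf0] at r00
    exact hdc' (by linear_combination -r00)

theorem submatrix_conj {h hi Y : Matrix (Fin (k + 3)) (Fin (k + 3)) F}
    (hh : ∀ i : Fin (k + 2), h i.succ 0 = 0) (hY : ∀ i : Fin (k + 2), Y i.succ 1 = 0) :
    (h * Y * hi).submatrix Fin.succ (Fin.succAbove (1 : Fin (k + 3))) =
      h.submatrix Fin.succ Fin.succ * Y.submatrix Fin.succ (Fin.succAbove (1 : Fin (k + 3))) *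
        hi.submatrix (Fin.succAbove (1 : Fin (k + 3))) (Fin.succAbove (1 : Fin (k + 3))) := by
  ext i j
  show ∑ l, (h * Y) i.succ l * hi l (Fin.succAbove 1 j) = _
  rw [Fin.sum_univ_succAbove _ (1 : Fin (k + 3))]
  conv_rhs => rw [Matrix.mul_apply]
  have h1 : ∀ l, (h * Y) i.succ l = ∑ m : Fin (k + 2), h i.succ m.succ * Y m.succ l := by
    intro l
    rw [Matrix.mul_apply, Fin.sum_univ_succ, hh, zero_mul, zero_add]
  have h0 : (h * Y) i.succ 1 = 0 := by simp [h1, hY]
  rw [h0, zero_mul, zero_add]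
  refine Finset.sum_congr rfl fun l _ => ?_
  rw [h1, Matrix.mul_apply]
  rfl

/-- The first factor can be chosen with quotient target not of rank one. -/
theorem exists_first {x g' : Matrix (Fin 4) (Fin 4) F} (hr : ¬ RankOne x) (hd : x.det ≠ 0)
    (hdg : g'.det ≠ 0) {mu : F} (hg1 : g' 1 0 = mu) (hg0 : ∀ i, i ≠ 1 → g' i 0 = 0) :
    ∃ y, Orb x y ∧ y 1 0 = 1 ∧ (∀ i, i ≠ 1 → y i 0 = 0) ∧
      ¬ RankOne ((y⁻¹ * g').submatrix Fin.succ Fin.succ) := by
  classical
  have hxs : ¬ IsScalarMat x := fun ⟨c, hc⟩ => hr ⟨c, 0, 0, by simp [hc]⟩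
  obtain ⟨u, hu, huc⟩ : ∃ u, LinearIndependent F ![u, x *ᵥ u] ∧ ((∃ u, Cyc x u) → Cyc x u) := by
    by_cases h : ∃ u, Cyc x u
    · obtain ⟨u, hu⟩ := h
      exact ⟨u, hu.indep, fun _ => hu⟩
    · obtain ⟨u, hu⟩ := exists_indep hxs
      exact ⟨u, hu, fun h' => absurd h' h⟩
  obtain ⟨y, hy, hy1, hy0, hyc⟩ := exists_normal (k := 1) hu one_ne_zero
  set G : Matrix (Fin 3) (Fin 3) F := g'.submatrix (Fin.succAbove (1 : Fin 4)) Fin.succ with hG
  let P : Matrix (Fin 4) (Fin 4) F → Matrix (Fin 3) (Fin 3) F := fun y =>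
    y⁻¹.submatrix Fin.succ (Fin.succAbove (1 : Fin 4))
  -- conjugation by a matrix fixing two basis vectors
  have move : ∀ (y h hi : Matrix (Fin 4) (Fin 4) F), Orb x y → y 1 0 = 1 →
      (∀ i, i ≠ 1 → y i 0 = 0) → h.det = 1 → h * hi = 1 → (∀ i, h i 1 = if i = 1 then 1 else 0) →
      (∀ i, i ≠ 0 → h i 0 = 0) → (∀ i, hi i 0 = if i = 0 then 1 else 0) →
      Orb x (h * y * hi) ∧ (h * y * hi) 1 0 = 1 ∧ (∀ i, i ≠ 1 → (h * y * hi) i 0 = 0) ∧
        P (h * y * hi) = h.submatrix Fin.succ Fin.succ * P y *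
          hi.submatrix (Fin.succAbove (1 : Fin 4)) (Fin.succAbove (1 : Fin 4)) := by
    intro y h hi hy hy1 hy0 hhd hhh hh1 hh0 hhi0
    have hcol : ∀ i, (h * y * hi) i 0 = h i 1 := by
      intro i
      rw [Matrix.mul_apply, Finset.sum_eq_single (0 : Fin 4)
        (fun b _ hb => by rw [hhi0, if_neg hb, mul_zero])
        (fun h => absurd (Finset.mem_univ _) h), hhi0, if_pos rfl, mul_one, Matrix.mul_apply,
        Finset.sum_eq_single (1 : Fin 4) (fun b _ hb => by rw [hy0 b hb, mul_zero])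
        (fun h => absurd (Finset.mem_univ _) h), hy1, mul_one]
    have hdy : y.det ≠ 0 := by rw [hy.det_eq]; exact hd
    refine ⟨orb_mul hy hhd hhh, by rw [hcol, hh1, if_pos rfl],
      fun i hi' => by rw [hcol, hh1, if_neg hi'], ?_⟩
    show (h * y * hi)⁻¹.submatrix _ _ = _
    rw [inv_conj hhh hdy]
    exact submatrix_conj (fun i => hh0 _ (Fin.succ_ne_zero i))
      (normal_inv hdy hy1 hy0 hg1 hg0).2.1
  have hsub : ∀ y, Orb x y → y 1 0 = 1 → (∀ i, i ≠ 1 → y i 0 = 0) →
      (y⁻¹ * g').submatrix Fin.succ Fin.succ = P y * G ∧ (P y * G).det ≠ 0 := by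
    intro y hy hy1 hy0
    have hdy : y.det ≠ 0 := by rw [hy.det_eq]; exact hd
    obtain ⟨-, -, e1, e2, e3⟩ := normal_inv hdy hy1 hy0 hg1 hg0
    refine ⟨e3, fun h0 => ?_⟩
    have h := congrArg Matrix.det (eq_up _ e2)
    rw [det_up, e3] at h
    change (y⁻¹ * g').det = _ * (P y * G).det at h
    rw [h0, mul_zero, det_mul, det_nonsing_inv, Ring.inverse_eq_inv'] at h
    exact mul_ne_zero (inv_ne_zero hdy) hdg h
  suffices hform : ∃ y, Orb x y ∧ y 1 0 = 1 ∧ (∀ i, i ≠ 1 → y i 0 = 0) ∧ ¬ Form (P y * G) by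
    obtain ⟨y, h1, h2, h3, h4⟩ := hform
    obtain ⟨b1, b2, hb⟩ := boost (hsub y h1 h2 h3).2 h4
    obtain ⟨m1, m2, m3, m4⟩ := move y !![1, 0, 0, 0; 0, 1, b1, b2; 0, 0, 1, 0; 0, 0, 0, 1]
      !![1, 0, 0, 0; 0, 1, -b1, -b2; 0, 0, 1, 0; 0, 0, 0, 1] h1 h2 h3
      (by simp [det_succ_row_zero, Fin.sum_univ_succ])
      (by ext i j; fin_cases i <;> fin_cases j <;> simp [Matrix.mul_apply, Fin.sum_univ_four])
      (by intro i; fin_cases i <;> rfl) (by intro i hi; fin_cases i <;> simp at hi ⊢)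
      (by intro i; fin_cases i <;> rfl)
    refine ⟨_, m1, m2, m3, ?_⟩
    rw [(hsub _ m1 m2 m3).1, m4]
    have e1 : (!![1, 0, 0, 0; 0, 1, b1, b2; 0, 0, 1, 0; 0, 0, 0, 1] : Matrix (Fin 4) (Fin 4) F).submatrix
        Fin.succ Fin.succ = !![1, b1, b2; 0, 1, 0; 0, 0, 1] := by
      ext i j; fin_cases i <;> fin_cases j <;> rfl
    have e2 : (!![1, 0, 0, 0; 0, 1, -b1, -b2; 0, 0, 1, 0; 0, 0, 0, 1] : Matrix (Fin 4) (Fin 4) F).submatrix
        (Fin.succAbove (1 : Fin 4)) (Fin.succAbove (1 : Fin 4)) = 1 := by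
      ext i j; fin_cases i <;> fin_cases j <;> rfl
    rwa [e1, e2, mul_one, mul_assoc]
  by_contra hall
  push Not at hall
  obtain ⟨c0, hc0⟩ := hall y hy hy1 hy0
  have hdet0 := (hsub y hy hy1 hy0).2
  have hdy : y.det ≠ 0 := by rw [hy.det_eq]; exact hd
  obtain ⟨-, hY1, -⟩ := normal_inv hdy hy1 hy0 hg1 hg0
  set Y := y⁻¹ with hYd
  -- translations kill the first column of `P`
  have hP0 : P y 1 0 = 0 ∧ P y 2 0 = 0 := by
    obtain ⟨m1, m2, m3, m4⟩ := move y !![1, 0, -1, 0; 0, 1, 0, 0; 0, 0, 1, 0; 0, 0, 0, 1]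
      !![1, 0, 1, 0; 0, 1, 0, 0; 0, 0, 1, 0; 0, 0, 0, 1] hy hy1 hy0
      (by simp [det_succ_row_zero, Fin.sum_univ_succ])
      (by ext i j; fin_cases i <;> fin_cases j <;> simp [Matrix.mul_apply, Fin.sum_univ_four])
      (by intro i; fin_cases i <;> rfl) (by intro i hi; fin_cases i <;> simp at hi ⊢)
      (by intro i; fin_cases i <;> rfl)
    obtain ⟨c1, hc1⟩ := hall _ m1 m2 m3
    have e1 : (!![1, 0, -1, 0; 0, 1, 0, 0; 0, 0, 1, 0; 0, 0, 0, 1] : Matrix (Fin 4) (Fin 4) F).submatrix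
        Fin.succ Fin.succ = 1 := by
      ext i j; fin_cases i <;> fin_cases j <;> rfl
    have e2 : (!![1, 0, 1, 0; 0, 1, 0, 0; 0, 0, 1, 0; 0, 0, 0, 1] : Matrix (Fin 4) (Fin 4) F).submatrix
        (Fin.succAbove (1 : Fin 4)) (Fin.succAbove (1 : Fin 4)) = !![1, 1, 0; 0, 1, 0; 0, 0, 1] := by
      ext i j; fin_cases i <;> fin_cases j <;> rfl
    rw [m4, e1, e2, one_mul] at hc1
    have hdiff : ∀ i : Fin 3, i ≠ 0 → ∀ j, P y i 0 * G 1 j = if i = j then c1 - c0 else 0 := by
      intro i hi j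
      have h := hc1 i hi j
      have h' := hc0 i hi j
      simp [Matrix.mul_apply, Fin.sum_univ_three] at h h'
      by_cases hij : i = j
      · rw [if_pos hij] at h h' ⊢; linear_combination h - h'
      · rw [if_neg hij] at h h' ⊢; linear_combination h - h'
    have hG1 : ∃ j, G 1 j ≠ 0 := by
      by_contra h
      push Not at h
      exact hdet0 (by rw [det_mul, det_eq_zero_of_row_eq_zero 1 h, mul_zero])
    have hcc : c1 - c0 = 0 := by
      by_contra h
      have h11 := hdiff 1 (by decide) 1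
      have h12 := hdiff 1 (by decide) 2
      have h22 := hdiff 2 (by decide) 2
      simp at h11 h12 h22
      rcases h12 with h' | h'
      · exact h (by rw [h', zero_mul] at h11; exact h11.symm)
      · exact h (by rw [h', mul_zero] at h22; exact h22.symm)
    obtain ⟨j, hj⟩ := hG1
    constructor
    · have := hdiff 1 (by decide) j
      rw [hcc, ite_self] at this
      exact (mul_eq_zero.1 this).resolve_right hj
    · have := hdiff 2 (by decide) j
      rw [hcc, ite_self] at this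
      exact (mul_eq_zero.1 this).resolve_right hj
  obtain ⟨hp1, hp2⟩ := hP0
  have q11 := hc0 1 (by decide) 1
  have q12 := hc0 1 (by decide) 2
  have q21 := hc0 2 (by decide) 1
  have q22 := hc0 2 (by decide) 2
  simp [Matrix.mul_apply, Fin.sum_univ_three, hp1, hp2] at q11 q12 q21 q22
  set A := P y 1 1 with hA
  set B := P y 1 2 with hB
  set C := P y 2 1 with hC
  set D := P y 2 2 with hD
  -- the inverse and a conjugate of the lower block are proportional
  have hADBC : A * D - B * C ≠ 0 := by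
    intro h
    apply hdet0
    rw [det_mul]
    have : (P y).det = 0 := by
      rw [det_fin_three, hp1, hp2, ← hA, ← hB, ← hC, ← hD]
      linear_combination (P y 0 0) * h
    rw [this, zero_mul]
  have hc00 : c0 ≠ 0 := by
    intro h
    subst h
    have g11 : (A * D - B * C) * G 1 1 = 0 := by linear_combination D * q11 - B * q21
    have g12 : (A * D - B * C) * G 1 2 = 0 := by linear_combination D * q12 - B * q22
    have g21 : (A * D - B * C) * G 2 1 = 0 := by linear_combination A * q21 - C * q11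
    have g22 : (A * D - B * C) * G 2 2 = 0 := by linear_combination A * q22 - C * q12
    apply hdet0
    rw [det_mul]
    have : G.det = 0 := by
      rw [det_fin_three, (mul_eq_zero.1 g11).resolve_left hADBC,
        (mul_eq_zero.1 g12).resolve_left hADBC, (mul_eq_zero.1 g21).resolve_left hADBC,
        (mul_eq_zero.1 g22).resolve_left hADBC]
      ring
    rw [this, mul_zero]
  have hgG : ∀ a b : F,
      a * G 1 1 + b * G 2 1 = 0 → a * G 1 2 + b * G 2 2 = 0 → a = 0 ∧ b = 0 := by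
    intro a b h1 h2
    have i11 : G 1 1 * (A * D - B * C) = c0 * D := by linear_combination D * q11 - B * q21
    have i21 : G 2 1 * (A * D - B * C) = -(c0 * C) := by linear_combination A * q21 - C * q11
    have i12 : G 1 2 * (A * D - B * C) = -(c0 * B) := by linear_combination D * q12 - B * q22
    have i22 : G 2 2 * (A * D - B * C) = c0 * A := by linear_combination A * q22 - C * q12
    have u1 : c0 * (a * D - b * C) = 0 := by
      linear_combination (A * D - B * C) * h1 - a * i11 - b * i21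
    have u2 : c0 * (b * A - a * B) = 0 := by
      linear_combination (A * D - B * C) * h2 - a * i12 - b * i22
    have v1 := (mul_eq_zero.1 u1).resolve_left hc00
    have v2 := (mul_eq_zero.1 u2).resolve_left hc00
    refine ⟨?_, ?_⟩
    · exact (mul_eq_zero.1 (by linear_combination A * v1 + C * v2 :
        a * (A * D - B * C) = 0)).resolve_right hADBC
    · exact (mul_eq_zero.1 (by linear_combination B * v1 + D * v2 :
        b * (A * D - B * C) = 0)).resolve_right hADBC
  have hCB : C = 0 ∧ D = A + 0 * B := by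
    obtain ⟨m1, m2, m3, m4⟩ := move y !![1, 0, 0, 0; 0, 1, 0, 0; 0, 0, 1, 1; 0, 0, 0, 1]
      !![1, 0, 0, 0; 0, 1, 0, 0; 0, 0, 1, -1; 0, 0, 0, 1] hy hy1 hy0
      (by simp [det_succ_row_zero, Fin.sum_univ_succ])
      (by ext i j; fin_cases i <;> fin_cases j <;> simp [Matrix.mul_apply, Fin.sum_univ_four])
      (by intro i; fin_cases i <;> rfl) (by intro i hi; fin_cases i <;> simp at hi ⊢)
      (by intro i; fin_cases i <;> rfl)
    obtain ⟨c1, hc1⟩ := hall _ m1 m2 m3
    have e1 : (!![1, 0, 0, 0; 0, 1, 0, 0; 0, 0, 1, 1; 0, 0, 0, 1] : Matrix (Fin 4) (Fin 4) F).submatrix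
        Fin.succ Fin.succ = !![1, 0, 0; 0, 1, 1; 0, 0, 1] := by
      ext i j; fin_cases i <;> fin_cases j <;> rfl
    have e2 : (!![1, 0, 0, 0; 0, 1, 0, 0; 0, 0, 1, -1; 0, 0, 0, 1] : Matrix (Fin 4) (Fin 4) F).submatrix
        (Fin.succAbove (1 : Fin 4)) (Fin.succAbove (1 : Fin 4)) = !![1, 0, 0; 0, 1, -1; 0, 0, 1] := by
      ext i j; fin_cases i <;> fin_cases j <;> rfl
    rw [m4, e1, e2] at hc1
    have s11 := hc1 1 (by decide) 1
    have s12 := hc1 1 (by decide) 2
    have s21 := hc1 2 (by decide) 1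
    have s22 := hc1 2 (by decide) 2
    simp [Matrix.mul_apply, Matrix.vecMul, dotProduct, Fin.sum_univ_three, hp1, hp2, ← hA, ← hB,
      ← hC, ← hD]
      at s11 s12 s21 s22
    obtain ⟨hC0, hD0⟩ := hgG (c0 * C - c1 * C) (c0 * (D - C) - c1 * D)
      (by linear_combination c0 * s21 - c1 * q21) (by linear_combination c0 * s22 - c1 * q22)
    obtain ⟨hA0, hB0⟩ := hgG (c0 * (A + C) - c1 * A) (c0 * (B + D - A - C) - c1 * B)
      (by linear_combination c0 * s11 - c1 * q11) (by linear_combination c0 * s12 - c1 * q12)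
    have hC' : C = 0 := by
      by_contra h
      have : c0 = c1 := sub_eq_zero.1
        ((mul_eq_zero.1 (by linear_combination hC0 : (c0 - c1) * C = 0)).resolve_right h)
      exact mul_ne_zero hc00 h (by rw [← this] at hA0; linear_combination hA0)
    have hcc : c0 = c1 := by
      rw [hC'] at hA0
      refine sub_eq_zero.1 ((mul_eq_zero.1 (by linear_combination hA0 :
        (c0 - c1) * A = 0)).resolve_right fun h => hADBC ?_)
      rw [h, hC']; ring
    refine ⟨hC', ?_⟩
    rw [← hcc, hC'] at hB0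
    exact mul_left_cancel₀ hc00 (by linear_combination hB0)
  obtain ⟨hC', hDA⟩ := hCB
  rw [zero_mul, add_zero] at hDA
  have hB' : B = 0 := by
    obtain ⟨m1, m2, m3, m4⟩ := move y !![1, 0, 0, 0; 0, 1, 0, 0; 0, 0, 1, 0; 0, 0, 1, 1]
      !![1, 0, 0, 0; 0, 1, 0, 0; 0, 0, 1, 0; 0, 0, -1, 1] hy hy1 hy0
      (by simp [det_succ_row_zero, Fin.sum_univ_succ])
      (by ext i j; fin_cases i <;> fin_cases j <;> simp [Matrix.mul_apply, Fin.sum_univ_four])
      (by intro i; fin_cases i <;> rfl) (by intro i hi; fin_cases i <;> simp at hi ⊢)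
      (by intro i; fin_cases i <;> rfl)
    obtain ⟨c1, hc1⟩ := hall _ m1 m2 m3
    have e1 : (!![1, 0, 0, 0; 0, 1, 0, 0; 0, 0, 1, 0; 0, 0, 1, 1] : Matrix (Fin 4) (Fin 4) F).submatrix
        Fin.succ Fin.succ = !![1, 0, 0; 0, 1, 0; 0, 1, 1] := by
      ext i j; fin_cases i <;> fin_cases j <;> rfl
    have e2 : (!![1, 0, 0, 0; 0, 1, 0, 0; 0, 0, 1, 0; 0, 0, -1, 1] : Matrix (Fin 4) (Fin 4) F).submatrix
        (Fin.succAbove (1 : Fin 4)) (Fin.succAbove (1 : Fin 4)) = !![1, 0, 0; 0, 1, 0; 0, -1, 1] := by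
      ext i j; fin_cases i <;> fin_cases j <;> rfl
    rw [m4, e1, e2] at hc1
    have s11 := hc1 1 (by decide) 1
    have s12 := hc1 1 (by decide) 2
    simp [Matrix.mul_apply, Matrix.vecMul, dotProduct, Fin.sum_univ_three, hp1, hp2, ← hA, ← hB,
      ← hC, ← hD] at s11 s12
    obtain ⟨hA0, hB0⟩ := hgG (c0 * (A - B) - c1 * A) (c0 * B - c1 * B)
      (by linear_combination c0 * s11 - c1 * q11) (by linear_combination c0 * s12 - c1 * q12)
    by_contra h
    have : c0 = c1 := sub_eq_zero.1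
      ((mul_eq_zero.1 (by linear_combination hB0 : (c0 - c1) * B = 0)).resolve_right h)
    exact mul_ne_zero hc00 h (by rw [← this] at hA0; linear_combination -hA0)
  -- the complement of the first factor is scalar
  have hA0 : A ≠ 0 := fun h => hADBC (by rw [h, hC']; ring)
  have hrow : ∀ i : Fin 4, i ≠ 0 → i ≠ 1 → ∀ j, y i j = if i = j then A⁻¹ else 0 := by
    intro i hi0 hi1 j
    have hYi : ∀ l, Y i l = if i = l then A else 0 := by
      intro l
      have h20 : Y 2 0 = 0 := hp1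
      have h21 : Y 2 1 = 0 := hY1 1
      have h30 : Y 3 0 = 0 := hp2
      have h31 : Y 3 1 = 0 := hY1 2
      have h22 : Y 2 2 = A := rfl
      have h23 : Y 2 3 = 0 := hB'
      have h32 : Y 3 2 = 0 := hC'
      have h33 : Y 3 3 = A := hDA
      have hi23 : ∀ i : Fin 4, i ≠ 0 → i ≠ 1 → i = 2 ∨ i = 3 := by decide
      have hl4 : ∀ l : Fin 4, l = 0 ∨ l = 1 ∨ l = 2 ∨ l = 3 := by decide
      rcases hi23 i hi0 hi1 with rfl | rfl <;> rcases hl4 l with rfl | rfl | rfl | rfl <;>
        simp [h20, h21, h30, h31, h22, h23, h32, h33]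
    have h := congrFun (congrFun (nonsing_inv_mul y hdy.isUnit) i) j
    rw [← hYd, Matrix.mul_apply, Finset.sum_eq_single i
      (fun b _ hb => by rw [hYi, if_neg (Ne.symm hb), zero_mul])
      (fun h => absurd (Finset.mem_univ _) h), hYi, if_pos rfl, Matrix.one_apply] at h
    by_cases hij : i = j
    · rw [if_pos hij] at h ⊢
      exact eq_inv_of_mul_eq_one_right h
    · rw [if_neg hij] at h ⊢
      exact (mul_eq_zero.1 h).resolve_left hA0
  have hry : ¬ RankOne y := fun h => hr ((GOrb.of_orb hy).rankOne h)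
  obtain ⟨v, hv⟩ := exists_cyc_normal (k := 1) (c := A⁻¹) hy1 hy0 hry hrow
  have hc := hyc (huc (cyc_of_orb hy hv))
  have := hc (-(y 0 1)) (-(y 1 1)) 1 (by
    funext i
    fin_cases i <;> simp [mulVec, dotProduct, Fin.sum_univ_four, hy1, hy0 0 (by decide),
      hy0 2 (by decide), hy0 3 (by decide), hrow 2 (by decide) (by decide),
      hrow 3 (by decide) (by decide)])
  exact one_ne_zero this.2.2

end CfsgLib.Lev.EigenBase

namespace CfsgLib.Lev

open Matrix EigenBase

variable {F : Type*} [Field F] [Fintype F]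

/-- **Dimension four**: products of split classes without common eigenvector. -/
theorem splitSpec_four (hq : 4 ≤ Fintype.card F) : SplitSpec F 4 := by
  classical
  rintro l g hl hs hg hdet ⟨x, hx, hr⟩
  obtain ⟨l1, l2, rfl⟩ := List.append_of_mem hx
  refine good_of_front (fun z hz => (hs z (List.mem_append_left _ hz)).2.2) fun x' hx' => ?_
  have hr' : ¬ RankOne x' := fun h => hr (hx'.rankOne h)
  have hd' : x'.det ≠ 0 := by rw [hx'.det_eq]; exact (hs x hx).2.2
  have hdet' : g.det = x'.det * ((l1 ++ l2).map det).prod := by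
    rw [hdet, hx'.det_eq]
    simp
    ring
  obtain ⟨D, hD, hDs, hDd, hmu⟩ := exists_data (k := 1) (l1 ++ l2) fun z hz =>
    hs z (by simp only [List.mem_append, List.mem_cons] at hz ⊢; tauto)
  have hdA : ((D.map Prod.snd).map det).prod ≠ 0 := by
    refine List.prod_ne_zero fun h0 => ?_
    obtain ⟨z, hz, hz0⟩ := List.mem_map.1 h0
    exact (hDs z hz).2.2 hz0
  obtain ⟨v, hv⟩ := exists_indep hg
  obtain ⟨g', hg', hg1, hg0, -⟩ := exists_normal (k := 1) hv hmu
  refine Good.conj ?_ hg'.symm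
  have hdg : g'.det ≠ 0 := by
    rw [hg'.det_eq, hdet', hDd]
    exact mul_ne_zero hd' (mul_ne_zero hmu hdA)
  obtain ⟨y, hy, hy1, hy0, hU⟩ := exists_first hr' hd' hdg hg1 hg0
  have hdy : y.det ≠ 0 := by rw [hy.det_eq]; exact hd'
  obtain ⟨-, -, hU00, hUcol, -⟩ := normal_inv hdy hy1 hy0 hg1 hg0
  have hUdet : ((y⁻¹ * g').submatrix Fin.succ Fin.succ).det = ((D.map Prod.snd).map det).prod := by
    have h := congrArg Matrix.det (eq_up _ hUcol)
    rw [det_up, hU00, det_mul, det_nonsing_inv, Ring.inverse_eq_inv', hy.det_eq, hg'.det_eq,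
      hdet', inv_mul_cancel_left₀ hd', hDd] at h
    exact (mul_left_cancel₀ hmu h).symm
  have hUs : ¬ IsScalarMat ((y⁻¹ * g').submatrix Fin.succ Fin.succ) :=
    fun ⟨c, hc⟩ => hU ⟨c, 0, 0, by simp [hc]⟩
  obtain ⟨As, hAs, hprod, hcommon⟩ := good_three hq
    (l := D.map Prod.snd) (by rw [List.length_map, ← hD.length_eq]; simp at hl ⊢; omega)
    hDs hUs hUdet (Or.inl hU)
  obtain ⟨D', hD', hf, hsnd⟩ := low_replace hD (hAs.imp fun a b h => GOrb.of_orb h)
  refine good_step hy hdy hD' (by rw [hsnd]; exact hcommon) hUcol ?_ ?_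
    ⟨0, by rw [show (0 : Fin 3).succ = 1 from rfl, hy1]; exact one_ne_zero⟩
  · rw [hf]; exact hU00
  · rw [hsnd]; exact hprod.symm

end CfsgLib.Lev
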