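import Cfsg.Agent.Lib.Lev.Defs
import Mathlib.LinearAlgebra.Dual.Lemmas
import Mathlib.LinearAlgebra.Matrix.DotProduct
import Mathlib.LinearAlgebra.Dimension.RankNullity
import Mathlib.LinearAlgebra.FiniteDimensional.Basic

/-!
Lifting of products through an eigenline (Lev): block triangular matrices, normal forms, the step.
-/

set_option autoImplicit false
set_option linter.unusedSectionVars false

namespace CfsgLib.Lev.EigenBase

open Matrix

variable {F : Type*} [Field F] {k n : ℕ}

/-- Block upper triangular matrix with first column `lam * e 0`. -/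
def up (lam : F) (u : Fin k → F) (A : Matrix (Fin k) (Fin k) F) :
    Matrix (Fin (k + 1)) (Fin (k + 1)) F :=
  Matrix.of (Fin.cons (Fin.cons lam u) fun i => Fin.cons 0 (A i))

theorem up_mul (a b : F) (u v : Fin k → F) (A B : Matrix (Fin k) (Fin k) F) :
    up a u A * up b v B = up (a * b) (a • v + u ᵥ* B) (A * B) := by
  ext i j
  induction i using Fin.cases <;> induction j using Fin.cases <;>
    simp [up, Matrix.mul_apply, Fin.sum_univ_succ, Matrix.vecMul, dotProduct]

theorem up_one : up (1 : F) (0 : Fin k → F) 1 = 1 := by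
  ext i j
  induction i using Fin.cases <;> induction j using Fin.cases <;>
    simp [up, Matrix.one_apply, Fin.succ_inj, (Fin.succ_ne_zero _).symm]

theorem det_up (a : F) (u : Fin k → F) (A : Matrix (Fin k) (Fin k) F) :
    (up a u A).det = a * A.det := by
  rw [det_succ_column_zero, Fin.sum_univ_succ]
  simp [up]
  left
  exact congrArg Matrix.det (by ext i j; simp)

theorem eq_up (M : Matrix (Fin (k + 1)) (Fin (k + 1)) F) (h : ∀ i : Fin k, M i.succ 0 = 0) :
    M = up (M 0 0) (fun j => M 0 j.succ) (M.submatrix Fin.succ Fin.succ) := by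
  ext i j
  induction i using Fin.cases <;> induction j using Fin.cases <;> simp [up, h]

theorem det_ne_zero_of_eq {ι : Type*} [Fintype ι] [DecidableEq ι] {x : Matrix ι ι F}
    (h : x.det = 1) : IsUnit x.det := by
  rw [h]; exact isUnit_one

/-- A conjugate by any invertible matrix. -/
def GOrb (x y : Matrix (Fin n) (Fin n) F) : Prop :=
  ∃ h : Matrix (Fin n) (Fin n) F, h.det ≠ 0 ∧ h * x = y * h

theorem GOrb.of_orb {x y : Matrix (Fin n) (Fin n) F} (h : Orb x y) : GOrb x y := by
  obtain ⟨k, hk, he⟩ := h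
  exact ⟨k, by rw [hk]; exact one_ne_zero, he⟩

theorem GOrb.refl (x : Matrix (Fin n) (Fin n) F) : GOrb x x :=
  ⟨1, by rw [det_one]; exact one_ne_zero, by rw [one_mul, mul_one]⟩

theorem GOrb.trans {x y z : Matrix (Fin n) (Fin n) F} (h1 : GOrb x y) (h2 : GOrb y z) :
    GOrb x z := by
  obtain ⟨h, hd, he⟩ := h1
  obtain ⟨k, kd, ke⟩ := h2
  exact ⟨k * h, by rw [det_mul]; exact mul_ne_zero kd hd,
    by rw [mul_assoc, he, ← mul_assoc, ke, mul_assoc]⟩

theorem GOrb.symm {x y : Matrix (Fin n) (Fin n) F} (h1 : GOrb x y) : GOrb y x := by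
  obtain ⟨h, hd, he⟩ := h1
  have hu : IsUnit h.det := hd.isUnit
  refine ⟨h⁻¹, by rw [det_nonsing_inv]; simpa using hd, ?_⟩
  calc h⁻¹ * y = h⁻¹ * (y * h) * h⁻¹ := by
        rw [← mul_assoc h⁻¹ y h, mul_assoc (h⁻¹ * y), mul_nonsing_inv _ hu, mul_one]
    _ = x * h⁻¹ := by rw [← he, ← mul_assoc, nonsing_inv_mul _ hu, one_mul]

theorem GOrb.det_eq {x y : Matrix (Fin n) (Fin n) F} (h1 : GOrb x y) : y.det = x.det := by
  obtain ⟨h, hd, he⟩ := h1
  have := congrArg Matrix.det he
  rw [det_mul, det_mul, mul_comm h.det] at this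
  exact (mul_right_cancel₀ hd this).symm

theorem GOrb.charpoly_eq {x y : Matrix (Fin n) (Fin n) F} (h1 : GOrb x y) :
    y.charpoly = x.charpoly := by
  obtain ⟨h, hd, he⟩ := h1
  have hu : IsUnit h := (Matrix.isUnit_iff_isUnit_det h).2 hd.isUnit
  obtain ⟨U, rfl⟩ := hu
  have : y = U.val * x * U⁻¹.val := by rw [he, mul_assoc, Units.mul_inv, mul_one]
  rw [this, Matrix.coe_units_inv]
  exact Matrix.charpoly_units_conj U x

theorem GOrb.trace_eq {x y : Matrix (Fin n) (Fin n) F} (h1 : GOrb x y) : y.trace = x.trace := by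
  obtain ⟨h, hd, he⟩ := h1
  have : y = h * x * h⁻¹ := by rw [he, mul_assoc, mul_nonsing_inv _ hd.isUnit, mul_one]
  rw [this, trace_mul_comm, ← mul_assoc, nonsing_inv_mul _ hd.isUnit, one_mul]

theorem GOrb.splitMat {x y : Matrix (Fin n) (Fin n) F} (h : GOrb x y) (hs : SplitMat x) :
    SplitMat y := by
  unfold SplitMat
  rw [h.charpoly_eq]
  exact hs

theorem GOrb.not_isScalarMat {x y : Matrix (Fin n) (Fin n) F} (h : GOrb x y)
    (hs : ¬ IsScalarMat x) : ¬ IsScalarMat y := by
  rintro ⟨c, rfl⟩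
  obtain ⟨h, hd, he⟩ := h.symm
  refine hs ⟨c, ?_⟩
  have : x * h = (c • (1 : Matrix (Fin n) (Fin n) F)) * h := by
    rw [← he, Matrix.mul_smul, mul_one, Matrix.smul_mul, one_mul]
  have := congrArg (· * h⁻¹) this
  simpa [mul_assoc, mul_nonsing_inv _ hd.isUnit] using this

theorem GOrb.rankOne {x y : Matrix (Fin n) (Fin n) F} (h : GOrb x y) (hr : RankOne y) :
    RankOne x := by
  obtain ⟨c, a, b, rfl⟩ := hr
  obtain ⟨h, hd, he⟩ := h.symm
  refine ⟨c, h *ᵥ a, b ᵥ* h⁻¹, ?_⟩
  have hx : x = h * (c • 1 + vecMulVec a b) * h⁻¹ := by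
    rw [he, mul_assoc, mul_nonsing_inv _ hd.isUnit, mul_one]
  rw [hx, mul_add, add_mul, Matrix.mul_smul, mul_one, Matrix.smul_mul,
    mul_nonsing_inv _ hd.isUnit, mul_vecMulVec, vecMulVec_mul]

/-- `B` can be the quotient of a member of the class of `x` with eigenvalue `lam`. -/
def Low (x : Matrix (Fin (k + 1)) (Fin (k + 1)) F) (d : F × Matrix (Fin k) (Fin k) F) : Prop :=
  d.1 ≠ 0 ∧ ∃ u, Orb x (up d.1 u d.2)

theorem Low.gorb {x : Matrix (Fin (k + 1)) (Fin (k + 1)) F} {lam : F}
    {A A' : Matrix (Fin k) (Fin k) F} (h : Low x (lam, A)) (hA : GOrb A A') :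
    Low x (lam, A') := by
  obtain ⟨hl, u, hu⟩ := h
  obtain ⟨P, hP, he⟩ := hA
  refine ⟨hl, P.det⁻¹ • (u ᵥ* P⁻¹), hu.trans ⟨up P.det⁻¹ 0 P, ?_, ?_⟩⟩
  · rw [det_up, inv_mul_cancel₀ hP]
  · rw [up_mul, up_mul, he, mul_comm P.det⁻¹ lam]
    congr 1
    rw [zero_vecMul, add_zero, smul_zero, zero_add, smul_vecMul, vecMul_vecMul,
      nonsing_inv_mul _ hP.isUnit, vecMul_one]

/-- The first row can be moved by the range of `r ↦ r A - lam r`. -/
theorem orb_shift (lam : F) (u r : Fin k → F) (A : Matrix (Fin k) (Fin k) F) :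
    Orb (up lam u A) (up lam (u + (r ᵥ* A - lam • r)) A) := by
  refine ⟨up 1 r 1, by rw [det_up, det_one, one_mul], ?_⟩
  rw [up_mul, up_mul, one_mul, mul_one, one_mul, mul_one, vecMul_one, one_smul]
  congr 1
  abel

/-- **The attainable first rows** form an affine space, and a functional constant on it is a common
eigenvector of the quotients. -/
theorem exists_rows {l : List (Matrix (Fin (k + 1)) (Fin (k + 1)) F)}
    {D : List (F × Matrix (Fin k) (Fin k) F)} (h : List.Forall₂ Low l D) :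
    ∃ (s0 : Fin k → F) (W : Submodule F (Fin k → F)),
      (∀ s, s - s0 ∈ W → ∃ y : List (Matrix (Fin (k + 1)) (Fin (k + 1)) F),
        List.Forall₂ Orb l y ∧
        y.prod = up (D.map Prod.fst).prod s (D.map Prod.snd).prod ∧
        List.Forall₂ (fun d z => ∃ u, z = up d.1 u d.2) D y) ∧
      ∀ c : Fin k → F, (∀ w ∈ W, w ⬝ᵥ c = 0) → ∀ d ∈ D, d.2 *ᵥ c = d.1 • c := by
  induction h with
  | nil =>
    refine ⟨0, ⊥, fun s hs => ⟨[], List.Forall₂.nil, ?_, List.Forall₂.nil⟩, by simp⟩
    rw [sub_zero, Submodule.mem_bot] at hs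
    simp [hs, up_one]
  | @cons x d l D hx _ ih =>
    obtain ⟨lam, A⟩ := d
    obtain ⟨hlam, u0, hu0⟩ := hx
    simp only at hlam hu0
    obtain ⟨s0, W, hW, hc⟩ := ih
    set P := (D.map Prod.snd).prod
    let φ : (Fin k → F) →ₗ[F] (Fin k → F) :=
      P.vecMulLinear.comp (A.vecMulLinear - lam • LinearMap.id)
    have hφ : ∀ r, φ r = (r ᵥ* A - lam • r) ᵥ* P := fun r => rfl
    refine ⟨lam • s0 + u0 ᵥ* P, W ⊔ LinearMap.range φ, fun s hs => ?_, fun c hcW => ?_⟩
    · obtain ⟨w, hw, _, ⟨r, rfl⟩, he⟩ := Submodule.mem_sup.1 hs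
      obtain ⟨y, h1, h2, h3⟩ := hW (s0 + lam⁻¹ • w) (by
        rw [add_sub_cancel_left]
        exact W.smul_mem _ hw)
      refine ⟨up lam (u0 + (r ᵥ* A - lam • r)) A :: y,
        List.Forall₂.cons (hu0.trans (orb_shift _ _ _ _)) h1, ?_,
        List.Forall₂.cons ⟨_, rfl⟩ h3⟩
      rw [List.prod_cons, h2, up_mul]
      simp only [List.map_cons, List.prod_cons]
      congr 1
      rw [smul_add, smul_smul, mul_inv_cancel₀ hlam, one_smul, add_vecMul, ← hφ]
      have : s = lam • s0 + u0 ᵥ* P + (w + φ r) := by rw [he]; abel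
      rw [this]
      abel
    · have h1 := hc c fun w hw => hcW w (Submodule.mem_sup_left hw)
      have hP : ∀ D' : List (F × Matrix (Fin k) (Fin k) F),
          (∀ d ∈ D', d.2 *ᵥ c = d.1 • c) →
          (D'.map Prod.snd).prod *ᵥ c = (D'.map Prod.fst).prod • c := by
        intro D'
        induction D' with
        | nil => simp
        | cons e D' ih' =>
          intro he
          simp only [List.map_cons, List.prod_cons]
          rw [← mulVec_mulVec, ih' (fun d hd => he d (List.mem_cons_of_mem _ hd)), mulVec_smul,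
            he e List.mem_cons_self, smul_smul, mul_comm]
      intro d hd
      rcases List.mem_cons.1 hd with rfl | hd
      · have hne : (D.map Prod.fst).prod ≠ 0 := by
          refine List.prod_ne_zero ?_
          intro h0
          obtain ⟨e, he, he0⟩ := List.mem_map.1 h0
          have : ∀ (l : List (Matrix (Fin (k + 1)) (Fin (k + 1)) F))
              (D : List (F × Matrix (Fin k) (Fin k) F)), List.Forall₂ Low l D →
              ∀ e ∈ D, e.1 ≠ 0 := by
            intro l D h
            induction h with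
            | nil => simp
            | cons h _ ih => exact List.forall_mem_cons.2 ⟨h.1, ih⟩
          exact this _ _ (by assumption) e he he0
        show A *ᵥ c = lam • c
        refine sub_eq_zero.1 (dotProduct_eq_zero _ fun r => ?_)
        have h2 := hcW (φ r) (Submodule.mem_sup_right ⟨r, rfl⟩)
        rw [hφ, ← dotProduct_mulVec, hP D h1, dotProduct_smul, smul_eq_mul, mul_eq_zero] at h2
        have h3 := h2.resolve_left hne
        rw [sub_dotProduct, ← dotProduct_mulVec, smul_dotProduct] at h3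
        rw [dotProduct_comm, dotProduct_sub, dotProduct_smul]
        exact h3
      · exact h1 d hd

theorem exists_rows_eq {l : List (Matrix (Fin (k + 1)) (Fin (k + 1)) F)}
    {D : List (F × Matrix (Fin k) (Fin k) F)} (h : List.Forall₂ Low l D)
    (hne : ¬ CommonEig (D.map Prod.snd)) (s : Fin k → F) :
    ∃ y : List (Matrix (Fin (k + 1)) (Fin (k + 1)) F), List.Forall₂ Orb l y ∧
      y.prod = up (D.map Prod.fst).prod s (D.map Prod.snd).prod ∧
      List.Forall₂ (fun d z => ∃ u, z = up d.1 u d.2) D y := by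
  obtain ⟨s0, W, hW, hc⟩ := exists_rows h
  refine hW s ?_
  by_contra hs
  obtain ⟨f, hf, hfW⟩ := Submodule.exists_dual_map_eq_bot_of_notMem hs inferInstance
  let c : Fin k → F := fun i => f (Pi.single i 1)
  have hfc : ∀ w, w ⬝ᵥ c = f w := fun w => by
    conv_rhs => rw [pi_eq_sum_univ' w, map_sum]
    simp [dotProduct, c]
  have hcW : ∀ w ∈ W, w ⬝ᵥ c = 0 := fun w hw => by
    rw [hfc]
    exact (Submodule.mem_bot F).1 (hfW ▸ Submodule.mem_map_of_mem hw)
  refine hne ⟨c, fun hc0 => hf ?_, fun A hA => ?_⟩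
  · rw [← hfc, hc0, dotProduct_zero]
  · obtain ⟨d, hd, rfl⟩ := List.mem_map.1 hA
    exact ⟨d.1, hc c hcW d hd⟩

/-- **The step.** A factor moving the eigenline, and quotient data without common eigenvector. -/
theorem good_step {x g y : Matrix (Fin (k + 1)) (Fin (k + 1)) F}
    {l : List (Matrix (Fin (k + 1)) (Fin (k + 1)) F)}
    {D : List (F × Matrix (Fin k) (Fin k) F)} (hy : Orb x y) (hdy : y.det ≠ 0)
    (hD : List.Forall₂ Low l D) (hne : ¬ CommonEig (D.map Prod.snd))
    (hcol : ∀ i : Fin k, (y⁻¹ * g) i.succ 0 = 0)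
    (h00 : (y⁻¹ * g) 0 0 = (D.map Prod.fst).prod)
    (hA : (y⁻¹ * g).submatrix Fin.succ Fin.succ = (D.map Prod.snd).prod)
    (hmove : ∃ i : Fin k, y i.succ 0 ≠ 0) : Good (x :: l) g := by
  obtain ⟨ys, h1, h2, h3⟩ := exists_rows_eq hD hne (fun j => (y⁻¹ * g) 0 j.succ)
  refine ⟨y :: ys, List.Forall₂.cons hy h1, ?_, ?_⟩
  · rw [List.prod_cons, h2, ← h00, ← hA, ← eq_up _ hcol, ← mul_assoc,
      mul_nonsing_inv _ hdy.isUnit, one_mul]
  · rintro ⟨w, hw, hev⟩
    by_cases ht : (fun i : Fin k => w i.succ) = 0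
    · -- the eigenline is moved
      obtain ⟨i, hi⟩ := hmove
      obtain ⟨c, hc⟩ := hev y List.mem_cons_self
      have hw0 : w 0 ≠ 0 := fun h0 => hw (funext fun j => by
        induction j using Fin.cases with
        | zero => exact h0
        | succ i => exact congrFun ht i)
      have hcf := congrFun hc i.succ
      have ht' : ∀ j : Fin k, w j.succ = 0 := fun j => congrFun ht j
      simp [mulVec, dotProduct, Fin.sum_univ_succ, ht', hi, hw0] at hcf
    · refine hne ⟨_, ht, fun A hA' => ?_⟩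
      obtain ⟨d, hd, rfl⟩ := List.mem_map.1 hA'
      have : ∀ (D : List (F × Matrix (Fin k) (Fin k) F)) (ys : List _),
          List.Forall₂ (fun d z => ∃ u, z = up d.1 u d.2) D ys →
          ∀ d ∈ D, ∃ u, up d.1 u d.2 ∈ ys := by
        intro D ys h
        induction h with
        | nil => simp
        | @cons a b D ys h _ ih =>
          intro d hd
          rcases List.mem_cons.1 hd with rfl | hd
          · obtain ⟨u, rfl⟩ := h
            exact ⟨u, List.mem_cons_self⟩
          · obtain ⟨u, hu⟩ := ih d hd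
            exact ⟨u, List.mem_cons_of_mem _ hu⟩
      obtain ⟨u, hu⟩ := this D ys h3 d hd
      obtain ⟨c, hc⟩ := hev _ (List.mem_cons_of_mem _ hu)
      refine ⟨c, funext fun j => ?_⟩
      have := congrFun hc j.succ
      simpa [mulVec, dotProduct, Fin.sum_univ_succ, up] using this

/-- An independent family extends to the columns of a matrix of determinant one. -/
theorem exists_det_one {m : ℕ} (hm : m < n) {v : Fin m → Fin n → F}
    (hv : LinearIndependent F v) :
    ∃ k : Matrix (Fin n) (Fin n) F, k.det = 1 ∧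
      ∀ (i : Fin n) (j : Fin m), k i ⟨j, lt_trans j.2 hm⟩ = v j i := by
  obtain ⟨x, hx⟩ := exists_linearIndependent_snoc_of_lt_finrank hv
    (by rw [Module.finrank_fin_fun]; exact hm)
  by_cases h : m + 1 < n
  · obtain ⟨k, hk, hkv⟩ := exists_det_one h hx
    refine ⟨k, hk, fun i j => ?_⟩
    have := hkv i j.castSucc
    rw [Fin.snoc_castSucc] at this
    exact this
  · obtain rfl : n = m + 1 := by omega
    let K : Matrix (Fin (m + 1)) (Fin (m + 1)) F := Matrix.of fun i j => Fin.snoc (α := fun _ => Fin (m + 1) → F) v x j i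
    have hK : K.det ≠ 0 := by
      have : IsUnit K := linearIndependent_cols_iff_isUnit.1 hx
      exact ((Matrix.isUnit_iff_isUnit_det K).1 this).ne_zero
    refine ⟨K.updateCol (Fin.last m) (K.det⁻¹ • fun i => K i (Fin.last m)), ?_, fun i j => ?_⟩
    · rw [det_updateCol_smul]
      rw [show (K.updateCol (Fin.last m) fun i => K i (Fin.last m)) = K from updateCol_eq_self K _]
      exact inv_mul_cancel₀ hK
    · have e : (⟨j, lt_trans j.2 hm⟩ : Fin (m + 1)) = j.castSucc := Fin.ext rfl
      rw [e, updateCol_ne (Fin.castSucc_lt_last j).ne]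
      simp [K]
termination_by n - m

/-- Conjugation by a matrix of determinant one, written on the left. -/
theorem orb_conj {x k : Matrix (Fin n) (Fin n) F} (hk : k.det = 1) : Orb x (k⁻¹ * x * k) := by
  have hu := det_ne_zero_of_eq hk
  refine ⟨k⁻¹, by rw [det_nonsing_inv, hk, Ring.inverse_one], ?_⟩
  rw [mul_assoc (k⁻¹ * x), mul_nonsing_inv _ hu, mul_one]

/-- A class reaches every list position from the front. -/
theorem good_of_front {x : Matrix (Fin (n + 1)) (Fin (n + 1)) F}
    {l1 l2 : List (Matrix (Fin (n + 1)) (Fin (n + 1)) F)} {g : Matrix (Fin (n + 1)) (Fin (n + 1)) F}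
    (hd : ∀ z ∈ l1, z.det ≠ 0)
    (h : ∀ x', GOrb x x' → Good (x' :: (l1 ++ l2)) g) : Good (l1 ++ x :: l2) g := by
  have hD : (l1.map det).prod ≠ 0 := by
    refine List.prod_ne_zero fun h0 => ?_
    obtain ⟨z, hz, hz0⟩ := List.mem_map.1 h0
    exact hd z hz hz0
  set D := (l1.map det).prod
  set c : Matrix (Fin (n + 1)) (Fin (n + 1)) F := up D 0 1 with hc
  have hcd : c.det = D := by rw [hc, det_up, det_one, mul_one]
  have hcu : IsUnit c.det := by rw [hcd]; exact hD.isUnit
  obtain ⟨y, h1, h2, h3⟩ := h (c * x * c⁻¹) ⟨c, by rwa [hcd], by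
    rw [mul_assoc (c * x), nonsing_inv_mul _ hcu, mul_one]⟩
  obtain ⟨z, ys, hz, hys, rfl⟩ := List.forall₂_cons_left_iff.1 h1
  have ha := List.forall₂_take l1.length hys
  have hb := List.forall₂_drop l1.length hys
  rw [List.take_left] at ha
  rw [List.drop_left] at hb
  set y1 := ys.take l1.length
  set y2 := ys.drop l1.length
  have hdP : ∀ (a b : List (Matrix (Fin (n + 1)) (Fin (n + 1)) F)), List.Forall₂ Orb a b →
      b.prod.det = (a.map det).prod := by
    intro a b hab
    induction hab with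
    | nil => simp
    | cons h _ ih => rw [List.prod_cons, det_mul, ih, h.det_eq]; simp
  have hPd : y1.prod.det = D := hdP _ _ ha
  have hPu : IsUnit y1.prod.det := by rw [hPd]; exact hD.isUnit
  refine ⟨y1 ++ (y1.prod⁻¹ * z * y1.prod) :: y2, List.rel_append ha (List.Forall₂.cons ?_ hb),
    ?_, ?_⟩
  · obtain ⟨h, hh, he⟩ := hz
    refine ⟨y1.prod⁻¹ * h * c, ?_, ?_⟩
    · rw [det_mul, det_mul, det_nonsing_inv, hh, mul_one, hcd, hPd, Ring.inverse_eq_inv',
        inv_mul_cancel₀ hD]
    · calc y1.prod⁻¹ * h * c * x = y1.prod⁻¹ * (h * (c * x * c⁻¹)) * c := by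
            simp only [mul_assoc, nonsing_inv_mul _ hcu, mul_one]
        _ = y1.prod⁻¹ * (z * h) * c := by rw [he]
        _ = y1.prod⁻¹ * z * y1.prod * (y1.prod⁻¹ * h * c) := by
            simp only [mul_assoc, mul_nonsing_inv_cancel_left _ _ hPu]
  · rw [List.prod_append, List.prod_cons, ← h2, List.prod_cons, ← mul_assoc, ← mul_assoc,
      ← mul_assoc, mul_nonsing_inv _ hPu, one_mul, mul_assoc, ← List.prod_append]
    rw [List.take_append_drop]
  · rintro ⟨w, hw, hev⟩
    refine h3 ⟨w, hw, ?_⟩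
    have hy1 : ∀ a ∈ y1, ∃ t : F, a *ᵥ w = t • w := fun a h => hev a (List.mem_append_left _ h)
    have hprod : ∀ L : List (Matrix (Fin (n + 1)) (Fin (n + 1)) F),
        (∀ a ∈ L, ∃ t : F, a *ᵥ w = t • w) → ∃ t : F, L.prod *ᵥ w = t • w := by
      intro L
      induction L with
      | nil => exact fun _ => ⟨1, by simp⟩
      | cons a L ih =>
        intro hL
        obtain ⟨s, hs⟩ := hL a List.mem_cons_self
        obtain ⟨t, ht⟩ := ih fun b hb => hL b (List.mem_cons_of_mem _ hb)
        exact ⟨t * s, by rw [List.prod_cons, ← mulVec_mulVec, ht, mulVec_smul, hs, smul_smul]⟩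
    obtain ⟨t, ht⟩ := hprod y1 hy1
    obtain ⟨s, hs⟩ := hev _ (List.mem_append_right _ List.mem_cons_self)
    intro a ha'
    rcases List.mem_cons.1 ha' with rfl | ha'
    · refine ⟨s, ?_⟩
      have ht0 : t ≠ 0 := fun h0 => hw (by
        have := congrArg (y1.prod⁻¹ *ᵥ ·) ht
        simpa [mulVec_mulVec, nonsing_inv_mul _ hPu, h0] using this)
      have h4 := congrArg (y1.prod *ᵥ ·) hs
      simp only [mulVec_mulVec, mulVec_smul] at h4
      rw [← mul_assoc, ← mul_assoc, mul_nonsing_inv _ hPu, one_mul, ← mulVec_mulVec, ht,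
        mulVec_smul, smul_smul, mul_comm s t, ← smul_smul] at h4
      exact smul_right_injective _ ht0 h4
    · rcases List.mem_append.1 (show a ∈ y1 ++ y2 by rwa [List.take_append_drop]) with h | h
      · exact hy1 a h
      · exact hev a (List.mem_append_right _ (List.mem_cons_of_mem _ h))

end CfsgLib.Lev.EigenBase
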