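import Cfsg.Agent.Lib.Lev.Defs
import Mathlib.LinearAlgebra.Matrix.SchurComplement
import Mathlib.Data.Fintype.Sum
import Mathlib.Data.Matrix.ColumnRowPartitioned
import Mathlib.LinearAlgebra.Matrix.Permutation
import Mathlib.FieldTheory.Finite.Basic

/-!
Covering number of `PSL n q` (Lev): normal forms of a nonscalar matrix under conjugation by
determinant one matrices: prescribed leading minor, and a triangular factorisation with prescribed
diagonal.
-/

set_option autoImplicit false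
set_option linter.unusedSectionVars false

namespace CfsgLib.Lev

open Matrix

namespace Forms

variable {F : Type*} [Field F] {κ : Type*} [Fintype κ] [DecidableEq κ]

/-- A conjugate of a nonscalar matrix with nonzero first column below the corner. -/
theorem exists_C_ne {g : Matrix (Fin 1 ⊕ κ) (Fin 1 ⊕ κ) F} (hg : ¬ IsScalarMat g) :
    ∃ a B C D, Orb g (fromBlocks a B C D) ∧ C ≠ 0 := by
  obtain ⟨a, B, C, D, rfl⟩ : ∃ a B C D, g = fromBlocks a B C D :=
    ⟨_, _, _, _, (fromBlocks_toBlocks g).symm⟩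
  by_cases hC : C = 0
  swap
  · exact ⟨a, B, C, D, Orb.refl _, hC⟩
  subst hC
  by_cases hB : B = 0
  · subst hB
    obtain ⟨j, hj⟩ : ∃ j : κ, a 0 0 • (Pi.single j 1 : κ → F) ≠ D *ᵥ Pi.single j 1 := by
      by_contra h
      push Not at h
      refine hg ⟨a 0 0, ?_⟩
      have hD : D = a 0 0 • 1 := by
        ext i j
        have := congrFun (h j) i
        rw [mulVec_single_one, col_apply, Pi.smul_apply, Pi.single_apply, smul_eq_mul] at this
        rw [← this, Matrix.smul_apply, one_apply, smul_eq_mul]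
      have ha : a = a 0 0 • 1 := by
        ext i j
        simp [Subsingleton.elim i 0, Subsingleton.elim j 0]
      rw [hD, ← fromBlocks_one, fromBlocks_smul, smul_zero, smul_zero]
      exact congrArg (fun x => fromBlocks x _ _ _) ha
    set σ : Matrix κ (Fin 1) F := Matrix.of fun i _ => (Pi.single j 1 : κ → F) i with hσ
    refine ⟨a, 0, σ * a - D * σ, D, ⟨fromBlocks 1 0 σ 1, ?_, ?_⟩, ?_⟩
    · rw [det_fromBlocks_zero₁₂, det_one, det_one, mul_one]
    · rw [fromBlocks_multiply, fromBlocks_multiply]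
      simp
    · intro h
      apply hj
      funext i
      have := congrFun (congrFun h i) 0
      rw [Matrix.sub_apply, mul_apply, mul_apply, Fin.sum_univ_one, Matrix.zero_apply, sub_eq_zero] at this
      rw [Pi.smul_apply, smul_eq_mul, mul_comm]
      exact this
  · obtain ⟨j, hj⟩ : ∃ j, B 0 j ≠ 0 := by
      by_contra h
      push Not at h
      exact hB (Matrix.ext fun i k => by rw [Subsingleton.elim i 0, h k, Matrix.zero_apply])
    set σ : Equiv.Perm (Fin 1 ⊕ κ) := Equiv.swap (Sum.inl 0) (Sum.inr j) with hσ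
    set g' := (fromBlocks a B 0 D).submatrix σ σ with hg'
    set p : Matrix (Fin 1 ⊕ κ) (Fin 1 ⊕ κ) F := σ.permMatrix F
    set Δ : Matrix (Fin 1 ⊕ κ) (Fin 1 ⊕ κ) F := fromBlocks ((-1 : F) • 1) 0 0 1
    have hΔ : Δ * Δ = 1 := by
      rw [fromBlocks_multiply]
      simp [fromBlocks_one]
    have hp : p * fromBlocks a B 0 D = g' * p := by
      ext x y
      rw [PEquiv.toMatrix_toPEquiv_mul, PEquiv.mul_toMatrix_toPEquiv]
      simp [hg']
    refine ⟨(Δ * g' * Δ).toBlocks₁₁, (Δ * g' * Δ).toBlocks₁₂, (Δ * g' * Δ).toBlocks₂₁,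
      (Δ * g' * Δ).toBlocks₂₂, ⟨Δ * p, ?_, ?_⟩, ?_⟩
    · rw [det_mul, det_fromBlocks_zero₁₂, det_one, mul_one, det_smul, det_one, det_permutation,
        Equiv.Perm.sign_swap Sum.inl_ne_inr]
      simp
    · rw [fromBlocks_toBlocks, mul_assoc, hp, mul_assoc (Δ * g'), ← mul_assoc Δ Δ, hΔ, one_mul,
        ← mul_assoc]
    · intro h
      have h2 : (Δ * g' * Δ) (Sum.inr j) (Sum.inl 0) = 0 := congrFun (congrFun h j) 0
      have h3 : (Δ * g' * Δ).toBlocks₂₁ = -g'.toBlocks₂₁ := by
        conv_lhs => rw [← fromBlocks_toBlocks g', fromBlocks_multiply, fromBlocks_multiply,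
          toBlocks_fromBlocks₂₁]
        simp
      have h4 : (Δ * g' * Δ).toBlocks₂₁ j 0 = 0 := h2
      rw [h3, Matrix.neg_apply, neg_eq_zero] at h4
      apply hj
      have h5 : (fromBlocks a B 0 D) (σ (Sum.inr j)) (σ (Sum.inl 0)) = 0 := h4
      rwa [hσ, Equiv.swap_apply_right, Equiv.swap_apply_left, fromBlocks_apply₁₂] at h5

/-- The elimination step: corner `d`, nonzero column, nonscalar Schur complement. -/
theorem step {g : Matrix (Fin 1 ⊕ κ) (Fin 1 ⊕ κ) F} (hg : ¬ IsScalarMat g) (hdet : g.det ≠ 0)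
    {d : F} (hd : d ≠ 0) :
    ∃ B C D, Orb g (fromBlocks (d • 1) B C D) ∧ C ≠ 0 ∧
      (2 ≤ Fintype.card κ → ¬ IsScalarMat (D - d⁻¹ • (C * B))) := by
  obtain ⟨a, B, C, D, horb, hC⟩ := exists_C_ne hg
  obtain ⟨i, hi⟩ : ∃ i, C i 0 ≠ 0 := by
    by_contra h
    push Not at h
    exact hC (Matrix.ext fun i k => by rw [Subsingleton.elim k 0, h i, Matrix.zero_apply])
  set r : Matrix (Fin 1) κ F := Matrix.of fun _ k => if k = i then (d - a 0 0) / C i 0 else 0 with hr
  have hrC : r * C = (d - a 0 0) • 1 := by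
    ext x y
    rw [Subsingleton.elim x 0, Subsingleton.elim y 0, mul_apply, Finset.sum_eq_single i]
    · simp [hr, div_mul_cancel₀ _ hi]
    · intro k _ hk; simp [hr, hk]
    · simp
  have ha : a + r * C = d • 1 := by
    rw [hrC]
    ext x y
    rw [Subsingleton.elim x 0, Subsingleton.elim y 0]
    simp
  set B1 := B + r * D - d • r
  set D1 := D - C * r
  have h1 : Orb g (fromBlocks (d • 1) B1 C D1) := by
    refine horb.trans ⟨fromBlocks 1 r 0 1, ?_, ?_⟩
    · rw [det_fromBlocks_zero₂₁, det_one, det_one, mul_one]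
    · rw [fromBlocks_multiply, fromBlocks_multiply]
      simp [B1, D1, ha]
  by_cases hs : 2 ≤ Fintype.card κ ∧ IsScalarMat (D1 - d⁻¹ • (C * B1))
  swap
  · exact ⟨B1, C, D1, h1, hC, fun h2 h => hs ⟨h2, h⟩⟩
  obtain ⟨h2, s, hs⟩ := hs
  have hs0 : s ≠ 0 := fun h0 => hdet (by
    rw [← h1.det_eq]
    have hu : IsUnit (d • (1 : Matrix (Fin 1) (Fin 1) F)).det := by simp [hd]
    let := invertibleOfIsUnitDet _ hu
    rw [det_fromBlocks₁₁, invOf_eq_nonsing_inv, show (d • (1 : Matrix (Fin 1) (Fin 1) F))⁻¹ = d⁻¹ • 1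
      from inv_eq_right_inv (by simp [smul_smul, hd]), Matrix.mul_smul, Matrix.mul_one, Matrix.smul_mul, hs, h0]
    simp [Fintype.card_pos_iff.1 (show 0 < Fintype.card κ by omega)])
  obtain ⟨j, hj⟩ := Fintype.exists_ne_of_one_lt_card (show 1 < Fintype.card κ by omega) i
  set ρ : Matrix (Fin 1) κ F :=
    Matrix.of fun _ k => if k = j then C i 0 else if k = i then -C j 0 else 0 with hρ
  have hρC : ρ * C = 0 := by
    ext x y
    rw [Subsingleton.elim y 0, mul_apply,
      Finset.sum_eq_add j i hj (fun k _ hk => by simp [hρ, hk.1, hk.2]) (by simp) (by simp)]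
    simp [hρ, hj.symm]
    ring
  refine ⟨B1 + ρ * D1 - d • ρ, C, D1 - C * ρ, h1.trans ⟨fromBlocks 1 ρ 0 1, ?_, ?_⟩, hC,
    fun _ hsc => ?_⟩
  · rw [det_fromBlocks_zero₂₁, det_one, det_one, mul_one]
  · rw [fromBlocks_multiply, fromBlocks_multiply]
    simp [hρC]
  obtain ⟨c, hc⟩ := hsc
  have hD : ρ * D1 = s • ρ := by
    have hD1 : D1 = s • 1 + d⁻¹ • (C * B1) := by rw [← hs, sub_add_cancel]
    rw [hD1, Matrix.mul_add, Matrix.mul_smul, Matrix.mul_one, Matrix.mul_smul, ← Matrix.mul_assoc,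
      hρC, Matrix.zero_mul, smul_zero, add_zero]
  have hval : D1 - C * ρ - d⁻¹ • (C * (B1 + ρ * D1 - d • ρ)) = s • 1 - (d⁻¹ * s) • (C * ρ) := by
    rw [← hs, hD, Matrix.mul_sub, Matrix.mul_add, Matrix.mul_smul, Matrix.mul_smul, smul_sub,
      smul_add, smul_smul, smul_smul, inv_mul_cancel₀ hd, one_smul]
    abel
  rw [hval] at hc
  have hij : (C * ρ) i j = C i 0 * C i 0 := by simp [mul_apply, hρ]
  have h := congrFun (congrFun hc i) j
  simp [one_apply, hj.symm, hij, hd, hs0, hi] at h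

/-- Conjugation of the lower block. -/
theorem orb_inr {ι : Type*} [Fintype ι] [DecidableEq ι] (A : Matrix ι ι F) (B : Matrix ι κ F)
    (C : Matrix κ ι F) {D : Matrix κ κ F} {h : Matrix κ κ F} (hh : h.det = 1) :
    Orb (fromBlocks A B C D) (fromBlocks A (B * h⁻¹) (h * C) (h * D * h⁻¹)) := by
  have hu : IsUnit h.det := by rw [hh]; exact isUnit_one
  refine ⟨fromBlocks 1 0 0 h, by rw [det_fromBlocks_zero₁₂, det_one, hh, one_mul], ?_⟩
  rw [fromBlocks_multiply, fromBlocks_multiply]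
  simp [Matrix.mul_assoc, nonsing_inv_mul _ hu]

/-- Replacing the Schur complement of the corner by a conjugate. -/
theorem orb_schur {d : F} (B : Matrix (Fin 1) κ F) (C : Matrix κ (Fin 1) F) {D S' : Matrix κ κ F}
    (h : Orb (D - d⁻¹ • (C * B)) S') :
    ∃ B' C', Orb (fromBlocks (d • 1) B C D) (fromBlocks (d • 1) B' C' (S' + d⁻¹ • (C' * B'))) ∧
      (C ≠ 0 → C' ≠ 0) := by
  obtain ⟨k, kd, ke⟩ := h
  have hu : IsUnit k.det := by rw [kd]; exact isUnit_one
  refine ⟨B * k⁻¹, k * C, ?_, fun hC h0 => hC ?_⟩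
  · have e : k * D * k⁻¹ = S' + d⁻¹ • (k * C * (B * k⁻¹)) := by
      have hD : D = (D - d⁻¹ • (C * B)) + d⁻¹ • (C * B) := (sub_add_cancel _ _).symm
      conv_lhs => rw [hD]
      rw [Matrix.mul_add, Matrix.add_mul, ke, mul_assoc S', mul_nonsing_inv _ hu, mul_one,
        Matrix.mul_smul, Matrix.smul_mul]
      simp only [Matrix.mul_assoc]
    rw [← e]
    exact orb_inr _ _ _ kd
  · have := congrArg (k⁻¹ * ·) h0
    simpa [← Matrix.mul_assoc, nonsing_inv_mul _ hu] using this

theorem det_corner {d : F} (hd : d ≠ 0) (B : Matrix (Fin 1) κ F) (C : Matrix κ (Fin 1) F)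
    (D : Matrix κ κ F) :
    (fromBlocks (d • 1) B C D).det = d * (D - d⁻¹ • (C * B)).det := by
  have hu : IsUnit (d • (1 : Matrix (Fin 1) (Fin 1) F)).det := by simp [hd]
  let := invertibleOfIsUnitDet _ hu
  rw [det_fromBlocks₁₁, invOf_eq_nonsing_inv, show (d • (1 : Matrix (Fin 1) (Fin 1) F))⁻¹ = d⁻¹ • 1
    from inv_eq_right_inv (by simp [smul_smul, hd]), Matrix.mul_smul, Matrix.mul_one, Matrix.smul_mul]
  simp

theorem isScalarMat_reindex {ι ι' : Type*} [Fintype ι] [DecidableEq ι] [Fintype ι'] [DecidableEq ι']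
    (e : ι ≃ ι') {x : Matrix ι ι F} (h : IsScalarMat (Matrix.reindexAlgEquiv F F e x)) :
    IsScalarMat x := by
  obtain ⟨c, hc⟩ := h
  exact ⟨c, (Matrix.reindexAlgEquiv F F e).injective (by rw [hc, map_smul, map_one])⟩

end Forms

open Forms

variable {F : Type*} [Field F] [Fintype F]

theorem Forms.exists_block_succ (hq : 4 ≤ Fintype.card F) :
    ∀ (k : ℕ) {r : ℕ}, 1 ≤ r → ∀ {g : Matrix (Fin (k + 1) ⊕ Fin r) (Fin (k + 1) ⊕ Fin r) F},
      ¬ IsScalarMat g → g.det ≠ 0 → ∀ {d : F}, d ≠ 0 →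
      ∃ A B C D, Orb g (fromBlocks A B C D) ∧ A.det = d ∧ C ≠ 0 ∧
        (2 ≤ k + 1 → ¬ IsScalarMat A) ∧ (2 ≤ r → ¬ IsScalarMat (D - C * A⁻¹ * B)) := by
  intro k
  induction k with
  | zero =>
    intro r hr g hg hdet d hd
    obtain ⟨B, C, D, horb, hC, hS⟩ := step hg hdet hd
    refine ⟨d • 1, B, C, D, horb, by simp, hC, fun h => absurd h (by omega), fun h => ?_⟩
    rw [show (d • (1 : Matrix (Fin 1) (Fin 1) F))⁻¹ = d⁻¹ • 1 from
      inv_eq_right_inv (by simp [smul_smul, hd]), Matrix.mul_smul, Matrix.mul_one, Matrix.smul_mul]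
    exact hS (by simpa using h)
  | succ k ih =>
    intro r hr g hg hdet d hd
    classical
    obtain ⟨d0, hd0, hd0'⟩ : ∃ d0 : F, d0 ≠ 0 ∧ d0 * d0 ≠ d := by
      by_contra hc
      push Not at hc
      have hsq : ∀ z : F, z ≠ 0 → z = 1 ∨ z = -1 := fun z hz => by
        have := (hc z hz).trans (hc 1 one_ne_zero).symm
        exact mul_self_eq_mul_self_iff.1 this
      have : Fintype.card F ≤ ({0, 1, -1} : Finset F).card := Finset.card_le_card fun z _ => by
        by_cases hz : z = 0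
        · simp [hz]
        · rcases hsq z hz with h | h <;> simp [h]
      have := this.trans Finset.card_le_three
      omega
    set e : Fin (k + 1 + 1) ⊕ Fin r ≃ Fin 1 ⊕ (Fin (k + 1) ⊕ Fin r) :=
      ((Equiv.sumCongr ((finCongr (Nat.add_comm 1 (k + 1)).symm).trans finSumFinEquiv.symm)
        (Equiv.refl _)).trans (Equiv.sumAssoc _ _ _)) with he
    set g0 := Matrix.reindexAlgEquiv F F e g with hg0
    have hdet0 : g0.det ≠ 0 := by rwa [hg0, det_reindexAlgEquiv]
    obtain ⟨B, C, D, horb, hC, hS⟩ := step (g := g0) (fun h => hg (isScalarMat_reindex e h)) hdet0 hd0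
    have hS' := hS (by simp; omega)
    have hSd : (D - d0⁻¹ • (C * B)).det ≠ 0 := fun h => hdet0 (by
      rw [← horb.det_eq] at *
      rw [det_corner hd0, h, mul_zero])
    obtain ⟨A', B', C', D', hi, hAd, hC', hA', hT⟩ := ih hr hS' hSd (div_ne_zero hd hd0)
    obtain ⟨Bh, Ch, horb2, -⟩ := orb_schur B C hi
    set B1 : Matrix (Fin 1) (Fin (k + 1)) F := Bh.submatrix id Sum.inl
    set B2 : Matrix (Fin 1) (Fin r) F := Bh.submatrix id Sum.inr
    set C1 : Matrix (Fin (k + 1)) (Fin 1) F := Ch.submatrix Sum.inl id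
    set C2 : Matrix (Fin r) (Fin 1) F := Ch.submatrix Sum.inr id
    set A'' : Matrix (Fin 1 ⊕ Fin (k + 1)) (Fin 1 ⊕ Fin (k + 1)) F :=
      fromBlocks (d0 • 1) B1 C1 (A' + d0⁻¹ • (C1 * B1))
    set Bb : Matrix (Fin 1 ⊕ Fin (k + 1)) (Fin r) F := fromRows B2 (B' + d0⁻¹ • (C1 * B2))
    set Cb : Matrix (Fin r) (Fin 1 ⊕ Fin (k + 1)) F := fromCols C2 (C' + d0⁻¹ • (C2 * B1))
    set Db : Matrix (Fin r) (Fin r) F := D' + d0⁻¹ • (C2 * B2)
    have hbig : (fromBlocks (d0 • 1) Bh Ch (fromBlocks A' B' C' D' + d0⁻¹ • (Ch * Bh))) =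
        Matrix.reindexAlgEquiv F F (Equiv.sumAssoc _ _ _) (fromBlocks A'' Bb Cb Db) := by
      ext x y
      rcases x with x | x | x <;> rcases y with y | y | y <;>
        simp [A'', Bb, Cb, Db, B1, B2, C1, C2, mul_apply]
    set f : Fin 1 ⊕ Fin (k + 1) ≃ Fin (k + 1 + 1) :=
      finSumFinEquiv.trans (finCongr (Nat.add_comm 1 (k + 1))) with hf
    set rf := Matrix.reindexAlgEquiv F F f
    refine ⟨rf A'', Matrix.reindex f (Equiv.refl _) Bb, Matrix.reindex (Equiv.refl _) f Cb, Db,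
      ?_, ?_, ?_, ?_, ?_⟩
    · have h3 := ((horb.trans horb2).reindex e.symm)
      rw [hbig, hg0] at h3
      convert h3 using 1
      · ext x y; simp
      · ext x y
        rcases x with x | x <;> rcases y with y | y <;> simp [he, hf, rf]
    · rw [det_reindexAlgEquiv, det_corner hd0, add_sub_cancel_right, hAd, mul_div_cancel₀ _ hd0]
    · intro h
      have hz : ∀ i j, Cb i j = 0 := fun i j => by
        have := congrFun (congrFun h i) (f j)
        simpa using this
      have h2 : C2 = 0 := Matrix.ext fun i j => hz i (Sum.inl j)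
      apply hC'
      ext i j
      have := hz i (Sum.inr j)
      simpa [Cb, h2] using this
    · intro _ hsc
      obtain ⟨c, hc⟩ := isScalarMat_reindex f hsc
      have h11 := congrArg Matrix.toBlocks₁₁ hc
      have h12 := congrArg Matrix.toBlocks₁₂ hc
      have h22 := congrArg Matrix.toBlocks₂₂ hc
      rw [← fromBlocks_one, fromBlocks_smul, toBlocks_fromBlocks₁₁, toBlocks_fromBlocks₁₁] at h11
      rw [← fromBlocks_one, fromBlocks_smul, toBlocks_fromBlocks₁₂, toBlocks_fromBlocks₁₂,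
        smul_zero] at h12
      rw [← fromBlocks_one, fromBlocks_smul, toBlocks_fromBlocks₂₂, toBlocks_fromBlocks₂₂, h12,
        Matrix.mul_zero, smul_zero, add_zero] at h22
      have hc0 : c = d0 := by simpa using (congrFun (congrFun h11 0) 0).symm
      rcases Nat.eq_zero_or_pos k with rfl | hk
      · refine hd0' ?_
        rw [h22, det_smul, det_one, mul_one, Fintype.card_fin, pow_one, hc0] at hAd
        rw [eq_div_iff hd0] at hAd
        exact hAd
      · exact hA' (by omega) ⟨c, h22⟩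
    · intro h2r
      have hA'u : IsUnit A'.det := isUnit_iff_ne_zero.2 (by rw [hAd]; exact div_ne_zero hd hd0)
      set Z2 := A'⁻¹ * B'
      set Z : Matrix (Fin 1 ⊕ Fin (k + 1)) (Fin r) F := fromRows (d0⁻¹ • (B2 - B1 * Z2)) Z2
      have hAZ : A'' * Z = Bb := by
        rw [show A'' * Z = _ from fromBlocks_mul_fromRows _ _ _ _ _ _]
        have hZ2 : A' * Z2 = B' := by
          show A' * (A'⁻¹ * B') = B'
          rw [← Matrix.mul_assoc, mul_nonsing_inv _ hA'u, Matrix.one_mul]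
        congr 1
        · simp [Matrix.smul_mul, smul_smul, hd0]
        · rw [Matrix.add_mul, hZ2, Matrix.mul_smul, Matrix.smul_mul, Matrix.mul_sub, smul_sub,
            Matrix.mul_assoc C1]
          abel
      have hA''u : IsUnit A''.det := by
        rw [isUnit_iff_ne_zero, det_corner hd0, add_sub_cancel_right, hAd, mul_div_cancel₀ _ hd0]
        exact hd
      have hval : Db - Matrix.reindex (Equiv.refl _) f Cb * (rf A'')⁻¹ *
          Matrix.reindex f (Equiv.refl _) Bb = D' - C' * A'⁻¹ * B' := by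
        have : (rf A'')⁻¹ = (A''⁻¹).submatrix f.symm f.symm := inv_submatrix_equiv _ _ _
        rw [this]
        simp only [reindex_apply, submatrix_mul_equiv, Equiv.refl_symm, Equiv.coe_refl, submatrix_id_id]
        rw [show A''⁻¹ = A''⁻¹ from rfl, Matrix.mul_assoc, ← hAZ, ← Matrix.mul_assoc A''⁻¹,
          nonsing_inv_mul _ hA''u, Matrix.one_mul]
        rw [show Cb * Z = _ from fromCols_mul_fromRows _ _ _ _, Matrix.mul_smul, Matrix.mul_sub,
          Matrix.add_mul, Matrix.smul_mul, smul_sub, Matrix.mul_assoc C2, Matrix.mul_assoc C']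
        simp only [Db, Z2]
        abel
      rw [hval]
      exact hT h2r

/-- Prescribed leading minor, nonzero lower left block. -/
theorem exists_block (hq : 4 ≤ Fintype.card F) {k r : ℕ} (hk : 1 ≤ k) (hr : 1 ≤ r)
    {g : Matrix (Fin k ⊕ Fin r) (Fin k ⊕ Fin r) F} (hg : ¬ IsScalarMat g) (hdet : g.det ≠ 0)
    {d : F} (hd : d ≠ 0) :
    ∃ A B C D, Orb g (fromBlocks A B C D) ∧ A.det = d ∧ C ≠ 0 ∧
      (2 ≤ k → ¬ IsScalarMat A) ∧ (2 ≤ r → ¬ IsScalarMat (D - C * A⁻¹ * B)) := by
  obtain ⟨k, rfl⟩ : ∃ j, k = j + 1 := ⟨k - 1, by omega⟩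
  exact Forms.exists_block_succ hq k hr hg hdet hd

omit [Fintype F] in
/-- A conjugate `L * U` with `L` lower unitriangular and `U` upper triangular of given diagonal. -/
theorem exists_lu : ∀ {n : ℕ} {g : Matrix (Fin n) (Fin n) F}, ¬ IsScalarMat g → g.det ≠ 0 →
    ∀ d : Fin n → F, ∏ i, d i = g.det → ∃ L U : Matrix (Fin n) (Fin n) F, Orb g (L * U) ∧
      (∀ i j, i < j → L i j = 0) ∧ (∀ i, L i i = 1) ∧ (∀ i j, j < i → U i j = 0) ∧
      (∀ i, U i i = d i) := by
  intro n
  induction n with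
  | zero =>
    intro g hg
    exact absurd ⟨0, Matrix.ext fun i => i.elim0⟩ hg
  | succ n ih =>
    intro g hg hdet d hprod
    classical
    rcases Nat.eq_zero_or_pos n with rfl | hn
    · exact absurd ⟨g 0 0, Matrix.ext fun i j => by
        obtain rfl : i = 0 := Fin.ext (by have := i.2; simp only [Fin.val_zero]; omega)
        obtain rfl : j = 0 := Fin.ext (by have := j.2; simp only [Fin.val_zero]; omega)
        simp⟩ hg
    let e : Fin 1 ⊕ Fin n ≃ Fin (n + 1) :=
      { toFun := Sum.elim (fun _ => 0) Fin.succ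
        invFun := Fin.cases (Sum.inl 0) Sum.inr
        left_inv := fun x => by rcases x with x | x <;> simp [Fin.fin_one_eq_zero]
        right_inv := fun i => by refine Fin.cases ?_ (fun j => ?_) i <;> simp }
    set g0 := Matrix.reindexAlgEquiv F F e.symm g with hg0
    have hdet0 : g0.det ≠ 0 := by rwa [hg0, det_reindexAlgEquiv]
    have hd : ∀ i, d i ≠ 0 := fun i =>
      Finset.prod_ne_zero_iff.1 (hprod ▸ hdet) i (Finset.mem_univ _)
    obtain ⟨B, C, D, horb, hC, hS⟩ :=
      step (g := g0) (fun h => hg (isScalarMat_reindex e.symm h)) hdet0 (hd 0)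
    set S := D - (d 0)⁻¹ • (C * B) with hSdef
    have hSdet : S.det = ∏ i : Fin n, d i.succ := by
      have h := horb.det_eq
      rw [det_corner (hd 0), hg0, det_reindexAlgEquiv, ← hprod, Fin.prod_univ_succ] at h
      exact mul_left_cancel₀ (hd 0) h
    obtain ⟨L', U', hi, hL, hL1, hU, hUd⟩ : ∃ L' U' : Matrix (Fin n) (Fin n) F, Orb S (L' * U') ∧
        (∀ i j, i < j → L' i j = 0) ∧ (∀ i, L' i i = 1) ∧ (∀ i j, j < i → U' i j = 0) ∧
        (∀ i, U' i i = d i.succ) := by
      by_cases h2 : 2 ≤ n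
      · exact ih (hS (by simpa using h2))
          (by rw [hSdet]; exact Finset.prod_ne_zero_iff.2 fun i _ => hd _) _ hSdet.symm
      · obtain rfl : n = 1 := by omega
        refine ⟨1, S, by rw [one_mul]; exact Orb.refl _, fun i j h => absurd h (by omega),
          fun i => by simp, fun i j h => absurd h (by omega), fun i => ?_⟩
        rw [Subsingleton.elim i 0, ← det_fin_one S, hSdet, Fin.prod_univ_one]
    obtain ⟨Bh, Ch, horb2, -⟩ := orb_schur B C hi
    set L : Matrix (Fin 1 ⊕ Fin n) (Fin 1 ⊕ Fin n) F := fromBlocks 1 0 ((d 0)⁻¹ • Ch) L'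
    set U : Matrix (Fin 1 ⊕ Fin n) (Fin 1 ⊕ Fin n) F := fromBlocks (d 0 • 1) Bh 0 U'
    have hLU : fromBlocks (d 0 • 1) Bh Ch (L' * U' + (d 0)⁻¹ • (Ch * Bh)) = L * U := by
      rw [fromBlocks_multiply]
      simp [smul_smul, hd 0, add_comm]
    have h3 := (horb.trans horb2).reindex e
    rw [hLU, map_mul, hg0] at h3
    refine ⟨Matrix.reindexAlgEquiv F F e L, Matrix.reindexAlgEquiv F F e U, ?_, ?_, ?_, ?_, ?_⟩
    · convert h3 using 1
      ext x y; simp
    · intro i j
      refine Fin.cases ?_ (fun i => ?_) i <;> refine Fin.cases ?_ (fun j => ?_) j <;>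
        simp [e, L]
      exact hL i j
    · intro i
      refine Fin.cases ?_ (fun i => ?_) i <;> simp [e, L, hL1]
    · intro i j
      refine Fin.cases ?_ (fun i => ?_) i <;> refine Fin.cases ?_ (fun j => ?_) j <;>
        simp [e, U]
      exact hU i j
    · intro i
      refine Fin.cases ?_ (fun i => ?_) i <;> simp [e, U, hUd]

end CfsgLib.Lev
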