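import Cfsg.Agent.Lib.Lev.Defs
import Mathlib.LinearAlgebra.FiniteDimensional.Basic
import Mathlib.LinearAlgebra.Matrix.ToLinearEquiv
import Mathlib.LinearAlgebra.Matrix.SchurComplement

/-!
Covering number of `PSL n q` (Lev): gluing two diagonal blocks without common eigenvalue.

A lower triangular factor times upper triangular factors reaches every block matrix whose upper left
block and Schur complement are products in the two blocks.
-/

set_option autoImplicit false

namespace CfsgLib.Lev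

open Matrix Polynomial

variable {F : Type*} [Field F]

section Sylvester

variable {ι κ : Type*} [Fintype ι] [DecidableEq ι] [Fintype κ] [DecidableEq κ]

/-- Only zero intertwines matrices with coprime characteristic polynomials. -/
theorem eq_zero_of_coprime_intertwine {P : Matrix ι ι F} {R : Matrix κ κ F}
    (hc : IsCoprime P.charpoly R.charpoly) {z : Matrix κ ι F} (hz : z * P = R * z) : z = 0 := by
  have key : ∀ f : F[X], z * aeval P f = aeval R f * z := by
    intro f
    induction f using Polynomial.induction_on' with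
    | add p q hp hq => rw [map_add, map_add, Matrix.mul_add, Matrix.add_mul, hp, hq]
    | monomial k a =>
      rw [aeval_monomial, aeval_monomial, Algebra.algebraMap_eq_smul_one,
        Algebra.algebraMap_eq_smul_one, Matrix.smul_mul, Matrix.smul_mul, one_mul, one_mul,
        Matrix.mul_smul, Matrix.smul_mul]
      congr 1
      induction k with
      | zero => rw [pow_zero, pow_zero, Matrix.mul_one, Matrix.one_mul]
      | succ j ih =>
        rw [pow_succ, pow_succ, ← Matrix.mul_assoc, ih, Matrix.mul_assoc, hz, ← Matrix.mul_assoc]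
  obtain ⟨a, b, hab⟩ := hc
  have h0 := key P.charpoly
  rw [aeval_self_charpoly, Matrix.mul_zero] at h0
  have h1 : aeval R (a * P.charpoly + b * R.charpoly) = 1 := by rw [hab, map_one]
  rw [map_add, map_mul, map_mul, aeval_self_charpoly, mul_zero, add_zero] at h1
  calc z = (aeval R a * aeval R P.charpoly) * z := by rw [h1, Matrix.one_mul]
    _ = 0 := by rw [Matrix.mul_assoc, ← h0, Matrix.mul_zero]

/-- Sylvester's equation for coprime characteristic polynomials. -/
theorem exists_sylvester {P : Matrix ι ι F} {R : Matrix κ κ F}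
    (hc : IsCoprime P.charpoly R.charpoly) (l : Matrix κ ι F) : ∃ z : Matrix κ ι F, z * P - R * z = l := by
  let φ : Matrix κ ι F →ₗ[F] Matrix κ ι F :=
    { toFun := fun z => z * P - R * z
      map_add' := fun a b => by rw [Matrix.add_mul, Matrix.mul_add]; abel
      map_smul' := fun c a => by
        rw [Matrix.smul_mul, Matrix.mul_smul, RingHom.id_apply, smul_sub] }
  have hinj : Function.Injective φ := by
    rw [injective_iff_map_eq_zero]
    intro z hz
    exact eq_zero_of_coprime_intertwine hc (sub_eq_zero.1 hz)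
  exact LinearMap.injective_iff_surjective.1 hinj l

theorem Orb.charpoly_eq {x y : Matrix ι ι F} (h : Orb x y) : y.charpoly = x.charpoly := by
  obtain ⟨k, kd, ke⟩ := h
  have hu : IsUnit k.det := by rw [kd]; exact isUnit_one
  have he : k * x * k⁻¹ = y := by rw [ke, Matrix.mul_assoc, mul_nonsing_inv _ hu, Matrix.mul_one]
  rw [← he]
  exact charpoly_units_conj ⟨k, k⁻¹, mul_nonsing_inv _ hu, nonsing_inv_mul _ hu⟩ x

end Sylvester

section Blocks

variable {ι κ : Type*} [Fintype ι] [DecidableEq ι] [Fintype κ] [DecidableEq κ]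

theorem orb_diag {P p : Matrix ι ι F} {R r : Matrix κ κ F} (hP : Orb P p) (hR : Orb R r) :
    Orb (fromBlocks P 0 0 R) (fromBlocks p 0 0 r) := by
  obtain ⟨a, ad, ae⟩ := hP
  obtain ⟨b, bd, be⟩ := hR
  refine ⟨fromBlocks a 0 0 b, by rw [det_fromBlocks_zero₂₁, ad, bd, one_mul], ?_⟩
  simp [fromBlocks_multiply, ae, be]

theorem orb_lower {P p : Matrix ι ι F} {R r : Matrix κ κ F}
    (hc : IsCoprime P.charpoly R.charpoly) (hP : Orb P p) (hR : Orb R r) (l : Matrix κ ι F) :
    Orb (fromBlocks P 0 0 R) (fromBlocks p 0 l r) := by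
  refine (orb_diag hP hR).trans ?_
  rw [← hP.charpoly_eq, ← hR.charpoly_eq] at hc
  obtain ⟨z, hz⟩ := exists_sylvester hc l
  refine ⟨fromBlocks 1 0 z 1, by rw [det_fromBlocks_zero₁₂, det_one, det_one, one_mul], ?_⟩
  rw [← hz]
  simp [fromBlocks_multiply]

theorem orb_upper {P p : Matrix ι ι F} {R r : Matrix κ κ F}
    (hc : IsCoprime P.charpoly R.charpoly) (hP : Orb P p) (hR : Orb R r) (u : Matrix ι κ F) :
    Orb (fromBlocks P 0 0 R) (fromBlocks p u 0 r) := by
  refine (orb_diag hP hR).trans ?_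
  rw [← hP.charpoly_eq, ← hR.charpoly_eq] at hc
  obtain ⟨z, hz⟩ := exists_sylvester hc.symm u
  refine ⟨fromBlocks 1 z 0 1, by rw [det_fromBlocks_zero₂₁, det_one, det_one, one_mul], ?_⟩
  rw [← hz]
  simp [fromBlocks_multiply]

theorem exists_diag_list {P : Matrix ι ι F} {R : Matrix κ κ F} :
    ∀ (k : ℕ) (ps : List (Matrix ι ι F)) (rs : List (Matrix κ κ F)),
      List.Forall₂ Orb (List.replicate k P) ps → List.Forall₂ Orb (List.replicate k R) rs →
      InProd (List.replicate k (fromBlocks P 0 0 R)) (fromBlocks ps.prod 0 0 rs.prod) := by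
  intro k
  induction k with
  | zero =>
    intro ps rs h1 h2
    rw [List.replicate_zero] at h1 h2
    cases h1
    cases h2
    exact ⟨[], List.Forall₂.nil, fromBlocks_one.symm⟩
  | succ j ih =>
    intro ps rs h1 h2
    rw [List.replicate_succ] at h1 h2
    obtain ⟨p, ps', hp, hps, rfl⟩ := List.forall₂_cons_left_iff.1 h1
    obtain ⟨r, rs', hr, hrs, rfl⟩ := List.forall₂_cons_left_iff.1 h2
    obtain ⟨y, hy1, hy2⟩ := ih ps' rs' hps hrs
    refine ⟨fromBlocks p 0 0 r :: y, ?_, ?_⟩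
    · rw [List.replicate_succ]
      exact List.Forall₂.cons (orb_diag hp hr) hy1
    · rw [List.prod_cons, hy2, List.prod_cons, List.prod_cons, fromBlocks_multiply]
      simp

theorem isUnit_prod_det {Q : Matrix ι ι F} (hQ : Q.det ≠ 0) {t : List (Matrix ι ι F)} {j : ℕ}
    (h : List.Forall₂ Orb (List.replicate j Q) t) : IsUnit t.prod.det := by
  induction t generalizing j with
  | nil => rw [List.prod_nil, det_one]; exact isUnit_one
  | cons a t ih =>
    rcases j with _ | j
    · rw [List.replicate_zero] at h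
      cases h
    rw [List.replicate_succ, List.forall₂_cons] at h
    rw [List.prod_cons, det_mul]
    exact (isUnit_iff_ne_zero.2 (by rw [h.1.det_eq]; exact hQ)).mul (ih h.2)

/-- Factors with the given diagonal blocks and product. -/
theorem exists_factors {k : ℕ} {P : Matrix ι ι F} {R : Matrix κ κ F}
    (hc : IsCoprime P.charpoly R.charpoly) (hP0 : P.det ≠ 0) (hR0 : R.det ≠ 0)
    {A : Matrix ι ι F} {B : Matrix ι κ F} {C : Matrix κ ι F} {D : Matrix κ κ F}
    (hA : InProd (List.replicate (k + 2) P) A)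
    (hS : InProd (List.replicate (k + 2) R) (D - C * A⁻¹ * B)) :
    ∃ (p₁ p₂ : Matrix ι ι F) (r₁ r₂ : Matrix κ κ F) (l : Matrix κ ι F) (u : Matrix ι κ F)
      (y : List (Matrix (ι ⊕ κ) (ι ⊕ κ) F)),
      Orb R r₂ ∧ (C ≠ 0 → l ≠ 0) ∧
      List.Forall₂ Orb (List.replicate (k + 2) (fromBlocks P 0 0 R))
        (fromBlocks p₁ 0 l r₁ :: fromBlocks p₂ u 0 r₂ :: y) ∧
      (fromBlocks p₁ 0 l r₁ :: fromBlocks p₂ u 0 r₂ :: y).prod = fromBlocks A B C D := by
  obtain ⟨ps, hps, hpA⟩ := hA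
  obtain ⟨rs, hrs, hrS⟩ := hS
  rw [List.replicate_succ, List.replicate_succ] at hps hrs
  obtain ⟨p₁, ps1, hp1, hps1, rfl⟩ := List.forall₂_cons_left_iff.1 hps
  obtain ⟨p₂, ps2, hp2, hps2, rfl⟩ := List.forall₂_cons_left_iff.1 hps1
  obtain ⟨r₁, rs1, hr1, hrs1, rfl⟩ := List.forall₂_cons_left_iff.1 hrs
  obtain ⟨r₂, rs2, hr2, hrs2, rfl⟩ := List.forall₂_cons_left_iff.1 hrs1
  rw [List.prod_cons, List.prod_cons] at hpA hrS
  have dp1 : IsUnit p₁.det := by rw [hp1.det_eq]; exact isUnit_iff_ne_zero.2 hP0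
  set A₁ := p₂ * ps2.prod with hA1
  have dA1 : IsUnit A₁.det := by
    rw [hA1, det_mul]
    exact (isUnit_iff_ne_zero.2 (by rw [hp2.det_eq]; exact hP0)).mul (isUnit_prod_det hP0 hps2)
  have dR2 : IsUnit rs2.prod.det := isUnit_prod_det hR0 hrs2
  obtain ⟨y, hy, hyp⟩ := exists_diag_list k ps2 rs2 hps2 hrs2
  refine ⟨p₁, p₂, r₁, r₂, C * A₁⁻¹, p₁⁻¹ * B * rs2.prod⁻¹, y, hr2, fun hC hl => hC ?_, ?_, ?_⟩
  · rw [← Matrix.mul_one C, ← nonsing_inv_mul A₁ dA1, ← Matrix.mul_assoc, hl, Matrix.zero_mul]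
  · rw [List.replicate_succ, List.replicate_succ]
    exact List.Forall₂.cons (orb_lower hc hp1 hr1 _) (List.Forall₂.cons (orb_upper hc hp2 hr2 _) hy)
  · have e1 : p₁ * (p₁⁻¹ * B * rs2.prod⁻¹ * rs2.prod) = B := by
      rw [Matrix.mul_assoc (p₁⁻¹ * B), nonsing_inv_mul _ dR2, Matrix.mul_one, ← Matrix.mul_assoc,
        mul_nonsing_inv _ dp1, Matrix.one_mul]
    have e2 : C * A₁⁻¹ * A₁ = C := by
      rw [Matrix.mul_assoc, nonsing_inv_mul _ dA1, Matrix.mul_one]
    have e3 : C * A₁⁻¹ * (p₁⁻¹ * B * rs2.prod⁻¹ * rs2.prod) + r₁ * (r₂ * rs2.prod) = D := by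
      have hAi : A⁻¹ = A₁⁻¹ * p₁⁻¹ := by rw [← hpA, Matrix.mul_inv_rev]
      rw [hrS, hAi, Matrix.mul_assoc (p₁⁻¹ * B), nonsing_inv_mul _ dR2, Matrix.mul_one]
      simp only [Matrix.mul_assoc, add_sub_cancel]
    rw [List.prod_cons, List.prod_cons, hyp, fromBlocks_multiply, fromBlocks_multiply]
    simp only [Matrix.mul_zero, Matrix.zero_mul, add_zero, zero_add]
    rw [hpA, e1, e2, e3]

theorem InProd.of_orb {x x' g : Matrix ι ι F} {m : ℕ} (hx : Orb x x')
    (h : InProd (List.replicate m x') g) : InProd (List.replicate m x) g := by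
  obtain ⟨y, h1, h2⟩ := h
  refine ⟨y, ?_, h2⟩
  clear h2
  induction m generalizing y with
  | zero => exact h1
  | succ j ih =>
    rw [List.replicate_succ] at h1 ⊢
    obtain ⟨a, t, ha, ht, rfl⟩ := List.forall₂_cons_left_iff.1 h1
    exact List.Forall₂.cons (hx.trans ha) (ih _ ht)

theorem Good.of_orb {x x' g : Matrix ι ι F} {m : ℕ} (hx : Orb x x')
    (h : Good (List.replicate m x') g) : Good (List.replicate m x) g := by
  obtain ⟨y, h1, h2, h3⟩ := h
  refine ⟨y, ?_, h2, h3⟩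
  clear h2 h3
  induction m generalizing y with
  | zero => exact h1
  | succ j ih =>
    rw [List.replicate_succ] at h1 ⊢
    obtain ⟨a, t, ha, ht, rfl⟩ := List.forall₂_cons_left_iff.1 h1
    exact List.Forall₂.cons (hx.trans ha) (ih _ ht)

end Blocks

/-- What the normal form lemma for block matrices provides. -/
def BlockForm (F : Type*) [Field F] : Prop :=
  ∀ {k r : ℕ}, 1 ≤ k → 1 ≤ r → ∀ {g : Matrix (Fin k ⊕ Fin r) (Fin k ⊕ Fin r) F},
    ¬ IsScalarMat g → g.det ≠ 0 → ∀ {d : F}, d ≠ 0 →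
    ∃ A B C D, Orb g (fromBlocks A B C D) ∧ A.det = d ∧ C ≠ 0 ∧
      (2 ≤ k → ¬ IsScalarMat A) ∧ (2 ≤ r → ¬ IsScalarMat (D - C * A⁻¹ * B))

theorem det_schur {ι κ : Type*} [Fintype ι] [DecidableEq ι] [Fintype κ] [DecidableEq κ]
    {A : Matrix ι ι F} (B : Matrix ι κ F) (C : Matrix κ ι F) (D : Matrix κ κ F) (hA : A.det ≠ 0) :
    (fromBlocks A B C D).det = A.det * (D - C * A⁻¹ * B).det := by
  have := Matrix.invertibleOfIsUnitDet A (isUnit_iff_ne_zero.2 hA)
  rw [det_fromBlocks₁₁, invOf_eq_nonsing_inv]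

theorem inProd_coprime_of_form (hF : BlockForm F) {k r m : ℕ} (hk : 1 ≤ k) (hr : 1 ≤ r)
    (hm : 2 ≤ m) {P : Matrix (Fin k) (Fin k) F} {R : Matrix (Fin r) (Fin r) F}
    {x : Matrix (Fin k ⊕ Fin r) (Fin k ⊕ Fin r) F} (hx : Orb x (fromBlocks P 0 0 R))
    (hdx : x.det ≠ 0) (hc : IsCoprime P.charpoly R.charpoly)
    (hP : ∀ A, A.det = P.det ^ m → InProd (List.replicate m P) A)
    (hR : ∀ S, S.det = R.det ^ m → InProd (List.replicate m R) S)
    {g} (hg : ¬ IsScalarMat g) (hdg : g.det = x.det ^ m) : InProd (List.replicate m x) g := by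
  have hxd := hx.det_eq
  rw [det_fromBlocks_zero₂₁] at hxd
  have hP0 : P.det ≠ 0 := fun h => hdx (by rw [← hxd, h, zero_mul])
  have hR0 : R.det ≠ 0 := fun h => hdx (by rw [← hxd, h, mul_zero])
  obtain ⟨A, B, C, D, hgo, hAd, -, -, -⟩ := hF hk hr hg
    (by rw [hdg]; exact pow_ne_zero _ hdx) (pow_ne_zero m hP0)
  have hS : (D - C * A⁻¹ * B).det = R.det ^ m := by
    have h := hgo.det_eq
    rw [det_schur B C D (by rw [hAd]; exact pow_ne_zero _ hP0), hdg, hAd, ← hxd, mul_pow] at h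
    exact mul_left_cancel₀ (pow_ne_zero _ hP0) h
  obtain ⟨j, rfl⟩ : ∃ j, m = j + 2 := ⟨m - 2, by omega⟩
  obtain ⟨p₁, p₂, r₁, r₂, l, u, y, -, -, h1, h2⟩ :=
    exists_factors hc hP0 hR0 (hP A hAd) (hR _ hS)
  exact (InProd.of_orb hx ⟨_, h1, h2⟩).conj hgo.symm

theorem good_simple_eigen_of_form (hF : BlockForm F) {r m : ℕ} (hr : 2 ≤ r) (hm : 2 ≤ m) {lam : F}
    (hlam : lam ≠ 0) {R : Matrix (Fin r) (Fin r) F} (hR0 : NoEigen R)
    {x : Matrix (Fin 1 ⊕ Fin r) (Fin 1 ⊕ Fin r) F}
    (hx : Orb x (fromBlocks (lam • 1) 0 0 R))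
    (hR : ∀ S, ¬ IsScalarMat S → S.det = R.det ^ m → InProd (List.replicate m R) S)
    {g} (hg : ¬ IsScalarMat g) (hdg : g.det = x.det ^ m) : Good (List.replicate m x) g := by
  have hone : ∀ M : Matrix (Fin 1) (Fin 1) F, M = M.det • 1 := by
    intro M
    ext i j
    fin_cases i; fin_cases j
    simp [Matrix.det_unique]
  set P : Matrix (Fin 1) (Fin 1) F := lam • 1 with hPdef
  have hPd : P.det = lam := by simp [hPdef]
  have hP0 : P.det ≠ 0 := by rw [hPd]; exact hlam
  have hRd : R.det ≠ 0 := by simpa using hR0 0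
  have hc : IsCoprime P.charpoly R.charpoly := by
    have hPc : P.charpoly = Polynomial.X - Polynomial.C lam := by
      rw [hPdef, Matrix.smul_one_eq_diagonal, Matrix.charpoly_diagonal]
      simp
    rw [hPc, (Polynomial.irreducible_X_sub_C lam).coprime_iff_not_dvd,
      Polynomial.dvd_iff_isRoot, Polynomial.IsRoot, Matrix.eval_charpoly]
    rw [Matrix.scalar_apply, ← Matrix.smul_one_eq_diagonal, ← neg_sub R, Matrix.det_neg]
    exact mul_ne_zero (pow_ne_zero _ (by norm_num)) (hR0 lam)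
  have hxd := hx.det_eq
  rw [det_fromBlocks_zero₂₁] at hxd
  obtain ⟨A, B, C, D, hgo, hAd, hC, -, hns⟩ := hF le_rfl (by omega) hg
    (by rw [hdg, ← hxd]; exact pow_ne_zero _ (mul_ne_zero hP0 hRd)) (pow_ne_zero m hP0)
  have hS : (D - C * A⁻¹ * B).det = R.det ^ m := by
    have h := hgo.det_eq
    rw [det_schur B C D (by rw [hAd]; exact pow_ne_zero _ hP0), hdg, hAd, ← hxd, mul_pow] at h
    exact mul_left_cancel₀ (pow_ne_zero _ hP0) h
  have hA : InProd (List.replicate m P) A := by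
    refine ⟨List.replicate m P, List.forall₂_same.2 fun a _ => Orb.refl a, ?_⟩
    rw [List.prod_replicate, hone A, hAd, hPd, hPdef, smul_pow, one_pow]
  obtain ⟨j, rfl⟩ : ∃ j, m = j + 2 := ⟨m - 2, by omega⟩
  obtain ⟨p₁, p₂, r₁, r₂, l, u, y, hr2, hl, h1, h2⟩ :=
    exists_factors hc hP0 hRd hA (hR _ (hns hr) hS)
  refine (Good.of_orb hx ⟨_, h1, h2, ?_⟩).conj hgo.symm
  rintro ⟨w, hw, he⟩
  obtain ⟨a, ha⟩ := he _ List.mem_cons_self
  obtain ⟨b, hb⟩ := he _ (List.mem_cons_of_mem _ List.mem_cons_self)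
  rw [fromBlocks_mulVec] at ha hb
  have hb2 : r₂ *ᵥ (w ∘ Sum.inr) = b • (w ∘ Sum.inr) := by
    funext i
    have := congrFun hb (Sum.inr i)
    simpa using this
  have hw2 : w ∘ Sum.inr = 0 := by
    by_contra hne
    obtain ⟨hk, kd, ke⟩ := hr2
    refine hR0 b ?_
    have hd : (r₂ - b • 1).det = 0 :=
      Matrix.exists_mulVec_eq_zero_iff.1
        ⟨_, hne, by rw [sub_mulVec, hb2, smul_mulVec, one_mulVec, sub_self]⟩
    have := congrArg Matrix.det (show hk * (R - b • 1) = (r₂ - b • 1) * hk by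
      rw [Matrix.mul_sub, Matrix.sub_mul, ke, Matrix.mul_smul, Matrix.smul_mul, Matrix.mul_one,
        Matrix.one_mul])
    rw [det_mul, det_mul, hd, zero_mul, kd, one_mul] at this
    exact this
  have hw1 : w (Sum.inl 0) ≠ 0 := by
    intro h0
    refine hw (funext fun i => ?_)
    rcases i with i | i
    · rw [Subsingleton.elim i 0]; exact h0
    · exact congrFun hw2 i
  refine hl hC ?_
  ext i i'
  rw [Subsingleton.elim i' 0]
  have := congrFun ha (Sum.inr i)
  have hwi : w (Sum.inr i) = 0 := congrFun hw2 i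
  simp [hw2, Matrix.mulVec, dotProduct, hwi] at this
  rcases this with h | h
  · simpa using h
  · exact absurd h hw1

end CfsgLib.Lev
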