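import Cfsg.Agent.Lib.Lev.Glue
import Mathlib.RingTheory.Polynomial.UniqueFactorization
import Mathlib.RingTheory.UniqueFactorizationDomain.Multiplicity
import Mathlib.LinearAlgebra.Matrix.Charpoly.Coeff

/-!
Covering number of `PSL n q` (Lev): matrices without eigenvalue, from the primary and irreducible
cases by splitting off coprime factors of the characteristic polynomial.
-/

set_option autoImplicit false

namespace CfsgLib.Lev

open Matrix Polynomial

variable {F : Type*} [Field F]

/-- What the coprime splitting lemma provides. -/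
def CoprimeSplit (F : Type*) [Field F] : Prop :=
  ∀ {n : ℕ} {x : Matrix (Fin n) (Fin n) F} {f h : F[X]}, f.Monic → h.Monic → x.charpoly = f * h →
    IsCoprime f h → ∃ (e : Fin n ≃ Fin f.natDegree ⊕ Fin h.natDegree)
      (P : Matrix (Fin f.natDegree) (Fin f.natDegree) F)
      (R : Matrix (Fin h.natDegree) (Fin h.natDegree) F),
      P.charpoly = f ∧ R.charpoly = h ∧
        Orb (Matrix.reindexAlgEquiv F F e x) (fromBlocks P 0 0 R)

/-- What the primary case provides. -/
def PrimarySpec (F : Type*) [Field F] : Prop :=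
  ∀ {n : ℕ} {x : Matrix (Fin n) (Fin n) F} {p : F[X]}, Irreducible p → p.Monic → 2 ≤ p.natDegree →
    ∀ {e : ℕ}, 2 ≤ e → x.charpoly = p ^ e → ∀ {m : ℕ} {g : Matrix (Fin n) (Fin n) F},
      g.det = x.det ^ m → ((¬ IsScalarMat g ∧ n ≤ m) ∨ n < m ∨ (m = n ∧ g = 1 ∧ x.det = 1)) →
      InProd (List.replicate m x) g

/-- What the irreducible case of large degree provides. -/
def IrredBigSpec (F : Type*) [Field F] : Prop :=
  ∀ {n : ℕ}, 4 ≤ n → ∀ {x : Matrix (Fin n) (Fin n) F}, Irreducible x.charpoly →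
    ∀ {m : ℕ}, 4 ≤ m → ∀ {g : Matrix (Fin n) (Fin n) F}, g.det = x.det ^ m →
      InProd (List.replicate m x) g

section Aux

variable {ι : Type*} [Fintype ι] [DecidableEq ι]

theorem eval_charpoly_ne {x : Matrix ι ι F} (hx : NoEigen x) (c : F) : x.charpoly.eval c ≠ 0 := by
  rw [Matrix.eval_charpoly, Matrix.scalar_apply, ← Matrix.smul_one_eq_diagonal, ← neg_sub x,
    Matrix.det_neg]
  exact mul_ne_zero (pow_ne_zero _ (by norm_num)) (hx c)

theorem noEigen_of_eval {x : Matrix ι ι F} (hx : ∀ c, x.charpoly.eval c ≠ 0) : NoEigen x := by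
  intro c hc
  refine hx c ?_
  rw [Matrix.eval_charpoly, Matrix.scalar_apply, ← Matrix.smul_one_eq_diagonal, ← neg_sub x,
    Matrix.det_neg, hc, mul_zero]

theorem NoEigen.det_ne_zero {x : Matrix ι ι F} (hx : NoEigen x) : x.det ≠ 0 := by
  simpa using hx 0

theorem NoEigen.not_scalar [Nonempty ι] {x : Matrix ι ι F} (hx : NoEigen x) : ¬ IsScalarMat x := by
  rintro ⟨c, rfl⟩
  refine hx c ?_
  rw [sub_self, det_zero]

/-- A monic polynomial without root and not constant has degree at least two. -/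
theorem two_le_natDegree {f : F[X]} (hf : f.Monic) (hne : f ≠ 1) (hr : ∀ c, f.eval c ≠ 0) :
    2 ≤ f.natDegree := by
  by_contra h
  rcases Nat.lt_or_ge f.natDegree 1 with h0 | h1
  · exact hne (hf.natDegree_eq_zero.1 (by omega))
  · have e : f = X + C (f.coeff 0) := by
      have := hf.as_sum
      rw [show f.natDegree = 1 by omega] at this
      simpa using this
    exact hr (-f.coeff 0) (by rw [e]; simp)

/-- Peel one factor. -/
theorem inProd_succ {x g : Matrix ι ι F} {m : ℕ} (hx : x.det ≠ 0)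
    (h : InProd (List.replicate m x) (g * x⁻¹)) : InProd (List.replicate (m + 1) x) g := by
  obtain ⟨y, h1, h2⟩ := h
  refine ⟨y ++ [x], ?_, ?_⟩
  · rw [List.replicate_succ']
    exact List.rel_append h1 (List.Forall₂.cons (Orb.refl x) List.Forall₂.nil)
  · rw [List.prod_append, h2, List.prod_singleton, Matrix.mul_assoc,
      nonsing_inv_mul _ (isUnit_iff_ne_zero.2 hx), Matrix.mul_one]

theorem det_mul_inv {x g : Matrix ι ι F} {m : ℕ} (hx : x.det ≠ 0) (hd : g.det = x.det ^ (m + 1)) :
    (g * x⁻¹).det = x.det ^ m := by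
  rw [det_mul, det_nonsing_inv, hd, Ring.inverse_eq_inv', pow_succ, mul_assoc, mul_inv_cancel₀ hx,
    mul_one]

theorem not_scalar_mul_inv {x g : Matrix ι ι F} (hx : x.det ≠ 0) (hxs : ¬ IsScalarMat x)
    (hg : IsScalarMat g) (hg0 : g.det ≠ 0) : ¬ IsScalarMat (g * x⁻¹) := by
  rintro ⟨a, ha⟩
  obtain ⟨c, rfl⟩ := hg
  have h1 : c • (1 : Matrix ι ι F) = a • x := by
    have := congrArg (· * x) ha
    simpa [Matrix.mul_assoc, nonsing_inv_mul _ (isUnit_iff_ne_zero.2 hx)] using this
  rcases eq_or_ne a 0 with rfl | ha0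
  · rw [zero_smul] at h1
    rw [h1] at hg0
    rcases isEmpty_or_nonempty ι with hi | hi
    · exact hxs ⟨1, Subsingleton.elim _ _⟩
    · exact hg0 det_zero
  · exact hxs ⟨a⁻¹ * c, by rw [mul_smul, h1, smul_smul, inv_mul_cancel₀ ha0, one_smul]⟩

theorem isScalarMat_reindex {κ : Type*} [Fintype κ] [DecidableEq κ] (e : ι ≃ κ)
    {g : Matrix ι ι F} (h : IsScalarMat (Matrix.reindexAlgEquiv F F e g)) : IsScalarMat g := by
  obtain ⟨c, hc⟩ := h
  exact ⟨c, (Matrix.reindexAlgEquiv F F e).injective (by rw [hc, map_smul, map_one])⟩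

end Aux

/-- The induction hypothesis at smaller sizes. -/
def NoEigenBelow (F : Type*) [Field F] (n : ℕ) : Prop :=
  ∀ a : ℕ, a < n → ∀ (x : Matrix (Fin a) (Fin a) F), 2 ≤ a → NoEigen x →
    ∀ (m : ℕ) (g : Matrix (Fin a) (Fin a) F), g.det = x.det ^ m → a < m →
      InProd (List.replicate m x) g

theorem inProd_split_case (hF : BlockForm F) (hS : CoprimeSplit F) {n : ℕ} (hN : NoEigenBelow F n)
    {x : Matrix (Fin n) (Fin n) F} (hx : NoEigen x) {f h : F[X]} (hf : f.Monic) (hh : h.Monic)
    (hfh : x.charpoly = f * h) (hc : IsCoprime f h) (hf1 : f ≠ 1) (hh1 : h ≠ 1) {m : ℕ}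
    (hm : n ≤ m + 1) {g : Matrix (Fin n) (Fin n) F} (hg : ¬ IsScalarMat g)
    (hd : g.det = x.det ^ m) : InProd (List.replicate m x) g := by
  have hr : ∀ c, f.eval c * h.eval c ≠ 0 := fun c => by
    rw [← eval_mul, ← hfh]; exact eval_charpoly_ne hx c
  have df := two_le_natDegree hf hf1 fun c => left_ne_zero_of_mul (hr c)
  have dh := two_le_natDegree hh hh1 fun c => right_ne_zero_of_mul (hr c)
  obtain ⟨e, P, R, hP, hR, hO⟩ := hS hf hh hfh hc
  have hn : n = f.natDegree + h.natDegree := by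
    simpa using Fintype.card_congr e
  have hPe : NoEigen P := noEigen_of_eval fun c => by rw [hP]; exact left_ne_zero_of_mul (hr c)
  have hRe : NoEigen R := noEigen_of_eval fun c => by rw [hR]; exact right_ne_zero_of_mul (hr c)
  have key := inProd_coprime_of_form hF (m := m) (g := Matrix.reindexAlgEquiv F F e g)
    (show 1 ≤ f.natDegree by omega) (show 1 ≤ h.natDegree by omega) (by omega) hO
    (by rw [Matrix.det_reindexAlgEquiv]; exact hx.det_ne_zero) (by rw [hP, hR]; exact hc)
    (fun A hA => hN _ (by omega) P df hPe m A hA (by omega))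
    (fun S hS => hN _ (by omega) R dh hRe m S hS (by omega))
    (fun hs => hg (isScalarMat_reindex e hs))
    (by rw [Matrix.det_reindexAlgEquiv, Matrix.det_reindexAlgEquiv, hd])
  have := key.reindex e.symm
  rw [List.map_replicate, ← Matrix.symm_reindexAlgEquiv, AlgEquiv.symm_apply_apply,
    AlgEquiv.symm_apply_apply] at this
  exact this

theorem noEigenSpec_of (hF : BlockForm F) (hS : CoprimeSplit F) (hI : IrredSpec F)
    (hP : PrimarySpec F) (hB : IrredBigSpec F) : NoEigenSpec F := by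
  intro n
  induction n using Nat.strong_induction_on with
  | _ n ih =>
  intro x hn hx m g hd hcase
  have : Nonempty (Fin n) := ⟨⟨0, by omega⟩⟩
  have hdeg : x.charpoly.natDegree = n := by rw [Matrix.charpoly_natDegree_eq_dim, Fintype.card_fin]
  by_cases hirr : Irreducible x.charpoly
  · rcases hcase with h | h | ⟨h3, rfl, rfl, hd1⟩
    · exact hI n x hn hirr m g hd (Or.inl h)
    · exact hI n x hn hirr m g hd (Or.inr (Or.inl h))
    · rcases Nat.lt_or_ge m 4 with h4 | h4
      · exact hI m x hn hirr m 1 hd (Or.inr (Or.inr ⟨by omega, by omega, rfl, hd1⟩))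
      · exact hB h4 hirr h4 hd
  obtain ⟨p, hpm, hpi, hpd⟩ := exists_monic_irreducible_factor x.charpoly
    (not_isUnit_of_natDegree_pos _ (by omega))
  obtain ⟨k, q, hq, hxq⟩ := WfDvdMonoid.max_power_factor (Matrix.charpoly_monic x).ne_zero hpi
  have hk : 1 ≤ k := by
    by_contra hk0
    rw [show k = 0 by omega, pow_zero, one_mul] at hxq
    exact hq (hxq ▸ hpd)
  have hqm : q.Monic := (hpm.pow k).of_mul_monic_left (hxq ▸ Matrix.charpoly_monic x)
  by_cases hq1 : q = 1
  · rw [hq1, mul_one] at hxq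
    rcases Nat.lt_or_ge k 2 with hk2 | hk2
    · exact absurd (by rwa [hxq, show k = 1 by omega, pow_one]) hirr
    have hp2 : 2 ≤ p.natDegree := two_le_natDegree hpm hpi.ne_one fun c hc =>
      eval_charpoly_ne hx c (by rw [hxq, eval_pow, hc, zero_pow (by omega)])
    exact hP hpi hpm hp2 hk2 hxq hd (by
      rcases hcase with h | h | h
      · exact Or.inl ⟨h.1, h.2.1⟩
      · exact Or.inr (Or.inl h)
      · exact Or.inr (Or.inr h.2))
  have hc : IsCoprime (p ^ k) q := ((hpi.coprime_iff_not_dvd).2 hq).pow_left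
  have hf1 : p ^ k ≠ 1 := by
    intro h
    have := congrArg natDegree h
    rw [natDegree_pow, natDegree_one, Nat.mul_eq_zero] at this
    rcases this with h0 | h0
    · omega
    · exact hpi.ne_one (hpm.natDegree_eq_zero.1 h0)
  by_cases hgs : IsScalarMat g
  · have hnm : n < m ∨ m = n := by rcases hcase with h | h | h <;> omega
    obtain ⟨j, rfl⟩ : ∃ j, m = j + 1 := ⟨m - 1, by omega⟩
    refine inProd_succ hx.det_ne_zero (inProd_split_case hF hS (fun a ha y hy hye k z hz hk => ih a ha y hy hye k z hz (Or.inr (Or.inl hk))) hx (hpm.pow k) hqm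
      hxq hc hf1 hq1 (by omega) (not_scalar_mul_inv hx.det_ne_zero hx.not_scalar hgs
        (by rw [hd]; exact pow_ne_zero _ hx.det_ne_zero)) (det_mul_inv hx.det_ne_zero hd))
  · exact inProd_split_case hF hS (fun a ha y hy hye k z hz hk => ih a ha y hy hye k z hz (Or.inr (Or.inl hk))) hx (hpm.pow k) hqm hxq hc hf1 hq1
      (by rcases hcase with h | h | h <;> omega) hgs hd

end CfsgLib.Lev
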