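import Cfsg.Agent.Lib.Lev.Glue
import Cfsg.Agent.Lib.Lev.NoEigen
import Cfsg.Agent.Lib.Lev.Forms
import Cfsg.Agent.Lib.Lev.CoprimeSplit

/-!
Covering number of `PSL n q` (Lev): the gluing lemmas and the reduction of the case without eigenvalue,
with the normal form lemmas put in.
-/

set_option autoImplicit false

namespace CfsgLib.Lev

open Matrix

variable {F : Type*} [Field F]

theorem blockForm [Fintype F] (hq : 4 ≤ Fintype.card F) : BlockForm F :=
  fun hk hr _ hg hdet _ hd => exists_block hq hk hr hg hdet hd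

theorem coprimeSplit : CoprimeSplit F := fun hf hh hx hc => exists_coprime_split hf hh hx hc

theorem inProd_coprime [Fintype F] (hq : 4 ≤ Fintype.card F) {k r m : ℕ} (hk : 1 ≤ k) (hr : 1 ≤ r)
    (hm : 2 ≤ m) {P : Matrix (Fin k) (Fin k) F} {R : Matrix (Fin r) (Fin r) F}
    {x : Matrix (Fin k ⊕ Fin r) (Fin k ⊕ Fin r) F} (hx : Orb x (fromBlocks P 0 0 R))
    (hdx : x.det ≠ 0) (hc : IsCoprime P.charpoly R.charpoly)
    (hP : ∀ A, A.det = P.det ^ m → InProd (List.replicate m P) A)
    (hR : ∀ S, S.det = R.det ^ m → InProd (List.replicate m R) S)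
    {g} (hg : ¬ IsScalarMat g) (hdg : g.det = x.det ^ m) : InProd (List.replicate m x) g :=
  inProd_coprime_of_form (blockForm hq) hk hr hm hx hdx hc hP hR hg hdg

theorem good_simple_eigen [Fintype F] (hq : 4 ≤ Fintype.card F) {r m : ℕ} (hr : 2 ≤ r) (hm : 2 ≤ m)
    {lam : F} (hlam : lam ≠ 0) {R : Matrix (Fin r) (Fin r) F} (hR0 : NoEigen R)
    {x : Matrix (Fin 1 ⊕ Fin r) (Fin 1 ⊕ Fin r) F}
    (hx : Orb x (fromBlocks (lam • 1) 0 0 R))
    (hR : ∀ S, ¬ IsScalarMat S → S.det = R.det ^ m → InProd (List.replicate m R) S)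
    {g} (hg : ¬ IsScalarMat g) (hdg : g.det = x.det ^ m) : Good (List.replicate m x) g :=
  good_simple_eigen_of_form (blockForm hq) hr hm hlam hR0 hx hR hg hdg

/-- The case without eigenvalue, from the irreducible and primary cases. -/
theorem noEigenSpec [Fintype F] (hq : 4 ≤ Fintype.card F) (hI : IrredSpec F) (hP : PrimarySpec F)
    (hB : IrredBigSpec F) : NoEigenSpec F :=
  noEigenSpec_of (blockForm hq) coprimeSplit hI hP hB

end CfsgLib.Lev
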