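import Cfsg.Agent.Lib.Lev.Defs
import Mathlib.FieldTheory.Finite.Basic
import Mathlib.LinearAlgebra.Matrix.Charpoly.Coeff
import Mathlib.LinearAlgebra.Matrix.Charpoly.Minpoly
import Mathlib.Tactic.FieldSimp
import Mathlib.Tactic.FinCases
import Mathlib.Tactic.LinearCombination

/-!
Covering number of `PSL n q` (Lev): conjugation of two by two matrices and prescribed traces.
-/

set_option autoImplicit false
set_option linter.style.haveILetI false
set_option linter.unusedSectionVars false
set_option linter.unusedVariables false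
set_option linter.unusedSimpArgs false

namespace CfsgLib.Lev

open Matrix Polynomial

variable {F : Type*} [Field F]

section

variable {ι : Type*} [Fintype ι] [DecidableEq ι]

/-- Conjugate by an invertible matrix. -/
def GLConj (a b : Matrix ι ι F) : Prop := ∃ P : Matrix ι ι F, P.det ≠ 0 ∧ P * a = b * P

theorem GLConj.trans {a b c : Matrix ι ι F} (h1 : GLConj a b) (h2 : GLConj b c) : GLConj a c := by
  obtain ⟨P, hP, he⟩ := h1
  obtain ⟨Q, hQ, hf⟩ := h2
  exact ⟨Q * P, by rw [det_mul]; exact mul_ne_zero hQ hP,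
    by rw [mul_assoc, he, ← mul_assoc, hf, mul_assoc]⟩

theorem GLConj.symm {a b : Matrix ι ι F} (h : GLConj a b) : GLConj b a := by
  obtain ⟨P, hP, he⟩ := h
  have hu : IsUnit P.det := isUnit_iff_ne_zero.2 hP
  refine ⟨P⁻¹, by rw [det_nonsing_inv, Ring.inverse_eq_inv']; exact inv_ne_zero hP, ?_⟩
  calc P⁻¹ * b = P⁻¹ * (b * P) * P⁻¹ := by
        rw [← mul_assoc P⁻¹ b P, mul_assoc (P⁻¹ * b), mul_nonsing_inv _ hu, mul_one]
    _ = a * P⁻¹ := by rw [← he, ← mul_assoc, nonsing_inv_mul _ hu, one_mul]

theorem GLConj.eq_conj {a b : Matrix ι ι F} {P : Matrix ι ι F} (hP : P.det ≠ 0) (he : P * a = b * P) :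
    b = P * a * P⁻¹ := by
  rw [he, mul_assoc, mul_nonsing_inv _ (isUnit_iff_ne_zero.2 hP), mul_one]

theorem GLConj.det_eq {a b : Matrix ι ι F} (h : GLConj a b) : b.det = a.det := by
  obtain ⟨P, hP, he⟩ := h
  have := congrArg Matrix.det he
  rw [det_mul, det_mul, mul_comm b.det] at this
  exact (mul_left_cancel₀ hP this).symm

theorem GLConj.trace_eq {a b : Matrix ι ι F} (h : GLConj a b) : b.trace = a.trace := by
  obtain ⟨P, hP, he⟩ := h
  rw [GLConj.eq_conj hP he, trace_mul_comm, ← mul_assoc,
    nonsing_inv_mul _ (isUnit_iff_ne_zero.2 hP), one_mul]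

theorem GLConj.charpoly_eq {a b : Matrix ι ι F} (h : GLConj a b) : b.charpoly = a.charpoly := by
  obtain ⟨P, hP, he⟩ := h
  let U : (Matrix ι ι F)ˣ := Matrix.nonsingInvUnit P (isUnit_iff_ne_zero.2 hP)
  rw [GLConj.eq_conj hP he]
  exact Matrix.charpoly_units_conj U a

theorem GLConj.isScalarMat {a b : Matrix ι ι F} (h : GLConj a b) (hb : IsScalarMat b) : IsScalarMat a := by
  obtain ⟨P, hP, he⟩ := h.symm
  obtain ⟨c, rfl⟩ := hb
  refine ⟨c, ?_⟩
  rw [GLConj.eq_conj hP he, Matrix.mul_smul, mul_one, Matrix.smul_mul,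
    mul_nonsing_inv _ (isUnit_iff_ne_zero.2 hP)]

theorem noEigen_iff {x : Matrix ι ι F} : NoEigen x ↔ ∀ c, x.charpoly.eval c ≠ 0 := by
  refine forall_congr' fun c => not_congr ?_
  rw [Matrix.eval_charpoly, ← neg_sub, Matrix.det_neg, smul_one_eq_diagonal, Matrix.scalar_apply]
  constructor
  · intro h
    exact (mul_eq_zero.1 h).resolve_left (pow_ne_zero _ (neg_ne_zero.2 one_ne_zero))
  · intro h; rw [h, mul_zero]

end

/-- The companion matrix of `X ^ 2 - τ X + δ`. -/
def comp2 (τ δ : F) : Matrix (Fin 2) (Fin 2) F := !![0, -δ; 1, τ]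

theorem det_comp2 (τ δ : F) : (comp2 τ δ).det = δ := by simp [comp2, Matrix.det_fin_two]

theorem trace_comp2 (τ δ : F) : (comp2 τ δ).trace = τ := by simp [comp2, Matrix.trace_fin_two]

/-- A two by two matrix is scalar or conjugate to its companion matrix. -/
theorem glConj_comp2 {g : Matrix (Fin 2) (Fin 2) F} (hg : ¬ IsScalarMat g) :
    GLConj (comp2 g.trace g.det) g := by
  obtain ⟨v0, v1, hv⟩ : ∃ v0 v1 : F,
      v0 * (g 1 0 * v0 + g 1 1 * v1) - v1 * (g 0 0 * v0 + g 0 1 * v1) ≠ 0 := by
    by_contra h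
    push Not at h
    have h1 := h 1 0
    have h2 := h 0 1
    have h3 := h 1 1
    simp at h1 h2
    refine hg ⟨g 0 0, ?_⟩
    ext i j
    fin_cases i <;> fin_cases j <;> simp [h1, h2]
    linear_combination h3 - h1 + h2
  refine ⟨!![v0, g 0 0 * v0 + g 0 1 * v1; v1, g 1 0 * v0 + g 1 1 * v1], ?_, ?_⟩
  · rw [Matrix.det_fin_two_of]
    intro h
    exact hv (by linear_combination h)
  · ext i j
    fin_cases i <;> fin_cases j <;>
      simp [comp2, Matrix.mul_apply, Fin.sum_univ_two, Matrix.trace_fin_two, Matrix.det_fin_two] <;> ring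

/-- Nonscalar two by two matrices are determined up to conjugation by trace and determinant. -/
theorem glConj_two {g h : Matrix (Fin 2) (Fin 2) F} (hg : ¬ IsScalarMat g) (hh : ¬ IsScalarMat h)
    (ht : g.trace = h.trace) (hd : g.det = h.det) : GLConj g h :=
  (glConj_comp2 hg).symm.trans (by rw [ht, hd]; exact glConj_comp2 hh)

variable [Fintype F]

/-- An element outside a set of fewer elements than the field. -/
theorem exists_avoid [DecidableEq F] (s : Finset F) (hs : s.card < Fintype.card F) : ∃ t, t ∉ s := by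
  by_contra h
  push Not at h
  exact absurd (Finset.card_le_card fun x _ => h x : (Finset.univ : Finset F).card ≤ s.card)
    (by rw [Finset.card_univ]; omega)

/-- Fields with four elements. -/
theorem four_facts (h4 : Fintype.card F = 4) :
    (2 : F) = 0 ∧ ∃ ω : F, ω ^ 2 + ω + 1 = 0 ∧ ω ≠ 0 ∧ ω ≠ 1 ∧ ω + 1 ≠ 0 := by
  classical
  obtain ⟨ω, hω⟩ := exists_avoid ({0, 1} : Finset F)
    (lt_of_le_of_lt (Finset.card_le_two) (by omega))
  simp only [Finset.mem_insert, Finset.mem_singleton, not_or] at hω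
  have h3 : ω ^ 3 = 1 := by
    have := FiniteField.pow_card_sub_one_eq_one ω hω.1
    rwa [h4] at this
  have h2 : (2 : F) = 0 := by
    have h := Nat.cast_card_eq_zero F
    rw [h4] at h
    push_cast at h
    exact pow_eq_zero_iff (n := 2) (by omega) |>.1 (by linear_combination h)
  have hω2 : ω ^ 2 + ω + 1 = 0 := by
    have h : (ω - 1) * (ω ^ 2 + ω + 1) = 0 := by linear_combination h3
    exact (mul_eq_zero.1 h).resolve_left (sub_ne_zero.2 hω.2)
  exact ⟨h2, ω, hω2, hω.1, hω.2, fun h => hω.1 (pow_eq_zero_iff (n := 2) (by omega) |>.1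
    (by linear_combination hω2 - h))⟩

/-- A matrix with prescribed determinant avoiding two traces and two mixed traces with `A`. -/
theorem exists_trace_avoid (hq : 4 ≤ Fintype.card F) {A : Matrix (Fin 2) (Fin 2) F}
    (hA : ¬ IsScalarMat A) (hAd : A.det ≠ 0) {d : F} (hd : d ≠ 0) (f1 f2 g1 g2 : F) :
    ∃ G : Matrix (Fin 2) (Fin 2) F, ¬ IsScalarMat G ∧ G.det = d ∧ G.trace ≠ f1 ∧ G.trace ≠ f2 ∧
      (G * A).trace ≠ g1 ∧ (G * A).trace ≠ g2 ∧ ¬ IsScalarMat (G * A) := by
  classical
  set τ := A.trace
  set δ := A.det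
  obtain ⟨h, hh⟩ : ∃ h : F, ∀ l : F, l ^ 2 = d * δ → l * τ = h * δ ∨ l * τ = -h * δ := by
    by_cases hl : ∃ l : F, l ^ 2 = d * δ
    · obtain ⟨l, hl⟩ := hl
      refine ⟨l * τ / δ, fun l' hl' => ?_⟩
      rcases sq_eq_sq_iff_eq_or_eq_neg.1 (hl'.trans hl.symm) with rfl | rfl
      · left; rw [div_mul_cancel₀ _ hAd]
      · right; rw [neg_mul, neg_mul, div_mul_cancel₀ _ hAd]
    · exact ⟨0, fun l hl' => absurd ⟨l, hl'⟩ hl⟩
  obtain ⟨t, ht⟩ : ∃ t, t ∉ ({f1, f2, h, -h} : Finset F) := by
    by_cases h4 : Fintype.card F = 4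
    · have hneg : -h = h := by linear_combination -h * (four_facts h4).1
      refine exists_avoid _ ?_
      rw [hneg, show ({f1, f2, h, h} : Finset F) = {f1, f2, h} by simp]
      exact lt_of_le_of_lt Finset.card_le_three (by omega)
    · exact exists_avoid _ (lt_of_le_of_lt Finset.card_le_four (by omega))
  simp only [Finset.mem_insert, Finset.mem_singleton, not_or] at ht
  obtain ⟨c, e, hc, hv1, hv2⟩ : ∃ c e : F, c ≠ 0 ∧ ((t - e) * e - d) / c - δ * c + τ * e ≠ g1 ∧
      ((t - e) * e - d) / c - δ * c + τ * e ≠ g2 := by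
    by_contra H
    push Not at H
    have hpair : ∀ c e : F, c ≠ 0 → ((t - e) * e - d) / c - δ * c + τ * e = g1 ∨
        ((t - e) * e - d) / c - δ * c + τ * e = g2 := fun c e hc => by
      by_cases h1 : ((t - e) * e - d) / c - δ * c + τ * e = g1
      · exact Or.inl h1
      · exact Or.inr (H c e hc h1)
    by_cases h4 : Fintype.card F = 4
    · obtain ⟨h2, ω, hω, hω0, hω1, hω2⟩ := four_facts h4
      have key : ∀ c : F, c ≠ 0 → (t + c * τ) ^ 2 = c * (g1 + g2) ∧ t + c * τ ≠ 0 := by
        intro c hc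
        have hs : t + c * τ ≠ 0 := by
          intro hs
          -- squaring is injective, so three values appear
          have hinj : ∀ e e' : F, ((t - e) * e - d) / c - δ * c + τ * e =
              ((t - e') * e' - d) / c - δ * c + τ * e' → e = e' := by
            intro e e' he
            field_simp at he
            have hz : (e - e') ^ 2 = 0 := by
              linear_combination (e - e') * hs - he - e' * (e - e') * h2
            exact sub_eq_zero.1 (pow_eq_zero_iff (n := 2) (by omega) |>.1 hz)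
          rcases hpair c 0 hc with a | a <;> rcases hpair c 1 hc with b | b <;>
            rcases hpair c ω hc with m | m
          all_goals first
            | exact zero_ne_one (hinj _ _ (a.trans b.symm))
            | exact hω0 (hinj _ _ (m.trans a.symm))
            | exact hω1 (hinj _ _ (m.trans b.symm))
        refine ⟨?_, hs⟩
        have a := hpair c 0 hc
        have b := hpair c (ω * (t + c * τ)) hc
        have hne : ((t - 0) * 0 - d) / c - δ * c + τ * 0 ≠
            ((t - ω * (t + c * τ)) * (ω * (t + c * τ)) - d) / c - δ * c + τ * (ω * (t + c * τ)) := by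
          intro he
          field_simp at he
          have hz : (t + c * τ) ^ 2 = 0 := by
            linear_combination he + (t + c * τ) ^ 2 * hω - (t + c * τ) ^ 2 * ω ^ 2 * h2
          exact hs (pow_eq_zero_iff (n := 2) (by omega) |>.1 hz)
        rcases a with a | a <;> rcases b with b | b
        all_goals first
          | exact absurd (a.trans b.symm) hne
          | (rw [← a, ← b]
             field_simp
             linear_combination (t + c * τ) ^ 2 * hω + (d + δ * c ^ 2 - (t + c * τ) ^ 2 * ω) * h2)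
      obtain ⟨k1, -⟩ := key 1 one_ne_zero
      obtain ⟨kω, -⟩ := key ω hω0
      obtain ⟨k2, -⟩ := key (ω + 1) hω2
      have ht0 : t = 0 := by
        refine pow_eq_zero_iff (n := 2) (by omega) |>.1 ?_
        linear_combination k1 + kω + k2 - (t ^ 2 + 2 * t * τ * (ω + 1) + τ ^ 2 * (ω ^ 2 + ω + 1)
          - (g1 + g2) * (ω + 1)) * h2
      have hg : τ ^ 2 = g1 + g2 := by
        rw [ht0] at k1; linear_combination k1
      have hτ : τ ^ 2 * (ω * (ω - 1)) = 0 := by
        rw [ht0] at kω; linear_combination kω - ω * hg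
      rcases mul_eq_zero.1 hτ with h' | h'
      · have := (key 1 one_ne_zero).2
        rw [ht0, pow_eq_zero_iff (n := 2) (by omega) |>.1 h'] at this
        simp at this
      · rcases mul_eq_zero.1 h' with h' | h'
        · exact hω0 h'
        · exact hω1 (sub_eq_zero.1 h')
    · -- two quadratics cannot cover five elements
      let P : F → F[X] := fun g => X ^ 2 + Polynomial.C (-(t + τ)) * X + Polynomial.C (d + δ + g)
      have hP : ∀ g, (P g).natDegree = 2 := fun g => by
        show (X ^ 2 + Polynomial.C _ * X + Polynomial.C _ : F[X]).natDegree = 2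
        compute_degree!
      have hP0 : ∀ g, P g ≠ 0 := fun g h0 => by simpa [h0] using hP g
      have hsub : (Finset.univ : Finset F) ⊆ (P g1).roots.toFinset ∪ (P g2).roots.toFinset := by
        intro e _
        rw [Finset.mem_union, Multiset.mem_toFinset, Multiset.mem_toFinset, Polynomial.mem_roots (hP0 _),
          Polynomial.mem_roots (hP0 _), IsRoot.def, IsRoot.def]
        rcases hpair 1 e one_ne_zero with h' | h'
        · left; simp [P]; linear_combination -h'
        · right; simp [P]; linear_combination -h'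
      have hc1 := (Finset.card_le_card hsub).trans (Finset.card_union_le _ _)
      have hr : ∀ g, (P g).roots.toFinset.card ≤ 2 := fun g =>
        (Multiset.toFinset_card_le _).trans ((Polynomial.card_roots' _).trans (hP g).le)
      have := hr g1
      have := hr g2
      rw [Finset.card_univ] at hc1
      omega
  set b := ((t - e) * e - d) / c with hb
  obtain ⟨P, hP, hPA⟩ := glConj_comp2 hA
  set G0 : Matrix (Fin 2) (Fin 2) F := !![t - e, b; c, e] with hG0
  have hu : IsUnit P.det := isUnit_iff_ne_zero.2 hP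
  have hconj : GLConj G0 (P * G0 * P⁻¹) :=
    ⟨P, hP, by rw [mul_assoc, nonsing_inv_mul _ hu, mul_one]⟩
  have hconjA : GLConj (G0 * comp2 τ δ) (P * G0 * P⁻¹ * A) := by
    refine ⟨P, hP, ?_⟩
    rw [mul_assoc (P * G0 * P⁻¹), ← hPA, ← mul_assoc (P * G0 * P⁻¹), mul_assoc (P * G0) P⁻¹,
      nonsing_inv_mul _ hu, mul_one, mul_assoc]
  have hbc : b * c = (t - e) * e - d := by rw [hb, div_mul_cancel₀ _ hc]
  have htr : (G0 * comp2 τ δ).trace = b - δ * c + τ * e := by
    simp [hG0, comp2, Matrix.trace_fin_two, Matrix.mul_apply, Fin.sum_univ_two]; ring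
  refine ⟨P * G0 * P⁻¹, fun hs => ?_, ?_, ?_, ?_, ?_, ?_, fun hs => ?_⟩
  · obtain ⟨l, hl⟩ := hconj.isScalarMat hs
    have := congrFun (congrFun hl 1) 0
    simp [hG0] at this
    exact hc this
  · rw [hconj.det_eq, hG0, Matrix.det_fin_two_of]
    linear_combination -hbc
  · rw [hconj.trace_eq, hG0, Matrix.trace_fin_two]; simpa using ht.1
  · rw [hconj.trace_eq, hG0, Matrix.trace_fin_two]; simpa using ht.2.1
  · rw [hconjA.trace_eq, htr]; exact hv1
  · rw [hconjA.trace_eq, htr]; exact hv2
  · obtain ⟨l, hl⟩ := hconjA.isScalarMat hs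
    have e00 := congrFun (congrFun hl 0) 0
    have e01 := congrFun (congrFun hl 0) 1
    have e10 := congrFun (congrFun hl 1) 0
    have e11 := congrFun (congrFun hl 1) 1
    simp [hG0, comp2, Matrix.mul_apply, Fin.sum_univ_two] at e00 e01 e10 e11
    subst e10 e00
    have hl2 : b ^ 2 = d * δ := by linear_combination (-b) * e11 - δ * hbc
    rcases hh b hl2 with h' | h'
    · exact ht.2.2.1 (mul_right_cancel₀ hAd (by linear_combination h' - e01))
    · exact ht.2.2.2 (mul_right_cancel₀ hAd (by linear_combination h' - e01))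

end CfsgLib.Lev
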