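import Cfsg.Agent.Lib.Lev.Defs
import Mathlib.LinearAlgebra.Matrix.Charpoly.Coeff
import Mathlib.LinearAlgebra.Matrix.Block
import Mathlib.LinearAlgebra.Matrix.ToLin
import Mathlib.FieldTheory.Finite.Basic

/-!
Covering number of `PSL n q` (Lev): products of four elements with the same irreducible
characteristic polynomial, degree at least four.

The key fact is that an upper triangular matrix is, after a change of its first row, a product of two
matrices with prescribed irreducible characteristic polynomial: the map sending the first row to the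
characteristic polynomial of an unreduced Hessenberg matrix is injective, hence bijective.
-/

set_option autoImplicit false
set_option linter.unusedSectionVars false

namespace CfsgLib.Lev

open Matrix Polynomial

namespace IrredBig

variable {F : Type*} [Field F]

/-- Vectors supported on the first `k + 1` coordinates. -/
def Low {n : ℕ} (k : ℕ) (v : Fin n → F) : Prop := ∀ i : Fin n, k < i → v i = 0

theorem Low.mono {n k l : ℕ} (hkl : k ≤ l) {v : Fin n → F} (h : Low k v) : Low l v :=
  fun i hi => h i (lt_of_le_of_lt hkl hi)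

/-- Hessenberg matrices with nonzero subdiagonal. -/
structure Hess {n : ℕ} (Y : Matrix (Fin n) (Fin n) F) : Prop where
  below : ∀ i j : Fin n, (j : ℕ) + 1 < i → Y i j = 0
  sub : ∀ i j : Fin n, (j : ℕ) + 1 = i → Y i j ≠ 0

theorem Hess.step {n : ℕ} {Y : Matrix (Fin n) (Fin n) F} (hY : Hess Y) {k : ℕ} (hk : k + 1 < n)
    {v : Fin n → F} (hv : Low k v) (ht : v ⟨k, by omega⟩ ≠ 0) :
    Low (k + 1) (Y *ᵥ v) ∧ (Y *ᵥ v) ⟨k + 1, hk⟩ ≠ 0 := by
  refine ⟨fun i hi => ?_, ?_⟩
  · show ∑ j, Y i j * v j = 0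
    refine Finset.sum_eq_zero fun j _ => ?_
    rcases le_or_gt (j : ℕ) k with h | h
    · rw [hY.below i j (by omega), zero_mul]
    · rw [hv j h, mul_zero]
  · rw [mulVec, dotProduct, Finset.sum_eq_single_of_mem (⟨k, by omega⟩ : Fin n) (Finset.mem_univ _)]
    · exact mul_ne_zero (hY.sub _ _ rfl) ht
    · intro j _ hj
      have hj' : (j : ℕ) ≠ k := fun e => hj (Fin.ext e)
      rcases le_or_gt (j : ℕ) k with h | h
      · rw [hY.below _ j (by simp only; omega), zero_mul]
      · rw [hv j h, mul_zero]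

theorem Hess.krylov {n : ℕ} [NeZero n] {Y : Matrix (Fin n) (Fin n) F} (hY : Hess Y) :
    ∀ i, (hi : i < n) → Low i ((Y ^ i) *ᵥ Pi.single 0 1) ∧
      ((Y ^ i) *ᵥ Pi.single 0 1) ⟨i, hi⟩ ≠ 0 := by
  intro i
  induction i with
  | zero =>
    intro hi
    rw [pow_zero, one_mulVec]
    refine ⟨fun j hj => ?_, ?_⟩
    · rw [Pi.single_eq_of_ne]
      exact fun e => by simp [e] at hj
    · rw [show (⟨0, hi⟩ : Fin n) = 0 from Fin.ext rfl, Pi.single_eq_same]
      exact one_ne_zero
  | succ i ih =>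
    intro hi
    obtain ⟨h1, h2⟩ := ih (by omega)
    rw [pow_succ', ← mulVec_mulVec]
    exact hY.step hi h1 h2

theorem pow_eval {n : ℕ} [NeZero n] (Y : Matrix (Fin n) (Fin n) F) :
    ∑ i ∈ Finset.range (n + 1), Y.charpoly.coeff i • ((Y ^ i) *ᵥ Pi.single 0 1) = 0 := by
  have h := aeval_self_charpoly Y
  rw [aeval_eq_sum_range, Matrix.charpoly_natDegree_eq_dim, Fintype.card_fin] at h
  have := congrArg (· *ᵥ (Pi.single 0 1 : Fin n → F)) h
  simpa only [sum_mulVec, smul_mulVec, zero_mulVec] using this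

/-- Changing the second row of a Hessenberg matrix changes the characteristic polynomial. -/
theorem inj {N : ℕ} (hN : 1 ≤ N) {Y : Matrix (Fin (N + 1)) (Fin (N + 1)) F} (hY : Hess Y)
    {w : Fin (N + 1) → F} (hw0 : w 0 = 0)
    (hc : (Y - vecMulVec (Pi.single (⟨1, by omega⟩ : Fin (N + 1)) (1 : F)) w).charpoly = Y.charpoly) :
    w = 0 := by
  classical
  set e1 : Fin (N + 1) → F := Pi.single ⟨1, by omega⟩ 1 with he1
  set Y' := Y - vecMulVec e1 w with hY'
  have hY'H : Hess Y' := by
    refine ⟨fun i j h => ?_, fun i j h => ?_⟩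
    · rw [hY', Matrix.sub_apply, vecMulVec_apply, hY.below i j h, he1, Pi.single_eq_of_ne, zero_mul,
        sub_zero]
      exact fun e => by simp [e] at h
    · rw [hY', Matrix.sub_apply, vecMulVec_apply]
      by_cases hj : (j : ℕ) = 0
      · rw [show j = 0 from Fin.ext hj, hw0, mul_zero, sub_zero]
        exact hY.sub i 0 (by simpa [hj] using h)
      · rw [he1, Pi.single_eq_of_ne, zero_mul, sub_zero]
        · exact hY.sub i j h
        · exact fun e => hj (by have e' := congrArg Fin.val e; simp only at e'; omega)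
  by_contra hne
  have hex : ∃ j, ∃ hj : j < N + 1, w ⟨j, hj⟩ ≠ 0 := by
    by_contra h
    push Not at h
    exact hne (funext fun i => h i i.2)
  obtain ⟨hjlt, hwj⟩ := Nat.find_spec hex
  set j := Nat.find hex with hjdef
  have hmin : ∀ i : Fin (N + 1), (i : ℕ) < j → w i = 0 := fun i hi => by
    by_contra h
    exact Nat.find_min hex hi ⟨i.2, h⟩
  have hj1 : 1 ≤ j := by
    rcases Nat.eq_zero_or_pos j with h | h
    · exfalso
      apply hwj
      rw [show (⟨j, hjlt⟩ : Fin (N + 1)) = 0 from Fin.ext h, hw0]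
    · exact h
  set e0 : Fin (N + 1) → F := Pi.single 0 1
  let δ : ℕ → Fin (N + 1) → F := fun i => (Y ^ i) *ᵥ e0 - (Y' ^ i) *ᵥ e0
  have hδ : ∀ i, δ (i + 1) = Y *ᵥ δ i + (w ⬝ᵥ ((Y' ^ i) *ᵥ e0)) • e1 := fun i => by
    simp only [δ, pow_succ', ← mulVec_mulVec, mulVec_sub]
    rw [show Y' *ᵥ (Y' ^ i *ᵥ e0) =
      Y *ᵥ (Y' ^ i *ᵥ e0) - (w ⬝ᵥ (Y' ^ i *ᵥ e0)) • e1 by
        rw [hY', sub_mulVec, vecMulVec_mulVec, op_smul_eq_smul]]
    abel
  have hzero : ∀ i, i ≤ j → δ i = 0 := by
    intro i
    induction i with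
    | zero => intro _; simp [δ]
    | succ i ih =>
      intro hi
      rw [hδ, ih (by omega), mulVec_zero, zero_add]
      convert zero_smul F e1 using 2
      refine Finset.sum_eq_zero fun k _ => ?_
      rcases le_or_gt (k : ℕ) i with h | h
      · rw [hmin k (by omega), zero_mul]
      · rw [(hY'H.krylov i (by omega)).1 k h, mul_zero]
  have hgrow : ∀ s, (hs : 1 + s < N + 1) →
      Low (1 + s) (δ (j + 1 + s)) ∧ δ (j + 1 + s) ⟨1 + s, hs⟩ ≠ 0 := by
    intro s
    induction s with
    | zero =>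
      intro hs
      have hdot : w ⬝ᵥ ((Y' ^ j) *ᵥ e0) =
          w ⟨j, hjlt⟩ * ((Y' ^ j) *ᵥ e0) ⟨j, hjlt⟩ := by
        refine Finset.sum_eq_single_of_mem _ (Finset.mem_univ _) fun k _ hk => ?_
        have hk' : (k : ℕ) ≠ j := fun e => hk (Fin.ext e)
        rcases le_or_gt (k : ℕ) j with h | h
        · rw [hmin k (by omega), zero_mul]
        · rw [(hY'H.krylov j hjlt).1 k h, mul_zero]
      show Low 1 (δ (j + 1)) ∧ δ (j + 1) ⟨1, hs⟩ ≠ 0
      rw [hδ, hzero j le_rfl, mulVec_zero, zero_add, hdot]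
      refine ⟨fun k hk => ?_, ?_⟩
      · rw [Pi.smul_apply, he1, Pi.single_eq_of_ne, smul_zero]
        exact fun e => by simp [e] at hk
      · rw [Pi.smul_apply, he1, Pi.single_eq_same, smul_eq_mul, mul_one]
        exact mul_ne_zero hwj (hY'H.krylov j hjlt).2
    | succ s ih =>
      intro hs
      obtain ⟨h1, h2⟩ := ih (by omega)
      obtain ⟨h3, h4⟩ := hY.step (k := 1 + s) (by omega) h1 h2
      have he : ∀ k : Fin (N + 1), 1 + s < k → e1 k = 0 := fun k hk => by
        rw [he1, Pi.single_eq_of_ne]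
        exact fun e => by simp [e] at hk
      rw [show j + 1 + (s + 1) = (j + 1 + s) + 1 by omega, hδ]
      refine ⟨fun k hk => ?_, ?_⟩
      · rw [Pi.add_apply, Pi.smul_apply, h3 k (by omega), he k (by omega), smul_zero, add_zero]
      · rw [Pi.add_apply, Pi.smul_apply, he ⟨1 + (s + 1), hs⟩ (by simp only; omega), smul_zero,
          add_zero]
        convert h4 using 3
        omega
  have hrel : ∑ i ∈ Finset.range (N + 1 + 1), Y.charpoly.coeff i • δ i = 0 := by
    simp only [δ, smul_sub, Finset.sum_sub_distrib]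
    have h2 := pow_eval Y'
    rw [hc] at h2
    rw [pow_eval Y, h2, sub_zero]
  obtain ⟨s, hs⟩ : ∃ s, j + 1 + s = N + 1 := ⟨N - j, by omega⟩
  have htop := congrFun hrel ⟨1 + s, by omega⟩
  rw [Finset.sum_apply, Finset.sum_eq_single_of_mem (N + 1) (Finset.mem_range.2 (by omega))] at htop
  · have hlead : Y.charpoly.coeff (N + 1) = 1 := by
      have := (charpoly_monic Y).coeff_natDegree
      rwa [charpoly_natDegree_eq_dim, Fintype.card_fin] at this
    rw [Pi.smul_apply, hlead, one_smul] at htop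
    refine (hgrow s (by omega)).2 ?_
    rw [congrArg δ hs]
    exact htop
  · intro i hi hne'
    rw [Finset.mem_range] at hi
    rw [Pi.smul_apply]
    rcases le_or_gt i j with h | h
    · rw [hzero i h, Pi.zero_apply, smul_zero]
    · obtain ⟨r, rfl⟩ := Nat.exists_eq_add_of_le h
      rw [(hgrow r (by omega)).1 _ (by simp only; omega), smul_zero]

theorem det_upper {N : ℕ} {M : Matrix (Fin N) (Fin N) F} (h : ∀ i j, j < i → M i j = 0) :
    M.det = ∏ i, M i i :=
  det_of_isUpperTriangular fun i j hij => h i j hij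

/-- A conjugate of a matrix with irreducible characteristic polynomial lowering the standard basis. -/
theorem exists_lowering {N : ℕ} {x : Matrix (Fin (N + 1)) (Fin (N + 1)) F}
    (hx : Irreducible x.charpoly) (hdet : x.det ≠ 0) :
    ∃ W Wi : Matrix (Fin (N + 1)) (Fin (N + 1)) F, W.charpoly = x.charpoly ∧ W * Wi = 1 ∧
      ∀ i j : Fin (N + 1), (j : ℕ) < N → Wi i j = if (i : ℕ) = (j : ℕ) + 1 then 1 else 0 := by
  classical
  set e0 : Fin (N + 1) → F := Pi.single 0 1
  have hind : ∀ p : F[X], p.natDegree < N + 1 → aeval x p *ᵥ e0 = 0 → p = 0 := by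
    intro p hp h0
    by_contra hne
    have hnd : ¬ x.charpoly ∣ p := fun h => by
      have := natDegree_le_of_dvd h hne
      rw [charpoly_natDegree_eq_dim, Fintype.card_fin] at this
      omega
    obtain ⟨a, b, hab⟩ := hx.coprime_iff_not_dvd.2 hnd
    have := congrArg (fun q : F[X] => aeval x q *ᵥ e0) hab
    simp only [map_add, map_mul, aeval_self_charpoly, mul_zero, zero_add, map_one, one_mulVec,
      ← mulVec_mulVec, h0, mulVec_zero] at this
    have := congrFun this 0
    simp [e0] at this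
  set K : Matrix (Fin (N + 1)) (Fin (N + 1)) F :=
    Matrix.of fun i j : Fin (N + 1) => ((x ^ (N - (j : ℕ))) *ᵥ e0) i with hK
  have hKu : IsUnit K := by
    rw [← mulVec_injective_iff_isUnit]
    rw [← Matrix.coe_mulVecLin, injective_iff_map_eq_zero]
    intro c hc
    set p : F[X] := ∑ j : Fin (N + 1), C (c j) * X ^ (N - (j : ℕ)) with hp
    have hp0 : p = 0 := by
      refine hind p ?_ ?_
      · refine lt_of_le_of_lt (natDegree_sum_le_of_forall_le _ _ (n := N) fun j _ => ?_) (Nat.lt_succ_self N)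
        exact (natDegree_C_mul_X_pow_le _ _).trans (Nat.sub_le _ _)
      · rw [hp, map_sum, sum_mulVec]
        simp only [map_mul, aeval_C, map_pow, aeval_X, Algebra.algebraMap_eq_smul_one,
          Matrix.smul_mul, one_mul, smul_mulVec]
        rw [← hc]
        funext i
        simp only [Finset.sum_apply, Pi.smul_apply, smul_eq_mul, mulVecLin_apply, mulVec, dotProduct,
          hK, Matrix.of_apply]
        exact Finset.sum_congr rfl fun j _ => mul_comm _ _
    funext j
    have := congrArg (fun q : F[X] => q.coeff (N - (j : ℕ))) hp0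
    simp only [hp, finsetSum_coeff, coeff_C_mul_X_pow, coeff_zero] at this
    rw [Finset.sum_eq_single_of_mem j (Finset.mem_univ _)] at this
    · simpa using this
    · intro k _ hk
      rw [if_neg]
      exact fun e => hk (Fin.ext (by omega))
  have hKd : IsUnit K.det := (isUnit_iff_isUnit_det K).1 hKu
  have hxd : IsUnit x.det := isUnit_iff_ne_zero.2 hdet
  refine ⟨K⁻¹ * x * K, K⁻¹ * x⁻¹ * K, ?_, ?_, ?_⟩
  · rw [charpoly_mul_comm, ← mul_assoc, mul_nonsing_inv _ hKd, one_mul]
  · calc K⁻¹ * x * K * (K⁻¹ * x⁻¹ * K) = K⁻¹ * (x * (K * K⁻¹) * x⁻¹) * K := by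
          simp only [mul_assoc]
      _ = 1 := by rw [mul_nonsing_inv _ hKd, mul_one, mul_nonsing_inv _ hxd, mul_one,
          nonsing_inv_mul _ hKd]
  · intro i j hj
    have hcol : (x⁻¹ * K).col j = K.col ⟨j + 1, by omega⟩ := by
      funext k
      show (x⁻¹ * K) k j = K k ⟨j + 1, by omega⟩
      rw [mul_apply]
      show (x⁻¹ *ᵥ ((x ^ (N - (j : ℕ))) *ᵥ e0)) k = ((x ^ (N - ((j : ℕ) + 1))) *ᵥ e0) k
      rw [mulVec_mulVec, show N - (j : ℕ) = (N - ((j : ℕ) + 1)) + 1 by omega, pow_succ', ← mul_assoc,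
        nonsing_inv_mul _ hxd, one_mul]
    have h1 : (K⁻¹ * x⁻¹ * K) i j = (K⁻¹ * K) i ⟨j + 1, by omega⟩ := by
      rw [mul_assoc, mul_apply, mul_apply]
      exact Finset.sum_congr rfl fun k _ => congrArg (K⁻¹ i k * ·) (congrFun hcol k)
    rw [h1, nonsing_inv_mul _ hKd, one_apply]
    exact if_congr Fin.ext_iff rfl rfl

variable [Finite F]

/-- An upper triangular matrix with simple first eigenvalue is a product of two matrices with the
characteristic polynomial of `x`. -/
theorem two_factors {N : ℕ} (hN : 1 ≤ N) {x : Matrix (Fin (N + 1)) (Fin (N + 1)) F}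
    (hx : Irreducible x.charpoly) (hdx : x.det ≠ 0) {M : Matrix (Fin (N + 1)) (Fin (N + 1)) F}
    (hM : ∀ i j, j < i → M i j = 0) (hdet : ∏ i, M i i = x.det ^ 2)
    (h0 : ∀ i, i ≠ 0 → M i i ≠ M 0 0) :
    ∃ P R : Matrix (Fin (N + 1)) (Fin (N + 1)) F, P.charpoly = x.charpoly ∧
      R.charpoly = x.charpoly ∧ P * R = M := by
  classical
  obtain ⟨W, Wi, hW, hWWi, hWi⟩ := exists_lowering hx hdx
  set e0 : Fin (N + 1) → F := Pi.single 0 1 with he0
  let Mu : (Fin N → F) → Matrix (Fin (N + 1)) (Fin (N + 1)) F :=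
    fun u => M + vecMulVec e0 (Fin.cons 0 u)
  have hMu : ∀ u i j, j < i → Mu u i j = 0 := fun u i j hij => by
    show M i j + e0 i * _ = 0
    rw [hM i j hij, he0, Pi.single_eq_of_ne (Fin.pos_iff_ne_zero.1 (lt_of_le_of_lt (Fin.zero_le j) hij)),
      zero_mul, add_zero]
  have hdiag : ∀ u i, Mu u i i = M i i := fun u i => by
    show M i i + e0 i * (Fin.cons 0 u : Fin (N + 1) → F) i = M i i
    rcases eq_or_ne i 0 with rfl | hi
    · rw [Fin.cons_zero, mul_zero, add_zero]
    · rw [he0, Pi.single_eq_of_ne hi, zero_mul, add_zero]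
  have hWcol : Wi *ᵥ e0 = Pi.single ⟨1, by omega⟩ 1 := by
    funext i
    rw [he0, mulVec_single_one, col_apply, hWi i 0 (by simp; omega), Pi.single_apply]
    exact if_congr (by simp [Fin.ext_iff]) rfl rfl
  have hess : ∀ u, Hess (Wi * Mu u) := fun u => by
    have hne : ∀ i, Mu u i i ≠ 0 := fun i => by
      rw [hdiag]
      have hp : ∏ i, M i i ≠ 0 := by rw [hdet]; exact pow_ne_zero _ hdx
      exact Finset.prod_ne_zero_iff.1 hp i (Finset.mem_univ _)
    refine ⟨fun i j h => ?_, fun i j h => ?_⟩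
    · rw [mul_apply]
      refine Finset.sum_eq_zero fun k _ => ?_
      rcases le_or_gt k j with hk | hk
      · have : (k : ℕ) ≤ j := hk
        rw [hWi i k (by omega), if_neg (by omega), zero_mul]
      · rw [hMu u k j hk, mul_zero]
    · rw [mul_apply, Finset.sum_eq_single_of_mem j (Finset.mem_univ _)]
      · rw [hWi i j (by omega), if_pos h.symm, one_mul]
        exact hne j
      · intro k _ hkj
        rcases le_or_gt k j with hk | hk
        · have : (k : ℕ) ≤ j := hk
          have : (k : ℕ) ≠ j := fun e => hkj (Fin.ext e)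
          rw [hWi i k (by omega), if_neg (by omega), zero_mul]
        · rw [hMu u k j hk, mul_zero]
  have hdY : ∀ u, (Wi * Mu u).det = x.det := fun u => by
    have hWd : W.det = x.det := by
      rw [det_eq_sign_charpoly_coeff, hW, ← det_eq_sign_charpoly_coeff]
    have h := congrArg Matrix.det hWWi
    rw [det_mul, det_one, hWd] at h
    rw [det_mul, det_upper (hMu u), Finset.prod_congr rfl fun i _ => hdiag u i, hdet, sq, ← mul_assoc,
      mul_comm Wi.det, h, one_mul]
  have hc0 : ∀ u, (Wi * Mu u).charpoly.coeff 0 = x.charpoly.coeff 0 := fun u => by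
    have h := hdY u
    rw [det_eq_sign_charpoly_coeff, det_eq_sign_charpoly_coeff] at h
    exact mul_left_cancel₀ (pow_ne_zero _ (neg_ne_zero.2 one_ne_zero)) h
  let Φ : (Fin N → F) → (Fin N → F) := fun u i => (Wi * Mu u).charpoly.coeff ((i : ℕ) + 1)
  have hext : ∀ p r : F[X], p.Monic → r.Monic → p.natDegree = N + 1 → r.natDegree = N + 1 →
      p.coeff 0 = r.coeff 0 → (∀ i : Fin N, p.coeff ((i : ℕ) + 1) = r.coeff ((i : ℕ) + 1)) → p = r := by
    intro p r hp hr hpd hrd h0 hi
    ext k
    rcases Nat.lt_or_ge N k with hk | hk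
    · rcases eq_or_lt_of_le (Nat.succ_le_of_lt hk) with rfl | hk'
      · rw [show N.succ = p.natDegree from hpd.symm, hp.coeff_natDegree, hpd, ← hrd, hr.coeff_natDegree]
      · rw [coeff_eq_zero_of_natDegree_lt (by omega), coeff_eq_zero_of_natDegree_lt (by omega)]
    · rcases k with _ | k
      · exact h0
      · exact hi ⟨k, by omega⟩
  have hΦ : Function.Injective Φ := by
    intro u u' huu
    have hcc : (Wi * Mu u').charpoly = (Wi * Mu u).charpoly :=
      hext _ _ (charpoly_monic _) (charpoly_monic _) (by simp) (by simp)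
        ((hc0 u').trans (hc0 u).symm) fun i => (congrFun huu i).symm
    have hdiff : Wi * Mu u' = Wi * Mu u -
        vecMulVec (Pi.single ⟨1, by omega⟩ 1) (Fin.cons 0 (u - u')) := by
      rw [← hWcol, ← mul_vecMulVec, ← mul_sub]
      congr 1
      ext i j
      show M i j + e0 i * _ = M i j + e0 i * _ - e0 i * _
      refine Fin.cases ?_ (fun k => ?_) j
      · simp
      · simp only [Fin.cons_succ, Pi.sub_apply]; ring
    have h := inj hN (hess u) (w := Fin.cons 0 (u - u')) (Fin.cons_zero _ _) (by rw [← hdiff, hcc])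
    funext i
    have := congrFun h i.succ
    rw [Fin.cons_succ, Pi.sub_apply, Pi.zero_apply, sub_eq_zero] at this
    exact this
  obtain ⟨u, hu⟩ := (Finite.injective_iff_surjective.1 hΦ) fun i => x.charpoly.coeff ((i : ℕ) + 1)
  have hY : (Wi * Mu u).charpoly = x.charpoly :=
    hext _ _ (charpoly_monic _) (charpoly_monic _) (by simp) (by simp) (hc0 u) (congrFun hu)
  -- straighten the first row
  set T : Matrix (Fin (N + 1)) (Fin (N + 1)) F := M - M 0 0 • 1 + vecMulVec e0 e0 with hT
  have hTup : ∀ i j, j < i → T i j = 0 := fun i j hij => by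
    have hi : i ≠ 0 := Fin.pos_iff_ne_zero.1 (lt_of_le_of_lt (Fin.zero_le j) hij)
    rw [hT, Matrix.add_apply, Matrix.sub_apply, Matrix.smul_apply, one_apply_ne hij.ne', vecMulVec_apply, he0,
      Pi.single_eq_of_ne hi, hM i j hij]
    simp
  have hTd : IsUnit T.det := by
    rw [isUnit_iff_ne_zero, det_upper hTup, Finset.prod_ne_zero_iff]
    intro i _
    rw [hT, Matrix.add_apply, Matrix.sub_apply, Matrix.smul_apply, one_apply_eq, vecMulVec_apply, he0]
    rcases eq_or_ne i 0 with rfl | hi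
    · simp
    · simp [Pi.single_eq_of_ne hi, sub_ne_zero.2 (h0 i hi)]
  set δ : Fin (N + 1) → F := Fin.cons 0 u with hδ
  set t := δ ᵥ* T⁻¹ with ht
  have htT : t ᵥ* T = δ := by rw [ht, vecMul_vecMul, nonsing_inv_mul _ hTd, vecMul_one]
  have ht0 : t 0 = 0 := by
    have := congrFun htT 0
    rw [vecMul, dotProduct, Finset.sum_eq_single_of_mem 0 (Finset.mem_univ _) (fun k _ hk => by
      rw [hTup k 0 (Fin.pos_iff_ne_zero.2 hk), mul_zero]), hδ, Fin.cons_zero, hT] at this
    simpa [he0, vecMulVec_apply] using this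
  have htM : t ᵥ* M = δ + M 0 0 • t := by
    have hvv : t ᵥ* vecMulVec e0 e0 = 0 := by
      rw [vecMul_vecMulVec, show t ⬝ᵥ e0 = 0 by rw [he0, dotProduct_single, ht0, zero_mul], zero_smul]
    rw [hT, vecMul_add, vecMul_sub, hvv, add_zero, vecMul_smul, vecMul_one, sub_eq_iff_eq_add] at htT
    exact htT
  set h : Matrix (Fin (N + 1)) (Fin (N + 1)) F := 1 + vecMulVec e0 t
  have hMe : M *ᵥ e0 = M 0 0 • e0 := by
    funext i
    rw [he0, mulVec_single_one, col_apply, Pi.smul_apply]
    rcases eq_or_ne i 0 with rfl | hi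
    · simp
    · rw [Pi.single_eq_of_ne hi, smul_zero, hM i 0 (Fin.pos_iff_ne_zero.2 hi)]
  have hcomm : h * M = Mu u * h := by
    show (1 + vecMulVec e0 t) * M = (M + vecMulVec e0 δ) * (1 + vecMulVec e0 t)
    rw [add_mul, one_mul, vecMulVec_mul, htM, add_mul, mul_add, mul_one, mul_vecMulVec, hMe, mul_add,
      mul_one, vecMulVec_mul_vecMulVec, show δ ⬝ᵥ e0 = 0 by
        rw [he0, dotProduct_single, hδ, Fin.cons_zero, zero_mul]]
    ext i j
    simp [vecMulVec_apply]
    ring
  have hd : IsUnit h.det := by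
    rw [isUnit_iff_ne_zero, det_upper fun i j hij => ?_, Finset.prod_ne_zero_iff]
    · intro i _
      show (1 + vecMulVec e0 t) i i ≠ 0
      rw [Matrix.add_apply, one_apply_eq, vecMulVec_apply, he0]
      rcases eq_or_ne i 0 with rfl | hi
      · simp [ht0]
      · simp [Pi.single_eq_of_ne hi]
    · show (1 + vecMulVec e0 t) i j = 0
      rw [Matrix.add_apply, one_apply_ne hij.ne', vecMulVec_apply, he0,
        Pi.single_eq_of_ne (Fin.pos_iff_ne_zero.1 (lt_of_le_of_lt (Fin.zero_le j) hij)), zero_mul,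
        add_zero]
  refine ⟨h⁻¹ * W * h, h⁻¹ * (Wi * Mu u) * h, ?_, ?_, ?_⟩
  · rw [charpoly_mul_comm, ← mul_assoc, mul_nonsing_inv _ hd, one_mul, hW]
  · rw [charpoly_mul_comm, ← mul_assoc, mul_nonsing_inv _ hd, one_mul, hY]
  · calc h⁻¹ * W * h * (h⁻¹ * (Wi * Mu u) * h) = h⁻¹ * (W * (h * h⁻¹) * Wi) * (Mu u * h) := by
          simp only [mul_assoc]
      _ = M := by rw [mul_nonsing_inv _ hd, mul_one, hWWi, mul_one, ← hcomm, ← mul_assoc,
          nonsing_inv_mul _ hd, one_mul]

/-- A first entry different from all the others, with prescribed product. -/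
theorem exists_diag [Fintype F] (hq : 4 ≤ Fintype.card F) {N : ℕ} (hN : 2 ≤ N) {P : F} (hP : P ≠ 0) :
    ∃ a : Fin (N + 1) → F, (∀ i, a i ≠ 0) ∧ (∀ i, i ≠ 0 → a i ≠ a 0) ∧ ∏ i, a i = P := by
  classical
  obtain ⟨M, rfl⟩ : ∃ M, N = M + 2 := ⟨N - 2, by omega⟩
  obtain ⟨c, hc0, hc1⟩ : ∃ c : F, c ≠ 0 ∧ c ≠ 1 := by
    by_contra h
    push Not at h
    have : Fintype.card F ≤ ({0, 1} : Finset F).card := Finset.card_le_card fun z _ => by
      by_cases hz : z = 0
      · simp [hz]
      · simp [h z hz]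
    have := this.trans Finset.card_le_two
    omega
  set Q := P / c ^ M
  have hQ : Q ≠ 0 := div_ne_zero hP (pow_ne_zero _ hc0)
  obtain ⟨s, hs0, hs1, hsQ⟩ : ∃ s : F, s ≠ 0 ∧ s ≠ 1 ∧ Q / s ≠ 1 := by
    by_contra h
    push Not at h
    have : Fintype.card F ≤ ({0, 1, Q} : Finset F).card := Finset.card_le_card fun z _ => by
      by_cases h0 : z = 0
      · simp [h0]
      by_cases h1 : z = 1
      · simp [h1]
      have := (div_eq_one_iff_eq h0).1 (h z h0 h1)
      simp [this]
    have := this.trans Finset.card_le_three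
    omega
  refine ⟨Fin.cons 1 (Fin.cons s (Fin.cons (Q / s) fun _ => c)), ?_, ?_, ?_⟩
  · intro i
    refine Fin.cases ?_ (fun i => Fin.cases ?_ (fun i => Fin.cases ?_ (fun i => ?_) i) i) i <;>
      simp only [Fin.cons_zero, Fin.cons_succ] <;> simp [hs0, hQ, hc0]
  · intro i
    refine Fin.cases ?_ (fun i => Fin.cases ?_ (fun i => Fin.cases ?_ (fun i => ?_) i) i) i <;>
      simp only [Fin.cons_zero, Fin.cons_succ] <;> simp [hs1, hsQ, hc1]
  · simp only [Fin.prod_univ_succ, Fin.cons_zero, Fin.cons_succ, Finset.prod_const, Finset.card_univ,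
      Fintype.card_fin, one_mul]
    rw [← mul_assoc, mul_div_cancel₀ _ hs0, div_mul_cancel₀ _ (pow_ne_zero _ hc0)]

/-- Four factors. -/
theorem four_factors {N : ℕ} (hN : 2 ≤ N)
    {x : Matrix (Fin (N + 1)) (Fin (N + 1)) F} (hx : Irreducible x.charpoly) (hdx : x.det ≠ 0)
    {L U : Matrix (Fin (N + 1)) (Fin (N + 1)) F} (hL : ∀ i j, i < j → L i j = 0)
    (hU : ∀ i j, j < i → U i j = 0) (hLd : ∏ i, L i i = x.det ^ 2) (hUd : ∏ i, U i i = x.det ^ 2)
    (hL0 : ∀ i, i ≠ 0 → L i i ≠ L 0 0) (hU0 : ∀ i, i ≠ 0 → U i i ≠ U 0 0) :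
    ∃ y : List (Matrix (Fin (N + 1)) (Fin (N + 1)) F), y.length = 4 ∧
      (∀ a ∈ y, a.charpoly = x.charpoly) ∧ y.prod = L * U := by
  obtain ⟨P, R, hP, hR, hPR⟩ := two_factors (by omega) hx hdx (M := Lᵀ)
    (fun i j hij => hL j i hij) hLd hL0
  obtain ⟨P', R', hP', hR', hPR'⟩ := two_factors (by omega) hx hdx (M := U) hU hUd hU0
  refine ⟨[Rᵀ, Pᵀ, P', R'], rfl, ?_, ?_⟩
  · intro a ha
    simp only [List.mem_cons, List.not_mem_nil, or_false] at ha
    rcases ha with rfl | rfl | rfl | rfl
    · rw [charpoly_transpose, hR]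
    · rw [charpoly_transpose, hP]
    · exact hP'
    · exact hR'
  · simp only [List.prod_cons, List.prod_nil, mul_one]
    rw [← mul_assoc, ← transpose_mul, hPR, transpose_transpose, hPR']

theorem forall₂_replicate {N : ℕ} {x : Matrix (Fin N) (Fin N) F} :
    ∀ y : List (Matrix (Fin N) (Fin N) F), (∀ a ∈ y, Orb x a) →
      List.Forall₂ Orb (List.replicate y.length x) y
  | [], _ => List.Forall₂.nil
  | a :: y, h => List.Forall₂.cons (h a List.mem_cons_self)
      (forall₂_replicate y fun b hb => h b (List.mem_cons_of_mem a hb))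

/-- The irreducible case in degree at least four, from the forms and conjugacy lemmas. -/
theorem inProd_irreducible_big_of [Fintype F] (hq : 4 ≤ Fintype.card F) {n : ℕ} (hn : 4 ≤ n)
    {x : Matrix (Fin n) (Fin n) F} (hx : Irreducible x.charpoly)
    (hLU : ∀ {g : Matrix (Fin n) (Fin n) F}, ¬ IsScalarMat g → g.det ≠ 0 →
      ∀ d : Fin n → F, ∏ i, d i = g.det → ∃ L U : Matrix (Fin n) (Fin n) F, Orb g (L * U) ∧
        (∀ i j, i < j → L i j = 0) ∧ (∀ i, L i i = 1) ∧ (∀ i j, j < i → U i j = 0) ∧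
        (∀ i, U i i = d i))
    (hOrb : ∀ y : Matrix (Fin n) (Fin n) F, y.charpoly = x.charpoly → Orb x y)
    {m : ℕ} (hm : 4 ≤ m) {g : Matrix (Fin n) (Fin n) F} (hdet : g.det = x.det ^ m) :
    InProd (List.replicate m x) g := by
  classical
  obtain ⟨N, rfl⟩ : ∃ N, n = N + 1 := ⟨n - 1, by omega⟩
  have hdx : x.det ≠ 0 := by
    intro h0
    rw [det_eq_sign_charpoly_coeff, mul_eq_zero] at h0
    have h1 : x.charpoly.coeff 0 = 0 := h0.resolve_left (pow_ne_zero _ (neg_ne_zero.2 one_ne_zero))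
    have hd := degree_eq_one_of_irreducible_of_root hx (x := 0)
      (by rw [IsRoot, ← coeff_zero_eq_eval_zero, h1])
    rw [charpoly_degree_eq_dim, Fintype.card_fin] at hd
    have : N + 1 = 1 := by exact_mod_cast hd
    omega
  obtain ⟨r, rfl⟩ : ∃ r, m = r + 4 := ⟨m - 4, by omega⟩
  -- the first factors are the given element
  set g' := x⁻¹ ^ r * g with hg'
  have hg'd : g'.det = x.det ^ 4 := by
    rw [hg', det_mul, det_pow, det_nonsing_inv, Ring.inverse_eq_inv', hdet, pow_add, ← mul_assoc,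
      ← mul_pow, inv_mul_cancel₀ hdx, one_pow, one_mul]
  have key : InProd (List.replicate 4 x) g' := by
    obtain ⟨a, ha0, haa, hap⟩ := exists_diag hq (show 2 ≤ N by omega) (pow_ne_zero 2 hdx)
    by_cases hs : IsScalarMat g'
    · obtain ⟨μ, hμ⟩ := hs
      rw [hμ] at hg'd
      rw [det_smul, det_one, mul_one, Fintype.card_fin] at hg'd
      have hμ0 : μ ≠ 0 := fun e => pow_ne_zero 4 hdx (by rw [← hg'd, e, zero_pow (Nat.succ_ne_zero _)])
      obtain ⟨y, hy4, hyc, hyp⟩ := four_factors (by omega) hx hdx (L := diagonal a)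
        (U := diagonal fun i => μ / a i) (fun i j h => diagonal_apply_ne _ h.ne)
        (fun i j h => diagonal_apply_ne _ h.ne') (by simpa using hap)
        (by
          simp only [diagonal_apply_eq]
          rw [Finset.prod_div_distrib, Finset.prod_const, Finset.card_univ, Fintype.card_fin, hap,
            hg'd]
          field_simp)
        (fun i hi => by simpa using haa i hi)
        (fun i hi => by
          simp only [diagonal_apply_eq, ne_eq]
          intro e
          exact haa i hi (by field_simp [ha0 i, ha0 0, hμ0] at e; exact e.symm))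
      refine ⟨y, hy4 ▸ forall₂_replicate y fun b hb => hOrb b (hyc b hb), ?_⟩
      rw [hyp, hμ, diagonal_mul_diagonal, ← diagonal_one, ← diagonal_smul]
      congr 1
      funext i
      rw [Pi.smul_apply, smul_eq_mul, mul_one, mul_div_cancel₀ _ (ha0 i)]
    · obtain ⟨L, U, horb, hL, hL1, hU, hUd⟩ := hLU hs (by rw [hg'd]; exact pow_ne_zero _ hdx)
        (fun i => a i * a i) (by rw [Finset.prod_mul_distrib, hap, hg'd]; ring)
      set D := diagonal a
      set Di := diagonal fun i => (a i)⁻¹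
      have hDD : D * Di = 1 := by
        rw [diagonal_mul_diagonal, ← diagonal_one]
        congr 1
        funext i
        exact mul_inv_cancel₀ (ha0 i)
      have hLdiag : ∀ i, (L * D) i i = a i := fun i => by rw [mul_diagonal, hL1, one_mul]
      have hUdiag : ∀ i, (Di * U) i i = a i := fun i => by
        rw [diagonal_mul, hUd, inv_mul_cancel_left₀ (ha0 i)]
      obtain ⟨y, hy4, hyc, hyp⟩ := four_factors (by omega) hx hdx (L := L * D) (U := Di * U)
        (fun i j h => by rw [mul_diagonal, hL i j h, zero_mul])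
        (fun i j h => by rw [diagonal_mul, hU i j h, mul_zero])
        (by rw [Finset.prod_congr rfl fun i _ => hLdiag i, hap])
        (by rw [Finset.prod_congr rfl fun i _ => hUdiag i, hap])
        (fun i hi => by rw [hLdiag, hLdiag]; exact haa i hi)
        (fun i hi => by rw [hUdiag, hUdiag]; exact haa i hi)
      refine InProd.conj ⟨y, hy4 ▸ forall₂_replicate y fun b hb => hOrb b (hyc b hb), ?_⟩ horb.symm
      rw [hyp, mul_assoc, ← mul_assoc D, hDD, one_mul]
  obtain ⟨y, hy, hyp⟩ := key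
  refine ⟨List.replicate r x ++ y, ?_, ?_⟩
  · rw [List.replicate_add]
    refine List.rel_append ?_ hy
    exact List.forall₂_same.2 fun b _ => Orb.refl b
  · rw [List.prod_append, hyp, List.prod_replicate, hg', ← mul_assoc, ← (Commute.mul_pow ?_ r),
      mul_nonsing_inv _ (isUnit_iff_ne_zero.2 hdx), one_pow, one_mul]
    show x * x⁻¹ = x⁻¹ * x
    rw [mul_nonsing_inv _ (isUnit_iff_ne_zero.2 hdx), nonsing_inv_mul _ (isUnit_iff_ne_zero.2 hdx)]

end IrredBig

end CfsgLib.Lev
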