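import Cfsg.Agent.Lib.Lev.IrredBig
import Cfsg.Agent.Lib.Lev.Forms
import Cfsg.Agent.Lib.Lev.IrredOrb

/-!
Covering number of `PSL n q` (Lev): the irreducible case in degree at least four.
-/

set_option autoImplicit false

namespace CfsgLib.Lev

open Matrix

variable {F : Type*} [Field F] [Fintype F]

/-- Every element of the right determinant is a product of `m ≥ 4` conjugates of an element with
irreducible characteristic polynomial of degree at least four. -/
theorem inProd_irreducible_big (hq : 4 ≤ Fintype.card F) {n : ℕ} (hn : 4 ≤ n)
    {x : Matrix (Fin n) (Fin n) F} (hx : Irreducible x.charpoly) {m : ℕ} (hm : 4 ≤ m)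
    {g : Matrix (Fin n) (Fin n) F} (hdet : g.det = x.det ^ m) :
    InProd (List.replicate m x) g :=
  IrredBig.inProd_irreducible_big_of hq hn hx exists_lu (fun _ h => orb_of_irreducible hx h) hm hdet

end CfsgLib.Lev
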