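import Cfsg.Agent.Lib.Lev.IrredAux
import Cfsg.Agent.Lib.Lev.IrredOrb
import Mathlib.LinearAlgebra.Matrix.Charpoly.FiniteField
import Mathlib.LinearAlgebra.Matrix.Notation
import Mathlib.Algebra.Polynomial.SpecificDegree

/-!
Covering number of `PSL n q` (Lev): powers of a class with irreducible characteristic polynomial in
dimensions two and three. Cyclic targets are reached by companion matrices, the others are scalar plus
rank one and are reached through a rank one change of a companion matrix.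
-/

set_option autoImplicit false
set_option linter.style.haveILetI false
set_option linter.unusedSectionVars false
set_option linter.unusedVariables false
set_option linter.unusedSimpArgs false
set_option maxHeartbeats 1000000

namespace CfsgLib.Lev

open Matrix Polynomial

variable {F : Type*} [Field F]

section

variable {n : ℕ}

/-- An irreducible characteristic polynomial has no root. -/
theorem noEigen_of_irreducible {x : Matrix (Fin n) (Fin n) F} (hn : 2 ≤ n) (hx : Irreducible x.charpoly) :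
    NoEigen x := by
  rw [noEigen_iff]
  intro c hc
  exact hx.not_isRoot_of_natDegree_ne_one (by rw [charpoly_natDegree_eq_dim, Fintype.card_fin]; omega) hc

/-- In dimensions two and three, no eigenvalue means irreducible. -/
theorem irreducible_of_noEigen {x : Matrix (Fin n) (Fin n) F} (hn : n = 2 ∨ n = 3) (hx : NoEigen x) :
    Irreducible x.charpoly := by
  rw [Polynomial.Monic.irreducible_iff_roots_eq_zero_of_degree_le_three (charpoly_monic x)
    (by rw [charpoly_natDegree_eq_dim, Fintype.card_fin]; omega)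
    (by rw [charpoly_natDegree_eq_dim, Fintype.card_fin]; omega)]
  refine Multiset.eq_zero_of_forall_notMem fun c hc => noEigen_iff.1 hx c ?_
  exact (Polynomial.mem_roots (charpoly_monic x).ne_zero).1 hc

theorem det_ne_zero_of_noEigen {x : Matrix (Fin n) (Fin n) F} (hx : NoEigen x) : x.det ≠ 0 := by
  simpa using hx 0

theorem noEigen_inv {x : Matrix (Fin n) (Fin n) F} (hn : 0 < n) (hx : NoEigen x) : NoEigen x⁻¹ := by
  intro c hc
  have hd := det_ne_zero_of_noEigen hx
  have h : (x * (x⁻¹ - c • 1)).det = 0 := by rw [det_mul, hc, mul_zero]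
  rw [mul_sub, mul_nonsing_inv _ (isUnit_iff_ne_zero.2 hd), Matrix.mul_smul, mul_one] at h
  haveI : Nonempty (Fin n) := ⟨⟨0, hn⟩⟩
  by_cases hc0 : c = 0
  · rw [hc0, zero_smul, sub_zero, det_one] at h; exact one_ne_zero h
  · rw [show (1 : Matrix (Fin n) (Fin n) F) - c • x = (-c) • (x - c⁻¹ • 1) by
      rw [smul_sub, smul_smul, neg_mul, mul_inv_cancel₀ hc0, neg_smul, neg_smul, one_smul]; abel,
      det_smul] at h
    exact hx c⁻¹ ((mul_eq_zero.1 h).resolve_left (pow_ne_zero _ (neg_ne_zero.2 hc0)))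

theorem inProd_append {ι : Type*} [Fintype ι] [DecidableEq ι] {l l' : List (Matrix ι ι F)}
    {g g' : Matrix ι ι F} (h : InProd l g) (h' : InProd l' g') : InProd (l ++ l') (g * g') := by
  obtain ⟨y, h1, h2⟩ := h
  obtain ⟨y', h1', h2'⟩ := h'
  exact ⟨y ++ y', List.rel_append h1 h1', by rw [List.prod_append, h2, h2']⟩

variable [Fintype F] {x : Matrix (Fin n) (Fin n) F}

theorem inProd_single (hx : Irreducible x.charpoly) {y : Matrix (Fin n) (Fin n) F}
    (hy : y.charpoly = x.charpoly) : InProd [x] y :=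
  ⟨[y], List.Forall₂.cons (orb_of_irreducible hx hy) List.Forall₂.nil, by simp⟩

theorem inProd_succ_irred (hx : Irreducible x.charpoly) {m : ℕ} {g y : Matrix (Fin n) (Fin n) F}
    (h : InProd (List.replicate m x) g) (hy : y.charpoly = x.charpoly) :
    InProd (List.replicate (m + 1) x) (g * y) := by
  rw [List.replicate_succ']
  exact inProd_append h (inProd_single hx hy)

/-- Powers of an irreducible class are invariant under conjugation. -/
theorem inProd_glConj (hx : Irreducible x.charpoly) {m : ℕ} {g g' : Matrix (Fin n) (Fin n) F}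
    (h : InProd (List.replicate m x) g) (hg : GLConj g g') : InProd (List.replicate m x) g' := by
  obtain ⟨P, hP, he⟩ := hg
  have hu : IsUnit P.det := isUnit_iff_ne_zero.2 hP
  have key : ∀ (m : ℕ) (y : List (Matrix (Fin n) (Fin n) F)), List.Forall₂ Orb (List.replicate m x) y →
      InProd (List.replicate m x) (P * y.prod * P⁻¹) := by
    intro m
    induction m with
    | zero =>
        intro y hy
        rw [List.replicate_zero, List.forall₂_nil_left_iff] at hy
        subst hy
        exact ⟨[], List.Forall₂.nil, by simp [mul_nonsing_inv _ hu]⟩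
    | succ m ih =>
        intro y hy
        rw [List.replicate_succ, List.forall₂_cons_left_iff] at hy
        obtain ⟨a, t, ha, ht, rfl⟩ := hy
        rw [List.replicate_succ, List.prod_cons, show P * (a * t.prod) * P⁻¹ = (P * a * P⁻¹) * (P * t.prod * P⁻¹) by
          simp only [← mul_assoc]; rw [mul_assoc (P * a) P⁻¹ P, nonsing_inv_mul _ hu, mul_one]]
        refine inProd_append (l := [x]) (inProd_single hx ?_) (ih t ht)
        obtain ⟨k, kd, ke⟩ := ha
        refine (GLConj.charpoly_eq ⟨P * k, by rw [det_mul, kd, mul_one]; exact hP, ?_⟩)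
        rw [mul_assoc, ke, ← mul_assoc, mul_assoc (P * a) P⁻¹, ← mul_assoc P⁻¹, nonsing_inv_mul _ hu, one_mul]
  obtain ⟨y, h1, h2⟩ := h
  have := key m y h1
  rwa [h2, ← GLConj.eq_conj hP he] at this

end

/-! ### Dimension two -/

theorem quad_ne {x : Matrix (Fin 2) (Fin 2) F} (hx : NoEigen x) (r : F) :
    r * r - x.trace * r + x.det ≠ 0 := by
  intro h
  refine noEigen_iff.1 hx r ?_
  rw [charpoly_fin_two]
  simp
  linear_combination h

variable [Fintype F]

theorem disc_ne {τ δ : F} (h : ∀ r : F, r * r - τ * r + δ ≠ 0) : τ ^ 2 - 4 * δ ≠ 0 := by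
  intro h0
  by_cases h2 : (2 : F) = 0
  · have hτ : τ = 0 := pow_eq_zero_iff (n := 2) (by omega) |>.1 (by linear_combination h0 + 2 * δ * h2)
    obtain ⟨r, hr⟩ := FiniteField.isSquare_of_char_two ((CharP.ringChar_of_prime_eq_zero Nat.prime_two
      (by exact_mod_cast h2))) δ
    exact h r (by rw [hτ, hr]; linear_combination r * r * h2)
  · refine h (τ / 2) ?_
    field_simp
    linear_combination -h0

/-- A matrix with prescribed determinant and trace and prescribed trace after multiplying by `A`. -/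
theorem exists_trace {A : Matrix (Fin 2) (Fin 2) F} (hA : NoEigen A) (d t v : F) :
    ∃ G : Matrix (Fin 2) (Fin 2) F, G.det = d ∧ G.trace = t ∧ (G * A).trace = v := by
  classical
  have hq := quad_ne hA
  obtain ⟨τ, hτ⟩ : ∃ τ, τ = A.trace := ⟨_, rfl⟩
  obtain ⟨δ, hδ⟩ : ∃ δ, δ = A.det := ⟨_, rfl⟩
  rw [← hτ, ← hδ] at hq
  have hAs : ¬ IsScalarMat A := by
    rintro ⟨c, rfl⟩
    exact hA c (by simp)
  -- the norm form takes every value
  have hnorm : ∀ κ : F, ∃ e c : F, e * e - τ * e * c + δ * (c * c) = κ := by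
    intro κ
    have hirr : Irreducible (comp2 τ δ).charpoly := irreducible_of_noEigen (Or.inl rfl) (noEigen_iff.2 fun r hr => by
      rw [charpoly_fin_two, trace_comp2, det_comp2] at hr
      simp at hr
      exact hq r (by linear_combination hr))
    haveI : Fact (Irreducible (comp2 τ δ).charpoly) := ⟨hirr⟩
    obtain ⟨Φ, Ψ, hr, -, hd⟩ := exists_field_rep (comp2 τ δ) rfl
    haveI : Module.Finite F (AdjoinRoot (comp2 τ δ).charpoly) :=
      (AdjoinRoot.powerBasis (charpoly_monic _).ne_zero).finite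
    haveI : Finite (AdjoinRoot (comp2 τ δ).charpoly) := Module.finite_of_finite F
    obtain ⟨k, hk⟩ := FiniteField.norm_surjective F (AdjoinRoot (comp2 τ δ).charpoly) κ
    set G := Φ k
    have hcom : G * comp2 τ δ = comp2 τ δ * G := by rw [← hr, ← map_mul, ← map_mul, mul_comm]
    have h00 := congrFun (congrFun hcom 0) 0
    have h10 := congrFun (congrFun hcom 1) 0
    simp [comp2, Matrix.mul_apply, Fin.sum_univ_two] at h00 h10
    refine ⟨G 1 1, G 1 0, ?_⟩
    rw [← hk, ← hd, Matrix.det_fin_two]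
    linear_combination G 1 0 * h00 + G 1 1 * h10
  have hD : 4 * δ - τ ^ 2 ≠ 0 := fun h => disc_ne hq (by linear_combination -h)
  set α := (2 * δ * t - τ * v) / (4 * δ - τ ^ 2) with hα
  set β := (τ * t - 2 * v) / (4 * δ - τ ^ 2) with hβ
  have ha' : α * (4 * δ - τ ^ 2) = 2 * δ * t - τ * v := by rw [hα, div_mul_cancel₀ _ hD]
  have hb' : β * (4 * δ - τ ^ 2) = τ * t - 2 * v := by rw [hβ, div_mul_cancel₀ _ hD]
  have g1 : 2 * α - τ * β - t = 0 :=
    mul_right_cancel₀ hD (by linear_combination 2 * ha' - τ * hb')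
  have g2 : -τ * α + 2 * δ * β + v = 0 :=
    mul_right_cancel₀ hD (by linear_combination -τ * ha' + 2 * δ * hb')
  obtain ⟨x, y, hxy⟩ := hnorm (-(α * α - τ * α * β + δ * (β * β) - t * α + v * β + d))
  set e := x + α with he
  set c := y + β with hc
  have heq : e * e - τ * e * c + δ * (c * c) - t * e + v * c + d = 0 := by
    rw [he, hc]; linear_combination hxy + x * g1 + y * g2
  obtain ⟨P, hP, hPA⟩ := glConj_comp2 hAs
  rw [← hτ, ← hδ] at hPA
  have hu : IsUnit P.det := isUnit_iff_ne_zero.2 hP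
  set G0 : Matrix (Fin 2) (Fin 2) F := !![t - e, v + δ * c - τ * e; c, e] with hG0
  have hconj : GLConj G0 (P * G0 * P⁻¹) :=
    ⟨P, hP, by rw [mul_assoc, nonsing_inv_mul _ hu, mul_one]⟩
  have hconjA : GLConj (G0 * comp2 τ δ) (P * G0 * P⁻¹ * A) := by
    refine ⟨P, hP, ?_⟩
    rw [mul_assoc (P * G0 * P⁻¹), ← hPA, ← mul_assoc (P * G0 * P⁻¹), mul_assoc (P * G0) P⁻¹,
      nonsing_inv_mul _ hu, mul_one, mul_assoc]
  refine ⟨P * G0 * P⁻¹, ?_, ?_, ?_⟩
  · rw [hconj.det_eq, hG0, Matrix.det_fin_two_of]; linear_combination -heq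
  · rw [hconj.trace_eq, hG0, Matrix.trace_fin_two]; simp
  · rw [hconjA.trace_eq]
    simp [hG0, comp2, Matrix.trace_fin_two, Matrix.mul_apply, Fin.sum_univ_two]; ring

/-- Two factors, no double eigenvalue. -/
theorem inProd_two_two {x : Matrix (Fin 2) (Fin 2) F} (hx : Irreducible x.charpoly)
    {g : Matrix (Fin 2) (Fin 2) F} (hdet : g.det = x.det ^ 2) (hg : g.trace ^ 2 ≠ 4 * g.det) :
    InProd (List.replicate 2 x) g := by
  have hxe := noEigen_of_irreducible le_rfl hx
  obtain ⟨G, hd, ht, hv⟩ := exists_trace hxe x.det x.trace g.trace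
  have hGc : G.charpoly = x.charpoly := by rw [charpoly_fin_two, charpoly_fin_two, hd, ht]
  have hns : ¬ IsScalarMat g := by
    rintro ⟨c, rfl⟩
    exact hg (by simp [Matrix.det_fin_two, Matrix.trace_fin_two]; ring)
  have hns' : ¬ IsScalarMat (G * x) := by
    rintro ⟨c, hc⟩
    refine hg ?_
    rw [← hv, hdet, sq x.det, hc]
    rw [show x.det * x.det = (G * x).det by rw [det_mul, hd], hc]
    simp [Matrix.det_fin_two, Matrix.trace_fin_two]; ring
  refine inProd_glConj hx (g := G * x) ?_ (glConj_two hns' hns hv (by rw [det_mul, hd, hdet, sq]))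
  exact inProd_succ_irred hx (m := 1) (inProd_single hx hGc) rfl

/-- More than two factors. -/
theorem inProd_two_many (hq : 4 ≤ Fintype.card F) {x : Matrix (Fin 2) (Fin 2) F}
    (hx : Irreducible x.charpoly) : ∀ (m : ℕ), 2 ≤ m → ∀ g : Matrix (Fin 2) (Fin 2) F, g.det = x.det ^ m →
      (2 < m ∨ g.trace ^ 2 ≠ 4 * g.det) → InProd (List.replicate m x) g := by
  classical
  have hxe := noEigen_of_irreducible le_rfl hx
  have hD := det_ne_zero_of_noEigen hxe
  have hdisc := disc_ne (quad_ne hxe)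
  intro m hm
  induction m, hm using Nat.le_induction with
  | base =>
      intro g hdet h
      exact inProd_two_two hx hdet (h.resolve_left (lt_irrefl _))
  | succ m hm ih =>
      intro g hdet _
      have hinv : x⁻¹ = x.det⁻¹ • x.adjugate := by rw [Matrix.inv_def, Ring.inverse_eq_inv']
      have htr : x.adjugate.trace = x.trace := by
        simp [Matrix.adjugate_fin_two, Matrix.trace_fin_two, add_comm]
      have hdadj : x.adjugate.det = x.det := by
        simp [Matrix.adjugate_fin_two, Matrix.det_fin_two]; ring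
      have hu : IsUnit x.det := isUnit_iff_ne_zero.2 hD
      -- enough: a conjugate of g times the inverse of x has no double eigenvalue
      suffices h : ∃ G, GLConj G g ∧ (G * x⁻¹).trace ^ 2 ≠ 4 * (G * x⁻¹).det by
        obtain ⟨G, hG, hG'⟩ := h
        have hdG : (G * x⁻¹).det = x.det ^ m := by
          rw [det_mul, det_nonsing_inv, Ring.inverse_eq_inv', ← hG.det_eq, hdet, pow_succ,
            mul_assoc, mul_inv_cancel₀ hD, mul_one]
        have := inProd_succ_irred hx (ih _ hdG (Or.inr hG')) (y := x) rfl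
        rw [mul_assoc, nonsing_inv_mul _ hu, mul_one] at this
        exact inProd_glConj hx this hG
      by_cases hs : IsScalarMat g
      · refine ⟨g, ⟨1, by simp, by simp⟩, ?_⟩
        obtain ⟨c, rfl⟩ := hs
        have hc : c ≠ 0 := by
          rintro rfl
          simp at hdet
          exact pow_ne_zero _ hD hdet.symm
        rw [Matrix.smul_mul, one_mul, hinv, smul_smul, trace_smul, det_smul, htr, hdadj, smul_eq_mul,
          Fintype.card_fin]
        intro h
        have h' : (c * x.det⁻¹) ^ 2 * (x.trace ^ 2 - 4 * x.det) = 0 := by linear_combination h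
        rcases mul_eq_zero.1 h' with h' | h'
        · exact mul_ne_zero hc (inv_ne_zero hD) (pow_eq_zero_iff (n := 2) (by omega) |>.1 h')
        · exact hdisc h'
      · obtain ⟨w, hw⟩ : ∃ w : F, ∀ v : F, v ^ 2 = 4 * (x.det * g.det) → v = w ∨ v = -w := by
          by_cases hl : ∃ l : F, l ^ 2 = 4 * (x.det * g.det)
          · obtain ⟨l, hl⟩ := hl
            exact ⟨l, fun v hv => sq_eq_sq_iff_eq_or_eq_neg.1 (hv.trans hl.symm)⟩
          · exact ⟨0, fun v hv => absurd ⟨v, hv⟩ hl⟩
        obtain ⟨a0, ha0⟩ : ∃ a0 : F, ∀ a : F, a * a = g.det → 2 * a = g.trace → a = a0 := by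
          by_cases hl : ∃ a : F, a * a = g.det ∧ 2 * a = g.trace
          · obtain ⟨l, hl1, hl2⟩ := hl
            refine ⟨l, fun a h1 h2 => sub_eq_zero.1 (pow_eq_zero_iff (n := 2) (by omega) |>.1 ?_)⟩
            linear_combination h1 - hl1 + l * hl2 - l * h2
          · exact ⟨0, fun a h1 h2 => absurd ⟨a, h1, h2⟩ hl⟩
        obtain ⟨v, hv⟩ := exists_avoid ({w, -w, a0 * x.trace} : Finset F)
          (lt_of_le_of_lt Finset.card_le_three (by omega))
        simp only [Finset.mem_insert, Finset.mem_singleton, not_or] at hv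
        have hadj : NoEigen x.adjugate := by
          refine noEigen_iff.2 fun r hr => ?_
          rw [charpoly_fin_two, htr, hdadj] at hr
          simp at hr
          exact quad_ne hxe r (by linear_combination hr)
        obtain ⟨G, hd, ht, hv'⟩ := exists_trace hadj g.det g.trace v
        have hGs : ¬ IsScalarMat G := by
          rintro ⟨a, rfl⟩
          have e1 : a * a = g.det := by rw [← hd]; simp [Matrix.det_fin_two]; ring
          have e2 : 2 * a = g.trace := by rw [← ht]; simp [Matrix.trace_fin_two]; ring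
          rw [Matrix.smul_mul, one_mul, trace_smul, htr, smul_eq_mul, ha0 a e1 e2] at hv'
          exact hv.2.2 hv'.symm
        refine ⟨G, glConj_two hGs hs ht hd, ?_⟩
        rw [hinv, Matrix.mul_smul, trace_smul, det_smul, det_mul, hv', hd, hdadj, smul_eq_mul, Fintype.card_fin]
        intro h
        have h' : v ^ 2 = 4 * (x.det * g.det) := by
          refine mul_left_cancel₀ (pow_ne_zero 2 (inv_ne_zero hD)) ?_
          linear_combination h
        rcases hw v h' with h'' | h''
        · exact hv.1 h''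
        · exact hv.2.1 h''

/-! ### Dimension three -/

omit [Fintype F]

/-- The second coefficient of the characteristic polynomial. -/
def e2 (g : Matrix (Fin 3) (Fin 3) F) : F :=
  g 0 0 * g 1 1 - g 0 1 * g 1 0 + (g 0 0 * g 2 2 - g 0 2 * g 2 0) + (g 1 1 * g 2 2 - g 1 2 * g 2 1)

theorem charpoly_three (g : Matrix (Fin 3) (Fin 3) F) :
    g.charpoly = X ^ 3 - Polynomial.C g.trace * X ^ 2 + Polynomial.C (e2 g) * X - Polynomial.C g.det := by
  rw [Matrix.charpoly, Matrix.det_fin_three]
  simp [Matrix.trace_fin_three, e2, Matrix.det_fin_three]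
  ring

theorem coeff_three {g : Matrix (Fin 3) (Fin 3) F} :
    g.charpoly.coeff 2 = -g.trace ∧ g.charpoly.coeff 1 = e2 g ∧ g.charpoly.coeff 0 = -g.det := by
  rw [charpoly_three]
  refine ⟨?_, ?_, ?_⟩ <;> simp [Polynomial.coeff_X, Polynomial.coeff_X_pow, Polynomial.coeff_C]

theorem eval_three (g : Matrix (Fin 3) (Fin 3) F) (r : F) :
    g.charpoly.eval r = r ^ 3 - g.trace * r ^ 2 + e2 g * r - g.det := by
  rw [charpoly_three]; simp

/-- The companion matrix of `X ^ 3 - c₂ X ^ 2 - c₁ X - c₀`. -/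
def comp3 (c₀ c₁ c₂ : F) : Matrix (Fin 3) (Fin 3) F := !![0, 0, c₀; 1, 0, c₁; 0, 1, c₂]

theorem comp3_invariants (c₀ c₁ c₂ : F) :
    (comp3 c₀ c₁ c₂).trace = c₂ ∧ e2 (comp3 c₀ c₁ c₂) = -c₁ ∧ (comp3 c₀ c₁ c₂).det = c₀ := by
  simp [comp3, e2, Matrix.trace_fin_three, Matrix.det_fin_three]

/-- The vectors `u, g u, g² u`. -/
def kry (g : Matrix (Fin 3) (Fin 3) F) (u : Fin 3 → F) : Matrix (Fin 3) (Fin 3) F :=
  Matrix.of fun i j => ![u, g *ᵥ u, g *ᵥ (g *ᵥ u)] j i

/-- Some vector is cyclic. -/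
def Cyc (g : Matrix (Fin 3) (Fin 3) F) : Prop := ∃ u, (kry g u).det ≠ 0

theorem Cyc.of_glConj {g h : Matrix (Fin 3) (Fin 3) F} (hg : Cyc g) (hc : GLConj g h) : Cyc h := by
  obtain ⟨u, hu⟩ := hg
  obtain ⟨P, hP, he⟩ := hc
  refine ⟨P *ᵥ u, ?_⟩
  have : kry h (P *ᵥ u) = P * kry g u := by
    ext i j
    have e1 : h *ᵥ (P *ᵥ u) = P *ᵥ (g *ᵥ u) := by rw [mulVec_mulVec, ← he, ← mulVec_mulVec]
    have e2 : h *ᵥ (h *ᵥ (P *ᵥ u)) = P *ᵥ (g *ᵥ (g *ᵥ u)) := by
      rw [e1, mulVec_mulVec, ← he, ← mulVec_mulVec]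
    fin_cases j
    · rfl
    · exact congrFun e1 i
    · exact congrFun e2 i
  rw [this, det_mul]
  exact mul_ne_zero hP hu

/-- A cyclic matrix is conjugate to its companion matrix. -/
theorem Cyc.glConj_comp3 {g : Matrix (Fin 3) (Fin 3) F} (hg : Cyc g) :
    GLConj (comp3 g.det (-e2 g) g.trace) g := by
  obtain ⟨u, hu⟩ := hg
  set P := kry g u with hP
  set c := P⁻¹ *ᵥ (g *ᵥ (g *ᵥ (g *ᵥ u))) with hc
  have hPc : P *ᵥ c = g *ᵥ (g *ᵥ (g *ᵥ u)) := by
    rw [hc, mulVec_mulVec, mul_nonsing_inv _ (isUnit_iff_ne_zero.2 hu), one_mulVec]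
  have hconj : GLConj (comp3 (c 0) (c 1) (c 2)) g := by
    refine ⟨P, hu, ?_⟩
    ext i j
    rw [Matrix.mul_apply, Fin.sum_univ_three]
    fin_cases j <;> simp [comp3]
    · rfl
    · rfl
    · exact (Fin.sum_univ_three (fun k => P i k * c k)).symm.trans (congrFun hPc i)
  obtain ⟨a2, a1, a0⟩ := coeff_three (g := g)
  obtain ⟨b2, b1, b0⟩ := coeff_three (g := comp3 (c 0) (c 1) (c 2))
  obtain ⟨i2, i1, i0⟩ := comp3_invariants (c 0) (c 1) (c 2)
  rw [hconj.charpoly_eq] at a2 a1 a0
  rw [show g.det = c 0 by rw [← i0, ← neg_inj, ← a0, ← b0], show e2 g = -c 1 by rw [← i1, ← a1, ← b1],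
    show g.trace = c 2 by rw [← i2, ← neg_inj, ← a2, ← b2], neg_neg]
  exact hconj

/-- Cyclic matrices with the same invariants are conjugate. -/
theorem glConj_of_cyc {g h : Matrix (Fin 3) (Fin 3) F} (hg : Cyc g) (hh : Cyc h) (ht : g.trace = h.trace)
    (he : e2 g = e2 h) (hd : g.det = h.det) : GLConj g h :=
  hg.glConj_comp3.symm.trans (by rw [ht, he, hd]; exact hh.glConj_comp3)

/-- A scalar plus a matrix supported on the first row. -/
def rowOne (a δ φ₁ φ₂ : F) : Matrix (Fin 3) (Fin 3) F := !![a + δ, φ₁, φ₂; 0, a, 0; 0, 0, a]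

/-- Cyclic, or a scalar plus rank one. -/
theorem cyc_or_rowOne {g : Matrix (Fin 3) (Fin 3) F} (hg : ¬ IsScalarMat g) :
    Cyc g ∨ ∃ a δ ε : F, GLConj (rowOne a δ 1 ε) g := by
  obtain ⟨v, z, hvz⟩ : ∃ v z : Fin 3 → F, (Matrix.of fun i j => ![v, g *ᵥ v, z] j i).det ≠ 0 := by
    by_contra h
    push Not at h
    have h1 := h ![1, 0, 0] ![0, 0, 1]
    have h2 := h ![1, 0, 0] ![0, 1, 0]
    have h3 := h ![0, 1, 0] ![0, 0, 1]
    have h4 := h ![0, 1, 0] ![1, 0, 0]
    have h5 := h ![0, 0, 1] ![0, 1, 0]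
    have h6 := h ![0, 0, 1] ![1, 0, 0]
    have h7 := h ![1, 1, 0] ![0, 0, 1]
    have h8 := h ![0, 1, 1] ![1, 0, 0]
    simp [Matrix.det_fin_three, Matrix.mulVec, dotProduct, Fin.sum_univ_three] at h1 h2 h3 h4 h5 h6 h7 h8
    refine hg ⟨g 0 0, ?_⟩
    ext i j
    fin_cases i <;> fin_cases j <;> simp [h1, h2, h3, h4, h5, h6]
    · linear_combination h7 - h1 + h3
    · linear_combination h7 + h8 - h1 + h3 - h4 + h6
  set P : Matrix (Fin 3) (Fin 3) F := Matrix.of fun i j => ![v, g *ᵥ v, z] j i with hP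
  have hu : IsUnit P.det := isUnit_iff_ne_zero.2 hvz
  set g' := P⁻¹ * g * P with hg'
  have hconj : GLConj g' g := ⟨P, hvz, by rw [hg', ← mul_assoc, ← mul_assoc, mul_nonsing_inv _ hu, one_mul]⟩
  have hcol : ∀ i, g' i 0 = if i = 1 then 1 else 0 := by
    intro i
    have e0 : P *ᵥ ![1, 0, 0] = v := by
      ext k; simp [hP, Matrix.mulVec, dotProduct, Fin.sum_univ_three]
    have e1 : P *ᵥ ![0, 1, 0] = g *ᵥ v := by
      ext k; simp [hP, Matrix.mulVec, dotProduct, Fin.sum_univ_three]
    have h : g' *ᵥ ![1, 0, 0] = ![0, 1, 0] := by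
      rw [hg', ← mulVec_mulVec, e0, ← mulVec_mulVec, ← e1, mulVec_mulVec, nonsing_inv_mul _ hu, one_mulVec]
    have := congrFun h i
    fin_cases i <;> simpa [Matrix.mulVec, dotProduct, Fin.sum_univ_three] using this
  obtain ⟨α, hα⟩ : ∃ α, α = g' 0 1 := ⟨_, rfl⟩
  obtain ⟨β, hβ⟩ : ∃ β, β = g' 1 1 := ⟨_, rfl⟩
  obtain ⟨η, hη⟩ : ∃ η, η = g' 2 1 := ⟨_, rfl⟩
  obtain ⟨γ, hγ⟩ : ∃ γ, γ = g' 0 2 := ⟨_, rfl⟩
  obtain ⟨ε, hε⟩ : ∃ ε, ε = g' 1 2 := ⟨_, rfl⟩
  obtain ⟨ζ, hζ⟩ : ∃ ζ, ζ = g' 2 2 := ⟨_, rfl⟩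
  have hform : g' = !![0, α, γ; 1, β, ε; 0, η, ζ] := by
    ext i j
    fin_cases i <;> fin_cases j <;> simp [hcol, hα, hβ, hη, hγ, hε, hζ]
  rw [hform] at hconj
  by_cases hη0 : η = 0
  swap
  · left
    refine Cyc.of_glConj ⟨![1, 0, 0], ?_⟩ hconj
    simp [kry, Matrix.det_fin_three, Matrix.mulVec, dotProduct, Fin.sum_univ_three]
    exact hη0
  subst hη0
  by_cases hc : Cyc !![0, α, γ; 1, β, ε; 0, 0, ζ]
  · exact Or.inl (hc.of_glConj hconj)
  right
  simp only [Cyc, not_exists, ne_eq, not_not] at hc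
  have k1 := hc ![-ε, 0, 1]
  have k2 := hc ![1 - ε, 0, 1]
  simp [kry, Matrix.det_fin_three, Matrix.mulVec, dotProduct, Fin.sum_univ_three] at k1 k2
  have hk : γ + ζ * ε = 0 := pow_eq_zero_iff (n := 2) (by omega) |>.1 (by linear_combination k1)
  have hf : α + ζ * (β - ζ) = 0 := by linear_combination (γ + ζ * ε + (β - 2 * ζ)) * hk - k2
  refine ⟨ζ, β - 2 * ζ, ε, GLConj.trans ⟨!![-ζ, 1, 0; 1, 0, 0; 0, 0, 1], by simp [Matrix.det_fin_three], ?_⟩ hconj⟩
  ext i j
  fin_cases i <;> fin_cases j <;> simp [rowOne, Matrix.mul_apply, Fin.sum_univ_three] <;>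
    first
      | ring1
      | linear_combination hf
      | linear_combination -hf
      | linear_combination hk
      | linear_combination -hk

/-- The first row of a scalar plus rank one can be moved to any row compatible with the trace. -/
theorem glConj_rowOne {a δ ε φ₁ φ₂ : F} (h : δ ≠ 0 ∨ φ₁ ≠ 0 ∨ φ₂ ≠ 0) :
    GLConj (rowOne a δ φ₁ φ₂) (rowOne a δ 1 ε) := by
  by_cases h1 : φ₁ = 0
  · subst h1
    by_cases h2 : φ₂ = 0
    · subst h2
      have hδ : δ ≠ 0 := by simpa using h
      refine ⟨!![1, -δ⁻¹, -(ε / δ); 0, 1, 0; 0, 0, 1], by simp [Matrix.det_fin_three], ?_⟩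
      ext i j
      fin_cases i <;> fin_cases j <;> simp [rowOne, Matrix.mul_apply, Fin.sum_univ_three] <;> field_simp <;> ring
    · refine ⟨!![1, 0, 0; 0, -ε, φ₂; 0, 1, 0], by simp [Matrix.det_fin_three, h2], ?_⟩
      ext i j
      fin_cases i <;> fin_cases j <;> simp [rowOne, Matrix.mul_apply, Fin.sum_univ_three] <;> ring
  · refine ⟨!![1, 0, 0; 0, φ₁, φ₂ - ε; 0, 0, 1], by simp [Matrix.det_fin_three, h1], ?_⟩
    ext i j
    fin_cases i <;> fin_cases j <;> simp [rowOne, Matrix.mul_apply, Fin.sum_univ_three] <;> ring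

theorem cyc_of_noEigen {g : Matrix (Fin 3) (Fin 3) F} (hg : NoEigen g) : Cyc g := by
  refine (cyc_or_rowOne (g := g) ?_).resolve_right ?_
  · rintro ⟨c, rfl⟩
    exact hg c (by simp)
  · rintro ⟨a, δ, ε, h⟩
    refine noEigen_iff.1 hg a ?_
    rw [h.charpoly_eq, eval_three]
    simp [rowOne, e2, Matrix.trace_fin_three, Matrix.det_fin_three]
    ring

/-- The upper triangular block form. -/
def block3 (μ u₁ u₂ p q s : F) : Matrix (Fin 3) (Fin 3) F := !![μ, u₁, u₂; 0, p, q; 0, 1, s]

/-- A companion matrix times a block matrix reaches every trace and second coefficient. -/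
theorem exists_comp3_block (k₀ k₁ k₂ : F) {μ p q s : F} (hμ : μ ≠ 0) (hp : p + k₂ ≠ 0) (T E : F) :
    ∃ u₁ u₂ : F, (comp3 k₀ k₁ k₂ * block3 μ u₁ u₂ p q s).trace = T ∧
      e2 (comp3 k₀ k₁ k₂ * block3 μ u₁ u₂ p q s) = E ∧ Cyc (comp3 k₀ k₁ k₂ * block3 μ u₁ u₂ p q s) := by
  refine ⟨T - k₁ - q - k₂ * s,
    ((T - q - k₂ * s) * (q + k₂ * s) - μ * k₀ - E) / (p + k₂) - k₁ * s, ?_, ?_, ⟨![1, 0, 0], ?_⟩⟩
  · simp [comp3, block3, Matrix.trace_fin_three, Matrix.mul_apply, Fin.sum_univ_three]; ring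
  · simp [comp3, block3, e2, Matrix.mul_apply, Fin.sum_univ_three]
    field_simp
    ring
  · simp [comp3, block3, kry, Matrix.det_fin_three, Matrix.mulVec, dotProduct, Fin.sum_univ_three,
      Matrix.mul_apply]
    exact ⟨hμ, hp, hμ⟩

theorem cyc_block3 {μ u₁ u₂ p q s : F} (hf : μ * μ - (p + s) * μ + (p * s - q) ≠ 0) :
    Cyc (block3 μ u₁ u₂ p q s) := by
  obtain ⟨w, hw⟩ : ∃ w, w * (μ * μ - (p + s) * μ + (p * s - q)) = 1 - (μ * u₁ + u₂ - s * u₁) :=
    ⟨_, div_mul_cancel₀ _ hf⟩
  refine ⟨![w, 1, 0], ?_⟩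
  simp [block3, kry, Matrix.det_fin_three, Matrix.mulVec, dotProduct, Fin.sum_univ_three]
  intro h
  apply one_ne_zero (α := F)
  linear_combination h - hw

variable [Fintype F]

/-- Three factors, nonscalar. -/
theorem inProd_three_three (hq : 4 ≤ Fintype.card F) {x : Matrix (Fin 3) (Fin 3) F}
    (hx : Irreducible x.charpoly) {g : Matrix (Fin 3) (Fin 3) F} (hdet : g.det = x.det ^ 3)
    (hg : ¬ IsScalarMat g) : InProd (List.replicate 3 x) g := by
  classical
  have hxe := noEigen_of_irreducible (by omega) hx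
  obtain ⟨D, hD⟩ : ∃ D, D = x.det := ⟨_, rfl⟩
  have hD0 : D ≠ 0 := hD ▸ det_ne_zero_of_noEigen hxe
  have hu : IsUnit x.det := isUnit_iff_ne_zero.2 (det_ne_zero_of_noEigen hxe)
  -- companion forms of x and of its inverse
  have hxi := noEigen_inv (by omega) hxe
  set W := comp3 x⁻¹.det (-e2 x⁻¹) x⁻¹.trace with hW
  obtain ⟨iW2, -, iW0⟩ := comp3_invariants x⁻¹.det (-e2 x⁻¹) x⁻¹.trace
  have hWx : GLConj W x⁻¹ := (cyc_of_noEigen hxi).glConj_comp3
  have hWd : W.det = D⁻¹ := by rw [← hWx.det_eq, det_nonsing_inv, Ring.inverse_eq_inv', hD]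
  have hWu : IsUnit W.det := isUnit_iff_ne_zero.2 (by rw [hWd]; exact inv_ne_zero hD0)
  have hWi : W⁻¹.charpoly = x.charpoly := by
    obtain ⟨P, hP, he⟩ := hWx
    refine (GLConj.charpoly_eq ⟨P, hP, ?_⟩).symm
    calc P * W⁻¹ = x * x⁻¹ * P * W⁻¹ := by rw [mul_nonsing_inv _ hu, one_mul]
      _ = x * P := by
        rw [mul_assoc x x⁻¹ P, ← he, mul_assoc x, mul_assoc P, mul_nonsing_inv _ hWu, mul_one]
  set Z := comp3 x.det (-e2 x) x.trace with hZ
  have hZx : Z.charpoly = x.charpoly := ((cyc_of_noEigen hxe).glConj_comp3).charpoly_eq.symm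
  -- a quadratic without the root one
  obtain ⟨τ, hτ⟩ : ∃ τ : F, 1 * 1 - τ * 1 + D ^ 2 ≠ 0 := ⟨1 + D ^ 2 + 1, by
    intro h; exact one_ne_zero (α := F) (by linear_combination -h)⟩
  -- two factors cover the cyclic matrices with these invariants
  have hCC : ∀ N : Matrix (Fin 3) (Fin 3) F, Cyc N → N.trace = 1 + τ → e2 N = τ + D ^ 2 → N.det = D ^ 2 →
      InProd (List.replicate 2 x) N := by
    intro N hN hNt hNe hNd
    obtain ⟨p, hp⟩ : ∃ p, p = 1 - x⁻¹.trace := ⟨_, rfl⟩
    obtain ⟨u₁, u₂, h1, h2, h3⟩ := exists_comp3_block x⁻¹.det (-e2 x⁻¹) x⁻¹.trace (μ := 1) (p := p)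
      (q := p * (τ - p) - D ^ 2) (s := τ - p) one_ne_zero (by rw [hp]; simp) x.trace (e2 x)
    rw [← hW] at h1 h2 h3
    set M := block3 1 u₁ u₂ p (p * (τ - p) - D ^ 2) (τ - p) with hM
    have iM : M.trace = 1 + τ ∧ e2 M = τ + D ^ 2 ∧ M.det = D ^ 2 := by
      simp [hM, block3, e2, Matrix.trace_fin_three, Matrix.det_fin_three]
    have hMc : Cyc M := cyc_block3 (by intro h; exact hτ (by linear_combination h))
    have hY : (W * M).charpoly = x.charpoly := by
      rw [charpoly_three, charpoly_three, h1, h2, det_mul, hWd, iM.2.2, ← hD,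
        show D⁻¹ * D ^ 2 = D by field_simp]
    have := inProd_succ_irred hx (m := 1) (inProd_single hx hWi) hY
    rw [← mul_assoc, nonsing_inv_mul _ hWu, one_mul] at this
    exact inProd_glConj hx this (glConj_of_cyc hMc hN (iM.1.trans hNt.symm) (iM.2.1.trans hNe.symm)
      (iM.2.2.trans hNd.symm))
  rcases cyc_or_rowOne hg with hc | ⟨a, δ, ε, hconj⟩
  · obtain ⟨p, hp⟩ : ∃ p, p = 1 - x.trace := ⟨_, rfl⟩
    obtain ⟨u₁, u₂, h1, h2, h3⟩ := exists_comp3_block x.det (-e2 x) x.trace (μ := 1) (p := p)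
      (q := p * (τ - p) - D ^ 2) (s := τ - p) one_ne_zero (by rw [hp]; simp) g.trace (e2 g)
    rw [← hZ] at h1 h2 h3
    set M := block3 1 u₁ u₂ p (p * (τ - p) - D ^ 2) (τ - p) with hM
    have iM : M.trace = 1 + τ ∧ e2 M = τ + D ^ 2 ∧ M.det = D ^ 2 := by
      simp [hM, block3, e2, Matrix.trace_fin_three, Matrix.det_fin_three]
    have hMc : Cyc M := cyc_block3 (by intro h; exact hτ (by linear_combination h))
    have := inProd_append (inProd_single hx hZx) (hCC M hMc iM.1 iM.2.1 iM.2.2)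
    refine inProd_glConj hx (g := Z * M) this (glConj_of_cyc h3 hc h1 h2 ?_)
    rw [det_mul, hZ, (comp3_invariants _ _ _).2.2, iM.2.2, hdet, ← hD]; ring
  · have hRd : (rowOne a δ 1 ε).det = D ^ 3 := by rw [← hconj.det_eq, hdet, hD]
    have hRd' : (a + δ) * a * a = D ^ 3 := by
      rw [← hRd]; simp [rowOne, Matrix.det_fin_three]
    have ha : a ≠ 0 := fun h => pow_ne_zero 3 hD0 (by rw [← hRd', h]; ring)
    obtain ⟨φ₁, hφ₁⟩ : ∃ φ, φ = 1 + τ - a * x⁻¹.trace := ⟨_, rfl⟩
    obtain ⟨φ₂, hφ₂⟩ : ∃ φ, φ = (a * φ₁ * x⁻¹.trace + a * a * e2 x⁻¹ - (τ + D ^ 2)) / a := ⟨_, rfl⟩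
    set R := rowOne a δ φ₁ φ₂ with hR
    have hRdet : R.det = D ^ 3 := by rw [← hRd']; simp [hR, rowOne, Matrix.det_fin_three]
    have iM : (R * W).trace = 1 + τ ∧ e2 (R * W) = τ + D ^ 2 ∧ (R * W).det = D ^ 2 := by
      refine ⟨?_, ?_, ?_⟩
      · simp [hR, hW, rowOne, comp3, Matrix.trace_fin_three, Matrix.mul_apply, Fin.sum_univ_three, hφ₁]
      · simp [hR, hW, rowOne, comp3, e2, Matrix.mul_apply, Fin.sum_univ_three, hφ₂]
        field_simp
        ring
      · rw [det_mul, hRdet, hWd]; field_simp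
    have hne : δ ≠ 0 ∨ φ₁ ≠ 0 ∨ φ₂ ≠ 0 := by
      by_contra h
      push Not at h
      obtain ⟨hδ, h1, h2⟩ := h
      have hRs : R = a • 1 := by
        ext i j
        fin_cases i <;> fin_cases j <;> simp [hR, rowOne, hδ, h1, h2]
      have he : (R * W).charpoly.eval 1 = 0 := by
        rw [eval_three, iM.1, iM.2.1, iM.2.2]; ring
      rw [hRs, Matrix.smul_mul, one_mul] at he
      have hWe : NoEigen W := noEigen_iff.2 fun r hr => noEigen_iff.1 hxi r (by rwa [hWx.charpoly_eq])
      refine hWe a⁻¹ ?_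
      rw [Matrix.eval_charpoly, Matrix.scalar_apply] at he
      have h3 := det_smul (W - a⁻¹ • 1) (-a)
      rw [Fintype.card_fin] at h3
      have : (-a) ^ 3 * (W - a⁻¹ • 1).det = 0 := by
        rw [← h3, ← he]
        congr 1
        rw [smul_sub, smul_smul, neg_mul, mul_inv_cancel₀ ha, ← smul_one_eq_diagonal, one_smul, neg_smul, neg_smul,
          one_smul]
        abel
      exact (mul_eq_zero.1 this).resolve_left (pow_ne_zero _ (neg_ne_zero.2 ha))
    have hMc : Cyc (R * W) := ⟨![1, 0, 0], by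
      simp [hR, hW, rowOne, comp3, kry, Matrix.det_fin_three, Matrix.mulVec, dotProduct, Fin.sum_univ_three,
        Matrix.mul_apply, ha]⟩
    have := inProd_succ_irred hx (hCC _ hMc iM.1 iM.2.1 iM.2.2) hWi
    rw [mul_assoc, mul_nonsing_inv _ hWu, mul_one] at this
    exact inProd_glConj hx this ((glConj_rowOne (ε := ε) hne).trans hconj)

/-- The Galois conjugates of an element of norm one multiply to one. -/
theorem inProd_three_one {x : Matrix (Fin 3) (Fin 3) F} (hx : Irreducible x.charpoly) (hd : x.det = 1) :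
    InProd (List.replicate 3 x) 1 := by
  classical
  haveI : Fact (Irreducible x.charpoly) := ⟨hx⟩
  obtain ⟨Φ, Ψ, hr, -, hdn⟩ := exists_field_rep x rfl
  haveI : Module.Finite F (AdjoinRoot x.charpoly) :=
    (AdjoinRoot.powerBasis (charpoly_monic x).ne_zero).finite
  haveI : Finite (AdjoinRoot x.charpoly) := Module.finite_of_finite F
  obtain ⟨q, hq⟩ : ∃ q, q = Fintype.card F := ⟨_, rfl⟩
  have hq2 : 2 ≤ q := hq ▸ Fintype.one_lt_card
  have hexp : (Nat.card (AdjoinRoot x.charpoly) - 1) / (Nat.card F - 1) = 1 + q + q * q := by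
    rw [Module.natCard_eq_pow_finrank (K := F), (AdjoinRoot.powerBasis (charpoly_monic x).ne_zero).finrank,
      AdjoinRoot.powerBasis_dim, charpoly_natDegree_eq_dim, Fintype.card_fin, Nat.card_eq_fintype_card, ← hq]
    refine Nat.div_eq_of_eq_mul_left (by omega) ?_
    obtain ⟨k, rfl⟩ : ∃ k, q = k + 1 := ⟨q - 1, by omega⟩
    rw [Nat.add_sub_cancel]
    exact Nat.sub_eq_of_eq_add (by ring)
  have h1 : x ^ (1 + q + q * q) = 1 := by
    have h := congrArg Φ (FiniteField.algebraMap_norm_eq_pow (K := F) (x := AdjoinRoot.root x.charpoly))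
    rw [map_pow, AlgHom.commutes, ← hdn, hr, hd, map_one, hexp] at h
    exact h.symm
  have hc : (x ^ q).charpoly = x.charpoly := by rw [hq]; exact FiniteField.Matrix.charpoly_pow_card x
  have hc2 : (x ^ (q * q)).charpoly = x.charpoly := by
    rw [pow_mul, hq, FiniteField.Matrix.charpoly_pow_card, FiniteField.Matrix.charpoly_pow_card]
  have := inProd_succ_irred hx (inProd_succ_irred hx (m := 1) (inProd_single hx (y := x) rfl) hc) hc2
  rwa [show x * x ^ q * x ^ (q * q) = 1 by rw [← pow_succ', ← pow_add, ← h1]; ring_nf] at this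

/-- Powers of an irreducible class in dimensions two and three. -/
theorem inProd_irreducible_small (hq : 4 ≤ Fintype.card F) {n : ℕ} (hn : n = 2 ∨ n = 3)
    {x : Matrix (Fin n) (Fin n) F} (hx : Irreducible x.charpoly) {m : ℕ} {g : Matrix (Fin n) (Fin n) F}
    (hdet : g.det = x.det ^ m)
    (h : (¬ IsScalarMat g ∧ n ≤ m ∧ (n = 2 → m = 2 → g.trace ^ 2 ≠ 4 * g.det)) ∨ n < m ∨
      (n = 3 ∧ m = 3 ∧ g = 1 ∧ x.det = 1)) :
    InProd (List.replicate m x) g := by
  classical
  rcases hn with rfl | rfl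
  · rcases h with ⟨-, hm, hex⟩ | hm | ⟨h2, -⟩
    · refine inProd_two_many hq hx m hm g hdet ?_
      rcases Nat.lt_or_ge 2 m with h' | h'
      · exact Or.inl h'
      · exact Or.inr (hex rfl (le_antisymm h' hm))
    · exact inProd_two_many hq hx m hm.le g hdet (Or.inl hm)
    · omega
  · have hxe := noEigen_of_irreducible (by omega) hx
    have hD := det_ne_zero_of_noEigen hxe
    have main : ∀ m, 3 ≤ m → ∀ g : Matrix (Fin 3) (Fin 3) F, g.det = x.det ^ m →
        (3 < m ∨ ¬ IsScalarMat g) → InProd (List.replicate m x) g := by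
      intro m hm
      induction m, hm using Nat.le_induction with
      | base => intro g hg h; exact inProd_three_three hq hx hg (h.resolve_left (lt_irrefl _))
      | succ m hm ih =>
          intro g hg _
          -- a member of the class whose removal leaves a nonscalar matrix
          suffices h : ∃ y : Matrix (Fin 3) (Fin 3) F, y.charpoly = x.charpoly ∧ ¬ IsScalarMat (g * y⁻¹) by
            obtain ⟨y, hy, hns⟩ := h
            have hyd : y.det = x.det := by
              have h1 := congrArg (fun p : F[X] => p.coeff 0) hy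
              simp only [coeff_three.2.2, neg_inj] at h1
              exact h1
            have hu : IsUnit y.det := isUnit_iff_ne_zero.2 (hyd ▸ hD)
            have := inProd_succ_irred hx (ih (g * y⁻¹) ?_ (Or.inr hns)) hy
            · rwa [mul_assoc, nonsing_inv_mul _ hu, mul_one] at this
            · rw [det_mul, det_nonsing_inv, Ring.inverse_eq_inv', hyd, hg, pow_succ, mul_assoc,
                mul_inv_cancel₀ hD, mul_one]
          by_cases hs : IsScalarMat (g * x⁻¹)
          swap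
          · exact ⟨x, rfl, hs⟩
          obtain ⟨c, hc⟩ := hs
          have hu : IsUnit x.det := isUnit_iff_ne_zero.2 hD
          have hgc : g = c • x := by
            calc g = g * x⁻¹ * x := by rw [mul_assoc, nonsing_inv_mul _ hu, mul_one]
              _ = c • x := by rw [hc, Matrix.smul_mul, one_mul]
          set E : Matrix (Fin 3) (Fin 3) F := Matrix.single 0 1 1 with hE
          have hUd : (1 + E).det = 1 := by
            simp [hE, Matrix.det_fin_three, Matrix.single_apply]
          have hU : IsUnit (1 + E).det := by rw [hUd]; exact isUnit_one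
          set y := (1 + E) * x * (1 + E)⁻¹ with hy
          have hyc : GLConj x y :=
            ⟨1 + E, by rw [hUd]; exact one_ne_zero, by rw [hy, mul_assoc, nonsing_inv_mul _ hU, mul_one]⟩
          refine ⟨y, hyc.charpoly_eq, ?_⟩
          rintro ⟨c', hc'⟩
          have hu' : IsUnit y.det := by rw [hyc.det_eq]; exact hu
          have h1 : c • x = c' • y := by
            rw [← hgc]
            calc g = g * y⁻¹ * y := by rw [mul_assoc, nonsing_inv_mul _ hu', mul_one]
              _ = c' • y := by rw [hc', Matrix.smul_mul, one_mul]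
          have h2 : c • (x * (1 + E)) = c' • ((1 + E) * x) := by
            rw [← Matrix.smul_mul, h1, Matrix.smul_mul, hy, mul_assoc, nonsing_inv_mul _ hU, mul_one]
          -- entries of the rank one defect
          have k : ∀ i j, c * (x i j + if j = 1 then x i 0 else 0) =
              c' * (x i j + if i = 0 then x 1 j else 0) := by
            intro i j
            have h3 := congrFun (congrFun h2 i) j
            fin_cases i <;> fin_cases j <;>
              simp [hE, Matrix.mul_apply, Fin.sum_univ_three, Matrix.single_apply] at h3 ⊢ <;>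
              first | exact h3 | linear_combination h3
          have hne : x 2 0 ≠ 0 ∨ x 1 0 ≠ 0 := by
            by_contra h0
            push Not at h0
            refine noEigen_iff.1 hxe (x 0 0) ?_
            rw [eval_three]
            simp [e2, Matrix.trace_fin_three, Matrix.det_fin_three, h0.1, h0.2]
            ring
          have hcc : c = c' := by
            rcases hne with h0 | h0
            · exact mul_right_cancel₀ h0 (by simpa using k 2 0)
            · exact mul_right_cancel₀ h0 (by simpa using k 1 0)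
          have hc0 : c ≠ 0 := by
            rintro rfl
            rw [zero_smul] at hgc
            rw [hgc, det_zero] at hg
            exact pow_ne_zero _ hD hg.symm
          have a10 : x 1 0 = 0 := by
            refine (mul_eq_zero.1 ?_).resolve_left hc0
            have h3 := k 0 0
            rw [← hcc, if_neg (by decide), if_pos rfl] at h3
            linear_combination -h3
          have a20 : x 2 0 = 0 := by
            refine (mul_eq_zero.1 ?_).resolve_left hc0
            have h3 := k 2 1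
            rw [← hcc, if_pos rfl, if_neg (by decide)] at h3
            linear_combination h3
          exact hne.elim (fun h => h a20) (fun h => h a10)
    rcases h with ⟨hns, hm, -⟩ | hm | ⟨-, rfl, rfl, hd⟩
    · exact main m hm g hdet (Or.inr hns)
    · exact main m hm.le g hdet (Or.inl hm)
    · exact inProd_three_one hx hd

end CfsgLib.Lev
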