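import Cfsg.Agent.Lib.Lev.IrredSpecReduce
import Cfsg.Agent.Lib.Lev.IrredSmall

/-!
Covering number of `PSL n q` (Lev): the irreducible case.
-/

set_option autoImplicit false

namespace CfsgLib.Lev

/-- The irreducible case. -/
theorem irredSpec {F : Type*} [Field F] [Fintype F] (hq : 4 ≤ Fintype.card F) : IrredSpec F :=
  irredSpec_of hq fun hn _ hx _ _ hdet h => inProd_irreducible_small hq hn hx hdet h

end CfsgLib.Lev
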