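import Cfsg.Agent.Lib.Lev.IrredBigFinal

/-!
Covering number of `PSL n q` (Lev): the irreducible case from small and large degree.
-/

set_option autoImplicit false

namespace CfsgLib.Lev

open Matrix

/-- The irreducible case, given degrees two and three. -/
theorem irredSpec_of {F : Type*} [Field F] [Fintype F] (hq : 4 ≤ Fintype.card F)
    (hsmall : ∀ {n : ℕ}, n = 2 ∨ n = 3 → ∀ {x : Matrix (Fin n) (Fin n) F}, Irreducible x.charpoly →
      ∀ {m : ℕ} {g : Matrix (Fin n) (Fin n) F}, g.det = x.det ^ m →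
        ((¬ IsScalarMat g ∧ n ≤ m ∧ (n = 2 → m = 2 → g.trace ^ 2 ≠ 4 * g.det)) ∨ n < m ∨
          (n = 3 ∧ m = 3 ∧ g = 1 ∧ x.det = 1)) →
        InProd (List.replicate m x) g) : IrredSpec F := by
  intro n x hn hx m g hd h
  rcases Nat.lt_or_ge n 4 with h4 | h4
  · exact hsmall (by omega) hx hd h
  · exact inProd_irreducible_big hq h4 hx (by rcases h with a | a | a <;> omega) hd

end CfsgLib.Lev
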