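import Cfsg.Agent.Lib.Lev.Defs
import Mathlib.LinearAlgebra.Matrix.SchurComplement
import Mathlib.LinearAlgebra.Matrix.Adjugate
import Mathlib.FieldTheory.Finite.Basic
import Mathlib.Tactic.LinearCombination
import Mathlib.Tactic.FieldSimp
import Mathlib.Tactic.Abel

/-!
The identity as a product of `n` conjugates of a split matrix, `n = 3, 4` (covering number).
-/

set_option autoImplicit false

namespace CfsgLib.Lev.Special

open Matrix Polynomial

variable {F : Type*} [Field F]

theorem det_one_add_outer' {ι : Type*} [Fintype ι] [DecidableEq ι] (u v : ι → F) :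
    (1 + vecMulVec u v).det = 1 + v ⬝ᵥ u := by
  rw [vecMulVec_eq Unit]
  exact det_one_add_replicateCol_mul_replicateRow u v

theorem exists_col_move {n : ℕ} {v : Fin (n + 1) → F} (hv : v ≠ 0) :
    ∃ h : Matrix (Fin (n + 1)) (Fin (n + 1)) F, h.det ≠ 0 ∧ h *ᵥ v = Pi.single 0 1 := by
  obtain ⟨i, hi⟩ := Function.ne_iff.1 hv
  simp only [Pi.zero_apply] at hi
  have key : ∃ q : Fin (n + 1) → F, q ⬝ᵥ v = 1 ∧ q 0 ≠ 0 := by
    by_cases h0 : v 0 = 0
    · refine ⟨Pi.single 0 1 + (v i)⁻¹ • Pi.single i 1, ?_, ?_⟩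
      · simp [add_dotProduct, smul_dotProduct, single_one_dotProduct, h0, hi]
      · have hi0 : (0 : Fin (n + 1)) ≠ i := fun h => hi (h ▸ h0)
        simp [hi0]
    · exact ⟨(v 0)⁻¹ • Pi.single 0 1, by simp [smul_dotProduct, single_one_dotProduct, h0],
        by simp [h0]⟩
  obtain ⟨q, hq, hq0⟩ := key
  refine ⟨1 + vecMulVec (Pi.single 0 1 - v) q, ?_, ?_⟩
  · rw [det_one_add_outer', dotProduct_sub, hq, dotProduct_single_one]
    simpa using hq0
  · rw [add_mulVec, one_mulVec, vecMulVec_mulVec, hq]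
    simp

/-- A matrix with split characteristic polynomial is triangularisable, the diagonal in any order. -/
theorem exists_upper_gl : ∀ {n : ℕ} (x : Matrix (Fin n) (Fin n) F) (d : Fin n → F),
    x.charpoly = ∏ i, (X - C (d i)) →
    ∃ h T : Matrix (Fin n) (Fin n) F, h.det ≠ 0 ∧ h * x = T * h ∧
      (∀ i j, j < i → T i j = 0) ∧ ∀ i, T i i = d i := by
  intro n
  induction n with
  | zero =>
    intro x d _
    exact ⟨1, x, by simp, by simp, fun i => i.elim0, fun i => i.elim0⟩
  | succ n ih =>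
    intro x d hx
    have h0 : (Matrix.scalar (Fin (n + 1)) (d 0) - x).det = 0 := by
      rw [← Matrix.eval_charpoly, hx, eval_prod]
      exact Finset.prod_eq_zero (Finset.mem_univ 0) (by simp)
    obtain ⟨v, hv, hvx⟩ := exists_mulVec_eq_zero_iff.2 h0
    obtain ⟨g, hg, hgv⟩ := exists_col_move hv
    have hu : IsUnit g.det := Ne.isUnit hg
    have hxv : x *ᵥ v = d 0 • v := by
      rw [sub_mulVec, sub_eq_zero] at hvx
      rw [← hvx]
      ext i
      simp [Matrix.scalar_apply, mulVec_diagonal]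
    obtain ⟨T1, hT1⟩ : ∃ T1, T1 = g * x * g⁻¹ := ⟨_, rfl⟩
    have hcol : ∀ i, T1 i 0 = d 0 * (Pi.single 0 1 : Fin (n + 1) → F) i := by
      intro i
      have e : T1 *ᵥ Pi.single 0 1 = d 0 • (Pi.single 0 1 : Fin (n + 1) → F) := by
        rw [hT1, ← hgv, mulVec_mulVec, mul_assoc, nonsing_inv_mul _ hu, mul_one, ← mulVec_mulVec,
          hxv, mulVec_smul]
      have := congrFun e i
      rw [mulVec_single_one] at this
      simpa using this
    have hTx : T1 * g = g * x := by rw [hT1, mul_assoc, nonsing_inv_mul _ hu, mul_one]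
    have hcp : T1.charpoly = x.charpoly := by
      rw [hT1]
      exact charpoly_units_conj (g.nonsingInvUnit hu) x
    obtain ⟨S, hS⟩ : ∃ S, S = T1.submatrix Fin.succ Fin.succ := ⟨_, rfl⟩
    have hScp : T1.charpoly = (X - C (d 0)) * S.charpoly := by
      unfold Matrix.charpoly
      rw [det_succ_column_zero, Finset.sum_eq_single 0]
      · have e : (charmatrix T1).submatrix (Fin.succAbove 0) Fin.succ = charmatrix S := by
          ext i j : 2
          rw [submatrix_apply, Fin.succAbove_zero, hS]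
          by_cases hij : i = j
          · subst hij; simp [charmatrix_apply_eq]
          · simp [charmatrix_apply_ne _ _ _ hij,
              charmatrix_apply_ne _ _ _ (fun h => hij (Fin.succ_injective _ h))]
        rw [e, charmatrix_apply_eq, hcol]
        simp
      · intro i _ hi
        rw [charmatrix_apply_ne _ _ _ hi, hcol, Pi.single_eq_of_ne hi]
        simp
      · simp
    have hS' : S.charpoly = ∏ i : Fin n, (X - C (d i.succ)) := by
      apply mul_left_cancel₀ (X_sub_C_ne_zero (d 0))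
      rw [← hScp, hcp, hx, Fin.prod_univ_succ]
    obtain ⟨h', T', hd', he', hup, hdiag⟩ := ih S (fun i => d i.succ) hS'
    have hu' : IsUnit h'.det := Ne.isUnit hd'
    obtain ⟨E, hE⟩ : ∃ E : Matrix (Fin (n + 1)) (Fin (n + 1)) F,
        E = of (Fin.cases (Pi.single 0 1) fun i => Fin.cases 0 (h' i)) := ⟨_, rfl⟩
    obtain ⟨T, hT⟩ : ∃ T : Matrix (Fin (n + 1)) (Fin (n + 1)) F,
        T = of (Fin.cases (Fin.cases (d 0) ((fun j => T1 0 j.succ) ᵥ* h'⁻¹))
          fun i => Fin.cases 0 (T' i)) := ⟨_, rfl⟩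
    have hEd : E.det = h'.det := by
      rw [det_succ_column_zero, Finset.sum_eq_single 0]
      · have : E.submatrix (Fin.succAbove 0) Fin.succ = h' := by
          ext i j; simp [hE]
        rw [this, hE]
        simp
      · intro i _ hi
        obtain ⟨k, rfl⟩ := Fin.exists_succ_eq_of_ne_zero hi
        simp [hE]
      · simp
    have hcol' : T1 0 0 = d 0 := by simpa using hcol 0
    have hET : E * T1 = T * E := by
      ext i j
      rw [mul_apply, mul_apply, Fin.sum_univ_succ, Fin.sum_univ_succ]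
      cases i using Fin.cases with
      | zero =>
        cases j using Fin.cases with
        | zero => simp [hE, hT, hcol']
        | succ j =>
          have e : ((fun j => T1 0 j.succ) ᵥ* h'⁻¹) ᵥ* h' = fun j => T1 0 j.succ := by
            rw [vecMul_vecMul, nonsing_inv_mul _ hu', vecMul_one]
          have e' := congrFun e j
          simp only [vecMul, dotProduct] at e'
          simp only [hE, hT, of_apply, Fin.cases_zero, Fin.cases_succ, Pi.single_eq_same, one_mul,
            Pi.single_eq_of_ne (Fin.succ_ne_zero _), zero_mul, Finset.sum_const_zero, add_zero,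
            Pi.zero_apply, mul_zero, zero_add]
          exact e'.symm
      | succ i =>
        cases j using Fin.cases with
        | zero =>
          simp [hE, hT, hcol, Fin.succ_ne_zero]
        | succ j =>
          have e' := congrFun (congrFun he' i) j
          rw [mul_apply, mul_apply] at e'
          simpa [hE, hT, hS, Fin.succ_ne_zero] using e'
    refine ⟨E * g, T, by rw [det_mul, hEd]; exact mul_ne_zero hd' hg, ?_, ?_, ?_⟩
    · rw [mul_assoc, ← hTx, ← mul_assoc, hET, mul_assoc]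
    · intro i j hji
      cases i using Fin.cases with
      | zero => exact absurd hji (Fin.not_lt_zero j)
      | succ i =>
        cases j using Fin.cases with
        | zero => simp [hT]
        | succ j => simpa [hT] using hup i j (Fin.succ_lt_succ_iff.1 hji)
    · intro i
      cases i using Fin.cases with
      | zero => simp [hT]
      | succ i => simpa [hT] using hdiag i

theorem exists_upper {n : ℕ} {x : Matrix (Fin (n + 1)) (Fin (n + 1)) F} {d : Fin (n + 1) → F}
    (hx : x.charpoly = ∏ i, (X - C (d i))) :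
    ∃ T : Matrix (Fin (n + 1)) (Fin (n + 1)) F, Orb x T ∧
      (∀ i j, j < i → T i j = 0) ∧ ∀ i, T i i = d i := by
  obtain ⟨h, T, hd, he, hup, hdiag⟩ := exists_upper_gl x d hx
  let D : Fin (n + 1) → F := Function.update 1 0 h.det⁻¹
  let D' : Fin (n + 1) → F := Function.update 1 0 h.det
  have hDD : ∀ i, D' i * D i = 1 := by
    intro i
    by_cases hi : i = 0
    · subst hi; simp [D, D', hd]
    · simp [D, D', hi]
  refine ⟨diagonal D * T * diagonal D', ⟨diagonal D * h, ?_, ?_⟩, ?_, ?_⟩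
  · rw [det_mul, det_diagonal, Finset.prod_update_of_mem (Finset.mem_univ 0)]
    simp [hd]
  · rw [mul_assoc, he]
    simp only [mul_assoc]
    congr 2
    rw [← mul_assoc, diagonal_mul_diagonal]
    simp [hDD]
  · intro i j hji
    simp [mul_diagonal, diagonal_mul, hup i j hji]
  · intro i
    rw [mul_diagonal, diagonal_mul, hdiag]
    linear_combination (d i) * hDD i

theorem exists_charpoly_prod {n : ℕ} {x : Matrix (Fin n) (Fin n) F} (hs : SplitMat x) :
    ∃ d : Fin n → F, x.charpoly = ∏ i, (X - C (d i)) := by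
  have hm := x.charpoly_monic
  have hc : x.charpoly.roots.toList.length = n := by
    rw [Multiset.length_toList, ← (show x.charpoly.Splits from hs).natDegree_eq_card_roots,
      charpoly_natDegree_eq_dim, Fintype.card_fin]
  refine ⟨fun i => x.charpoly.roots.toList.get (i.cast hc.symm), ?_⟩
  conv_lhs => rw [(show x.charpoly.Splits from hs).eq_prod_roots_of_monic hm]
  conv_lhs => rw [← x.charpoly.roots.coe_toList, Multiset.map_coe, Multiset.prod_coe]
  rw [← Fin.prod_univ_getElem]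
  exact Fintype.prod_equiv (finCongr (by rw [List.length_map, hc])) _ _ fun i => by simp

theorem RankOne.of_orb {ι : Type*} [Fintype ι] [DecidableEq ι] {x y : Matrix ι ι F}
    (hr : RankOne x) (h : Orb x y) : RankOne y := by
  obtain ⟨c, a, b, rfl⟩ := hr
  obtain ⟨k, kd, ke⟩ := h
  have hu : IsUnit k.det := by rw [kd]; exact isUnit_one
  refine ⟨c, k *ᵥ a, b ᵥ* k⁻¹, ?_⟩
  calc y = y * k * k⁻¹ := by rw [mul_assoc, mul_nonsing_inv _ hu, mul_one]
    _ = c • 1 + vecMulVec (k *ᵥ a) (b ᵥ* k⁻¹) := by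
      rw [← ke, mul_add, add_mul, Matrix.mul_smul, mul_one, Matrix.smul_mul,
        mul_nonsing_inv _ hu, mul_vecMulVec, vecMulVec_mul]

theorem inProd_three {x a b c : Matrix (Fin 3) (Fin 3) F} (ha : Orb x a) (hb : Orb x b)
    (hc : Orb x c) (h : a * b * c = 1) : InProd (List.replicate 3 x) 1 := by
  refine ⟨[a, b, c], List.Forall₂.cons ha (List.Forall₂.cons hb (List.Forall₂.cons hc
    List.Forall₂.nil)), ?_⟩
  simpa [mul_assoc] using h

theorem three_diag {x : Matrix (Fin 3) (Fin 3) F} {t0 t1 t2 : F} (ht : t0 * t1 * t2 = 1)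
    (hx : Orb x !![t0, 0, 0; 0, t1, 0; 0, 0, t2]) : InProd (List.replicate 3 x) 1 := by
  let σ : Matrix (Fin 3) (Fin 3) F := !![0, 1, 0; 0, 0, 1; 1, 0, 0]
  have hσ : σ.det = 1 := by simp [σ, det_fin_three]
  have h1 : ∀ u v w : F, Orb (!![u, 0, 0; 0, v, 0; 0, 0, w] : Matrix (Fin 3) (Fin 3) F)
      !![v, 0, 0; 0, w, 0; 0, 0, u] := fun u v w => ⟨σ, hσ, by
    ext i j; fin_cases i <;> fin_cases j <;> simp [σ, mul_apply, Fin.sum_univ_three]⟩
  refine inProd_three hx (hx.trans (h1 t0 t1 t2))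
    (hx.trans ((h1 t0 t1 t2).trans (h1 t1 t2 t0))) ?_
  ext i j
  fin_cases i <;> fin_cases j <;> simp [mul_apply, Fin.sum_univ_three] <;>
    linear_combination ht

theorem three_two_eq {x : Matrix (Fin 3) (Fin 3) F} {a b α β γ : F} (hab : a ≠ b)
    (hd : a * a * b = 1) (hx : Orb x !![a, α, γ; 0, a, β; 0, 0, b]) :
    InProd (List.replicate 3 x) 1 := by
  have hab' : a - b ≠ 0 := sub_ne_zero.2 hab
  have hba' : b - a ≠ 0 := sub_ne_zero.2 hab.symm
  have ha : a ≠ 0 := by rintro rfl; simp at hd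
  have hb : b ≠ 0 := by rintro rfl; simp at hd
  let z : F := β / (a - b)
  let w : F := (γ - α * z) / (a - b)
  have hclear : Orb x !![a, α, 0; 0, a, 0; 0, 0, b] := by
    refine hx.trans ⟨!![1, 0, w; 0, 1, z; 0, 0, 1], by simp [det_fin_three], ?_⟩
    ext i j
    fin_cases i <;> fin_cases j <;> simp [mul_apply, Fin.sum_univ_three, w, z] <;> field_simp <;>
      ring
  by_cases hα : α = 0
  · subst hα
    exact three_diag hd hclear
  have hJ : Orb x !![a, 1, 0; 0, a, 0; 0, 0, b] := by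
    refine hclear.trans ⟨!![1, 0, 0; 0, α, 0; 0, 0, α⁻¹], by simp [det_fin_three, hα], ?_⟩
    ext i j
    fin_cases i <;> fin_cases j <;> simp [mul_apply, Fin.sum_univ_three] <;> field_simp
  have h2 : Orb x !![a, 0, 1; 0, b, 1; 0, 0, a] := by
    let k : F := -(b - a)⁻¹
    refine hJ.trans ⟨!![1, 0, 0; 0, k, -1; 0, 1, 0], by simp [det_fin_three], ?_⟩
    ext i j
    fin_cases i <;> fin_cases j <;> simp [mul_apply, Fin.sum_univ_three, k] <;> field_simp <;>
      ring
  let p : F := -b / a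
  let s : F := -a / b
  let r : F := -1
  have hs : s ≠ 0 := by simp [s, ha, hb]
  have h3 : Orb x !![b, p, r; 0, a, s; 0, 0, a] := by
    let A : F := s * p / (a - b)
    let r' : F := (A - r) / (b - a)
    refine hJ.trans ⟨!![A, r', 1 / s; s, 0, 0; 0, 1, 0], by simp [det_fin_three, hs], ?_⟩
    ext i j
    fin_cases i <;> fin_cases j <;> simp [mul_apply, Fin.sum_univ_three, A, r'] <;> field_simp <;>
      ring
  refine inProd_three hJ h2 h3 ?_
  ext i j
  fin_cases i <;> fin_cases j <;> simp [mul_apply, Fin.sum_univ_three, p, r, s] <;>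
    (try field_simp) <;> (first | linear_combination hd | ring)

theorem three_all_eq [Fintype F] (hq : 3 ≤ Fintype.card F) {x : Matrix (Fin 3) (Fin 3) F}
    {a α β γ : F} (hd : a * a * a = 1) (hr : ¬ RankOne x)
    (hx : Orb x !![a, α, γ; 0, a, β; 0, 0, a]) : InProd (List.replicate 3 x) 1 := by
  have hβ : β ≠ 0 := by
    intro h
    subst h
    refine hr (RankOne.of_orb ⟨a, ![1, 0, 0], ![0, α, γ], ?_⟩ hx.symm)
    ext i j
    fin_cases i <;> fin_cases j <;> simp [vecMulVec_apply]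
  have hα : α ≠ 0 := by
    intro h
    subst h
    refine hr (RankOne.of_orb ⟨a, ![γ, β, 0], ![0, 0, 1], ?_⟩ hx.symm)
    ext i j
    fin_cases i <;> fin_cases j <;> simp [vecMulVec_apply]
  have ha : a ≠ 0 := by rintro rfl; simp at hd
  classical
  obtain ⟨k, hk⟩ : ((Finset.univ : Finset F) \ {0, -1}).Nonempty := by
    rw [← Finset.card_pos, Finset.card_univ_sdiff]
    have := Finset.card_le_two (a := (0 : F)) (b := -1)
    omega
  simp only [Finset.mem_sdiff, Finset.mem_univ, true_and, Finset.mem_insert,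
    Finset.mem_singleton, not_or] at hk
  have hk1 : -(1 + k) ≠ 0 := fun h => hk.2 (by linear_combination -h)
  have hscale : ∀ c r : F, c ≠ 0 → Orb x !![a, c * α, r; 0, a, c * β; 0, 0, a] := by
    intro c r hc
    let u : F := (r / c - c * γ) / β
    refine hx.trans ⟨!![c, u, 0; 0, 1, 0; 0, 0, c⁻¹], by simp [det_fin_three, hc], ?_⟩
    ext i j
    fin_cases i <;> fin_cases j <;> simp [mul_apply, Fin.sum_univ_three, u] <;> field_simp <;>
      ring
  let r3 : F := -γ + (1 + k + k * k) * (α * β) / a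
  refine inProd_three hx (hscale k 0 hk.1) (hscale (-(1 + k)) r3 hk1) ?_
  ext i j
  fin_cases i <;> fin_cases j <;> simp [mul_apply, Fin.sum_univ_three, r3] <;>
    (try field_simp) <;> (first | linear_combination hd | ring)

theorem inProd_one_three [Fintype F] (hq : 3 ≤ Fintype.card F) {x : Matrix (Fin 3) (Fin 3) F}
    (hs : SplitMat x) (hr : ¬ RankOne x) (hdx : x.det = 1) : InProd (List.replicate 3 x) 1 := by
  obtain ⟨d, hd⟩ := exists_charpoly_prod hs
  obtain ⟨t0, t1, t2, hcp, hord⟩ : ∃ t0 t1 t2 : F,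
      x.charpoly = (X - C t0) * (X - C t1) * (X - C t2) ∧
        (t0 = t1 ∨ (t0 ≠ t1 ∧ t0 ≠ t2 ∧ t1 ≠ t2)) := by
    rw [Fin.prod_univ_three] at hd
    by_cases h01 : d 0 = d 1
    · exact ⟨_, _, _, hd, Or.inl h01⟩
    by_cases h02 : d 0 = d 2
    · exact ⟨d 0, d 2, d 1, by rw [hd]; ring, Or.inl h02⟩
    by_cases h12 : d 1 = d 2
    · exact ⟨d 1, d 2, d 0, by rw [hd]; ring, Or.inl h12⟩
    exact ⟨_, _, _, hd, Or.inr ⟨h01, h02, h12⟩⟩
  obtain ⟨T, hT, hup, hdiag⟩ := exists_upper (x := x) (d := ![t0, t1, t2])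
    (by rw [hcp, Fin.prod_univ_three]; simp)
  have h10 : T 1 0 = 0 := hup 1 0 (by decide)
  have h20 : T 2 0 = 0 := hup 2 0 (by decide)
  have h21 : T 2 1 = 0 := hup 2 1 (by decide)
  have hTe : T = !![t0, T 0 1, T 0 2; 0, t1, T 1 2; 0, 0, t2] := by
    ext i j
    fin_cases i <;> fin_cases j <;>
      simp [h10, h20, h21, show T 0 0 = t0 by simpa using hdiag 0,
        show T 1 1 = t1 by simpa using hdiag 1, show T 2 2 = t2 by simpa using hdiag 2]
  rw [hTe] at hT
  have hdet : t0 * t1 * t2 = 1 := by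
    have := hT.det_eq
    rw [hdx, det_fin_three] at this
    simpa using this
  obtain ⟨α, hα⟩ : ∃ α, α = T 0 1 := ⟨_, rfl⟩
  obtain ⟨γ, hγ⟩ : ∃ γ, γ = T 0 2 := ⟨_, rfl⟩
  obtain ⟨β, hβ⟩ : ∃ β, β = T 1 2 := ⟨_, rfl⟩
  rw [← hα, ← hβ, ← hγ] at hT
  rcases hord with rfl | ⟨n01, n02, n12⟩
  · by_cases h02 : t0 = t2
    · subst h02
      exact three_all_eq hq hdet hr hT
    · exact three_two_eq h02 hdet hT
  · have e01 : t0 - t1 ≠ 0 := sub_ne_zero.2 n01
    have e02 : t0 - t2 ≠ 0 := sub_ne_zero.2 n02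
    have e12 : t1 - t2 ≠ 0 := sub_ne_zero.2 n12
    let u : F := α / (t0 - t1)
    let z : F := β / (t1 - t2)
    let w : F := (γ + u * β) / (t0 - t2)
    refine three_diag hdet (hT.trans ⟨!![1, u, w; 0, 1, z; 0, 0, 1], by simp [det_fin_three], ?_⟩)
    ext i j
    fin_cases i <;> fin_cases j <;> simp [mul_apply, Fin.sum_univ_three, u, w, z] <;>
      field_simp <;> ring

theorem exists_adj_conj (t0 t1 α : F) :
    ∃ Q : Matrix (Fin 2) (Fin 2) F, Q.det = -1 ∧
      Q * !![t0, α; 0, t1] = adjugate !![t0, α; 0, t1] * Q := by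
  rw [adjugate_fin_two]
  by_cases hα : α = 0
  · by_cases ht : t0 = t1
    · subst hα ht
      refine ⟨!![1, 0; 0, -1], by simp [det_fin_two], ?_⟩
      ext i j
      fin_cases i <;> fin_cases j <;> simp
    · subst hα
      refine ⟨!![0, -1; -1, 0], by simp [det_fin_two], ?_⟩
      ext i j
      fin_cases i <;> fin_cases j <;> simp [mul_comm]
  · refine ⟨!![1, 0; -((t0 - t1) / α), -1], by simp [det_fin_two], ?_⟩
    ext i j
    fin_cases i <;> fin_cases j <;> simp <;> field_simp <;> ring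

abbrev Quad (F : Type*) := Matrix (Fin 2 ⊕ Fin 2) (Fin 2 ⊕ Fin 2) F

theorem orb_blockUpper {p p' : F} (h : p ≠ p') (Z : Matrix (Fin 2) (Fin 2) F) :
    Orb (fromBlocks (p • (1 : Matrix (Fin 2) (Fin 2) F)) Z 0 (p' • 1) : Quad F)
      (fromBlocks (p • 1) 0 0 (p' • 1)) := by
  have hp : p - p' ≠ 0 := sub_ne_zero.2 h
  refine ⟨fromBlocks 1 ((p - p')⁻¹ • Z) 0 1, by simp [det_fromBlocks_zero₂₁], ?_⟩
  rw [fromBlocks_multiply, fromBlocks_multiply]
  congr 1
  · simp
  · simp only [one_mul, zero_mul, add_zero, Matrix.mul_smul, Matrix.smul_mul, mul_one, smul_smul]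
    rw [show Z + (p' * (p - p')⁻¹) • Z = (1 + p' * (p - p')⁻¹) • Z by rw [add_smul, one_smul]]
    congr 1
    field_simp
    ring
  · simp
  · simp

theorem inProd_append {ι : Type*} [Fintype ι] [DecidableEq ι] {l l' : List (Matrix ι ι F)}
    {g g' : Matrix ι ι F} (h : InProd l g) (h' : InProd l' g') : InProd (l ++ l') (g * g') := by
  obtain ⟨y, h1, h2⟩ := h
  obtain ⟨y', h1', h2'⟩ := h'
  exact ⟨y ++ y', List.rel_append h1 h1', by rw [List.prod_append, h2, h2']⟩

/-- Four factors: a product of two conjugates which is conjugate to its inverse. -/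
theorem inProd_one_quad {x : Quad F} {P X' R Q Q' : Matrix (Fin 2) (Fin 2) F}
    (hx : Orb x (fromBlocks P X' 0 R)) (hdet : P.det * R.det = 1)
    (hQ : Q.det = -1) (hQP : Q * P = adjugate P * Q)
    (hQ' : Q'.det = -1) (hQR : Q' * R = adjugate R * Q') :
    InProd (List.replicate 4 x) 1 := by
  have hu : IsUnit Q'.det := by rw [hQ']; exact isUnit_one.neg
  obtain ⟨p, hp⟩ : ∃ p, p = P.det := ⟨_, rfl⟩
  obtain ⟨p', hp'⟩ : ∃ p', p' = R.det := ⟨_, rfl⟩
  rw [← hp, ← hp'] at hdet
  obtain ⟨Y, hY⟩ : ∃ Y, Y = Q * X' * Q'⁻¹ := ⟨_, rfl⟩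
  have h2 : Orb x (fromBlocks (adjugate P) Y 0 (adjugate R)) := by
    refine hx.trans ⟨fromBlocks Q 0 0 Q', by rw [det_fromBlocks_zero₂₁, hQ, hQ']; ring, ?_⟩
    rw [fromBlocks_multiply, fromBlocks_multiply]
    congr 1
    · simp [hQP]
    · simp [hY, mul_assoc, nonsing_inv_mul _ hu]
    · simp
    · simp [hQR]
  obtain ⟨Z, hZ⟩ : ∃ Z, Z = P * Y + X' * adjugate R := ⟨_, rfl⟩
  obtain ⟨g, hg⟩ : ∃ g : Quad F, g = fromBlocks (p • 1) Z 0 (p' • 1) := ⟨_, rfl⟩
  obtain ⟨g', hg'⟩ : ∃ g' : Quad F, g' = fromBlocks (p' • 1) (-Z) 0 (p • 1) := ⟨_, rfl⟩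
  have h2prod : InProd [x, x] g := by
    refine ⟨[fromBlocks P X' 0 R, fromBlocks (adjugate P) Y 0 (adjugate R)],
      List.Forall₂.cons hx (List.Forall₂.cons h2 List.Forall₂.nil), ?_⟩
    simp [fromBlocks_multiply, mul_adjugate, hg, hZ, hp, hp']
  have hinv : g * g' = 1 := by
    rw [hg, hg', fromBlocks_multiply, ← fromBlocks_one]
    simp [smul_smul, hdet, mul_comm p']
  have horb : Orb g g' := by
    rw [hg, hg']
    by_cases hpp : p = p'
    · subst hpp
      refine ⟨fromBlocks (-1) 0 0 1, by simp [det_fromBlocks_zero₂₁, det_neg], ?_⟩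
      rw [fromBlocks_multiply, fromBlocks_multiply]
      simp
    · refine (orb_blockUpper hpp Z).trans (Orb.trans ?_ (orb_blockUpper (Ne.symm hpp) (-Z)).symm)
      refine ⟨fromBlocks 0 1 (-1) 0, ?_, ?_⟩
      · have e : (fromBlocks 0 1 (-1) 0 : Quad F) =
            fromBlocks 1 1 0 1 * fromBlocks 1 0 (-1) 1 * fromBlocks 1 1 0 1 := by
          rw [fromBlocks_multiply, fromBlocks_multiply]
          simp
        rw [e, det_mul, det_mul, det_fromBlocks_zero₂₁, det_fromBlocks_zero₁₂]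
        simp
      · rw [fromBlocks_multiply, fromBlocks_multiply]
        simp
  have key := inProd_append h2prod (h2prod.conj horb)
  rw [hinv] at key
  exact key

theorem inProd_one_four {x : Matrix (Fin 4) (Fin 4) F} (hs : SplitMat x) (hdx : x.det = 1) :
    InProd (List.replicate 4 x) 1 := by
  obtain ⟨d, hd⟩ := exists_charpoly_prod hs
  obtain ⟨T, hT, hup, -⟩ := exists_upper (x := x) (d := d) hd
  let e : Fin 4 ≃ Fin 2 ⊕ Fin 2 := (finSumFinEquiv (m := 2) (n := 2)).symm
  obtain ⟨T', hT'e⟩ : ∃ T' : Quad F, T' = reindexAlgEquiv F F e T := ⟨_, rfl⟩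
  obtain ⟨P, hP⟩ : ∃ P, P = T'.toBlocks₁₁ := ⟨_, rfl⟩
  obtain ⟨R, hR⟩ : ∃ R, R = T'.toBlocks₂₂ := ⟨_, rfl⟩
  have hP10 : P 1 0 = 0 := by
    simpa [hP, hT'e, toBlocks₁₁, e, finSumFinEquiv] using hup 1 0 (by decide)
  have hR10 : R 1 0 = 0 := by
    simpa [hR, hT'e, toBlocks₂₂, e, finSumFinEquiv] using hup 3 2 (by decide)
  have hC : T'.toBlocks₂₁ = 0 := by
    ext i j
    fin_cases i <;> fin_cases j <;>
      simpa [hT'e, toBlocks₂₁, e, finSumFinEquiv] using hup _ _ (by decide)
  have hT' : T' = fromBlocks P T'.toBlocks₁₂ 0 R := by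
    rw [hP, hR, ← hC, fromBlocks_toBlocks]
  have hdet : P.det * R.det = 1 := by
    have h := congrArg Matrix.det hT'
    rw [det_fromBlocks_zero₂₁, hT'e, det_reindexAlgEquiv, hT.det_eq, hdx] at h
    exact h.symm
  have hPe : P = !![P 0 0, P 0 1; 0, P 1 1] := by
    rw [eta_fin_two P]; simp [hP10]
  have hRe : R = !![R 0 0, R 0 1; 0, R 1 1] := by
    rw [eta_fin_two R]; simp [hR10]
  obtain ⟨Q, hQ, hQP⟩ := exists_adj_conj (P 0 0) (P 1 1) (P 0 1)
  obtain ⟨Q', hQ', hQR⟩ := exists_adj_conj (R 0 0) (R 1 1) (R 0 1)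
  rw [← hPe] at hQP
  rw [← hRe] at hQR
  have hxT : Orb (reindexAlgEquiv F F e x) T' := hT'e ▸ hT.reindex e
  rw [hT'] at hxT
  have key := (inProd_one_quad hxT hdet hQ hQP hQ' hQR).reindex e.symm
  rw [map_one, List.map_replicate] at key
  convert key using 2
  ext i j
  simp

end CfsgLib.Lev.Special
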