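import Cfsg.Agent.Lib.Lev.RankOneProd
import Cfsg.Agent.Lib.Lev.SplitSmall

/-!
Piece H of the covering number of `PSL n q`: rank one classes, and the identity for `n = 3, 4`.
-/

set_option autoImplicit false

namespace CfsgLib.Lev

open Matrix

variable {F : Type*} [Field F]

/-- The rank one case, relative to the `L * U` normal form (`Forms.exists_lu`). -/
theorem inProd_rankOne_of {n : ℕ} (hn : 3 ≤ n)
    (hLU : ∀ g : Matrix (Fin n) (Fin n) F, ¬ IsScalarMat g → g.det ≠ 0 → ∀ d : Fin n → F,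
      ∏ i, d i = g.det → ∃ L U : Matrix (Fin n) (Fin n) F, Orb g (L * U) ∧
        (∀ i j, i < j → L i j = 0) ∧ (∀ i, L i i = 1) ∧
        (∀ i j, j < i → U i j = 0) ∧ ∀ i, U i i = d i)
    {x : Matrix (Fin n) (Fin n) F} (hx : RankOne x) (hxs : ¬ IsScalarMat x) (hdx : x.det = 1)
    {g : Matrix (Fin n) (Fin n) F} (hdg : g.det = 1) (h : ¬ IsScalarMat g ∨ g = 1) :
    InProd (List.replicate n x) g := by
  obtain ⟨c, a, b, rfl⟩ := hx
  have ha : a ≠ 0 := by
    rintro rfl
    exact hxs ⟨c, by ext i j; simp [vecMulVec_apply]⟩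
  have hb : b ≠ 0 := by
    rintro rfl
    exact hxs ⟨c, by ext i j; simp [vecMulVec_apply]⟩
  have hc : c ≠ 0 := by
    rintro rfl
    obtain ⟨p, q, hbp, -, hqp⟩ := Special.exists_perp_pair (by simpa using hn) ha hb
    have hp : p ≠ 0 := by rintro rfl; simp at hqp
    have h0 : ((0 : F) • (1 : Matrix (Fin n) (Fin n) F) + vecMulVec a b).det = 0 :=
      exists_mulVec_eq_zero_iff.1 ⟨p, hp, by
        rw [zero_smul, zero_add, Special.outer_mulVec, hbp, zero_smul]⟩
    exact one_ne_zero (hdx.symm.trans h0)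
  obtain ⟨δ, hδc⟩ : ∃ δ, c * δ = c + b ⬝ᵥ a := ⟨(c + b ⬝ᵥ a) / c, mul_div_cancel₀ _ hc⟩
  have hcδ : c ^ n * δ = 1 := by
    have e : c • (1 : Matrix (Fin n) (Fin n) F) + vecMulVec a b =
        c • (1 + vecMulVec (c⁻¹ • a) b) := by
      rw [smul_add, smul_vecMulVec, smul_smul, mul_inv_cancel₀ hc, one_smul]
    have e' : 1 + b ⬝ᵥ (c⁻¹ • a) = δ := by
      rw [dotProduct_smul, smul_eq_mul]
      field_simp
      linear_combination -hδc
    rw [e, det_smul, Fintype.card_fin, Special.det_one_add_outer, e'] at hdx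
    exact hdx
  have hδ : δ ≠ 0 := right_ne_zero_of_mul_eq_one hcδ
  obtain ⟨L, U, hgo, hL, hL1, hU, hU1⟩ : ∃ L U : Matrix (Fin n) (Fin n) F,
      Orb (δ • g) (L * U) ∧ (∀ i j, i < j → L i j = 0) ∧ (∀ i, L i i = 1) ∧
        (∀ i j, j < i → U i j = 0) ∧ ∀ i, U i i = δ := by
    rcases h with hg | rfl
    · have hdg' : (δ • g).det = δ ^ n := by rw [det_smul, hdg, Fintype.card_fin, mul_one]
      exact hLU (δ • g)
        (fun ⟨t, ht⟩ => hg ⟨δ⁻¹ * t, by rw [mul_smul, ← ht, inv_smul_smul₀ hδ]⟩)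
        (hdg' ▸ pow_ne_zero n hδ) (fun _ => δ) (by simp [hdg'])
    · refine ⟨1, δ • 1, by rw [one_mul]; exact Orb.refl _, ?_, ?_, ?_, ?_⟩
      · intro i j hij; simp [hij.ne]
      · intro i; simp
      · intro i j hij; simp [hij.ne']
      · intro i; simp
  obtain ⟨k, kd, ke⟩ := hgo
  refine (Special.inProd_outer hn ha hb hc hδc hδ hL hL1 hU hU1).conj (Orb.symm ⟨k, kd, ?_⟩)
  have e : g = c ^ n • (δ • g) := by rw [smul_smul, hcδ, one_smul]
  conv_lhs => rw [e]
  rw [Matrix.mul_smul, ke, Matrix.smul_mul]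

/-- The identity is a product of `n` conjugates of a split matrix, `n = 3, 4`. -/
theorem inProd_one_split_small [Fintype F] (hq : 4 ≤ Fintype.card F) {n : ℕ} (hn : n = 3 ∨ n = 4)
    {x : Matrix (Fin n) (Fin n) F} (hs : SplitMat x) (hr : ¬ RankOne x) (hdx : x.det = 1) :
    InProd (List.replicate n x) 1 := by
  rcases hn with rfl | rfl
  · exact Special.inProd_one_three (le_trans (by norm_num) hq) hs hr hdx
  · exact Special.inProd_one_four hs hdx

end CfsgLib.Lev
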