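import Cfsg.Agent.Lib.Lev.EigenFour
import Cfsg.Agent.Lib.Lev.EigenStep
import Cfsg.Agent.Lib.Lev.Special
import Cfsg.Agent.Lib.Lev.GlueFinal
import Cfsg.Agent.Lib.Lev.IrredBigFinal
import Cfsg.Agent.Lib.Lev.Forms
import Mathlib.LinearAlgebra.Matrix.ProjectiveSpecialLinearGroup

/-!
Covering number of `PSL n q` (Lev), assembly: every element is a product of `n` conjugates of any
given nontrivial element.
-/

set_option autoImplicit false

namespace CfsgLib.Lev

open Matrix

variable {F : Type*} [Field F] [Fintype F]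

theorem splitSpec (hq : 4 ≤ Fintype.card F) {n : ℕ} (hn : 4 ≤ n) : SplitSpec F n := by
  induction n, hn using Nat.le_induction with
  | base => exact splitSpec_four hq
  | succ k hk ih => exact splitSpec_succ hq hk ih

theorem inProd_main (hq : 4 ≤ Fintype.card F) (hI : IrredSpec F) (hP : PrimarySpec F) {n : ℕ}
    (hn : 3 ≤ n) {x g : Matrix (Fin n) (Fin n) F} (hx : ¬ IsScalarMat x) (hdx : x.det = 1)
    (hdg : g.det = 1) (hg : ¬ IsScalarMat g ∨ g = 1) : InProd (List.replicate n x) g := by
  have hd0 : x.det ≠ 0 := by rw [hdx]; exact one_ne_zero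
  have hN : NoEigenSpec F := noEigenSpec hq hI hP
    fun h4 _ hirr _ hm _ hdet => inProd_irreducible_big hq h4 hirr hm hdet
  have hpow : ∀ m : ℕ, x.det ^ m = 1 := fun m => by rw [hdx, one_pow]
  by_cases he : NoEigen x
  · refine hN n x (by omega) he n g (by rw [hdg, hpow]) ?_
    rcases hg with hg | hg
    · exact Or.inl ⟨hg, le_rfl, fun h => absurd h (by omega)⟩
    · exact Or.inr (Or.inr ⟨hn, rfl, hg, hdx⟩)
  by_cases hs : SplitMat x
  · by_cases hr : RankOne x
    · exact inProd_rankOne_of hn (fun g hg hd d hp => exists_lu hg hd d hp) hr hx hdx hdg hg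
    rcases hg with hg | rfl
    · have hdet : g.det = ((List.replicate n x).map det).prod := by
        rw [List.map_replicate, List.prod_replicate, hpow, hdg]
      have hl : ∀ y ∈ List.replicate n x, SplitMat y ∧ ¬ IsScalarMat y ∧ y.det ≠ 0 := fun y hy => by
        rw [(List.mem_replicate.1 hy).2]
        exact ⟨hs, hx, hd0⟩
      have hex : ∃ y ∈ List.replicate n x, ¬ RankOne y :=
        ⟨x, List.mem_replicate.2 ⟨by omega, rfl⟩, hr⟩
      rcases eq_or_lt_of_le hn with rfl | h4
      · exact (good_three hq (by simp) hl hg hdet (Or.inr hex)).inProd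
      · exact (splitSpec hq h4 _ g (by simp) hl hg hdet hex).inProd
    · rcases (show n = 3 ∨ n = 4 ∨ 5 ≤ n by omega) with h | h | h
      · exact inProd_one_split_small hq (Or.inl h) hs hr hdx
      · exact inProd_one_split_small hq (Or.inr h) hs hr hdx
      · exact inProd_one_split hq h (splitSpec hq (by omega)) hs hr hdx
  rcases hg with hg | rfl
  · exact (good_nonsplit hq hN hn hs he hd0 (Nat.sub_le n 1) hg (by rw [hdg, hpow])).inProd
  · have hu : IsUnit x.det := isUnit_iff_ne_zero.2 hd0
    have h1 : InProd (List.replicate (n - 1) x) x⁻¹ :=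
      (good_nonsplit hq hN hn hs he hd0 le_rfl (EigenStep.not_isScalarMat_inv hd0 hx)
        (by rw [det_nonsing_inv, hdx, Ring.inverse_one, one_pow])).inProd
    have h2 : InProd [x] x := ⟨[x], List.Forall₂.cons (Orb.refl x) List.Forall₂.nil, by simp⟩
    have h3 := Special.inProd_append h1 h2
    rw [nonsing_inv_mul _ hu] at h3
    obtain ⟨k, rfl⟩ : ∃ k, n = k + 1 := ⟨n - 1, by omega⟩
    rw [List.replicate_succ']
    exact h3

omit [Fintype F] in
theorem exists_lift {n : ℕ} (X : SpecialLinearGroup (Fin n) F) :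
    ∀ y : List (Matrix (Fin n) (Fin n) F),
      List.Forall₂ Orb (List.replicate y.length (X : Matrix (Fin n) (Fin n) F)) y →
      ∃ hs : List (SpecialLinearGroup (Fin n) F), hs.length = y.length ∧
        (((hs.map fun h => h * X * h⁻¹).prod : SpecialLinearGroup (Fin n) F) :
          Matrix (Fin n) (Fin n) F) = y.prod := by
  intro y
  induction y with
  | nil => intro _; exact ⟨[], rfl, by simp⟩
  | cons a t ih =>
    intro h
    rw [List.length_cons, List.replicate_succ] at h
    cases h with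
    | cons h1 h2 =>
    obtain ⟨hs, e1, e2⟩ := ih h2
    obtain ⟨k, kd, ke⟩ := h1
    let K : SpecialLinearGroup (Fin n) F := ⟨k, kd⟩
    refine ⟨K :: hs, by simp [e1], ?_⟩
    rw [List.map_cons, List.prod_cons, SpecialLinearGroup.coe_mul, e2, List.prod_cons]
    congr 1
    have hu : IsUnit k.det := by rw [kd]; exact isUnit_one
    rw [SpecialLinearGroup.coe_mul, SpecialLinearGroup.coe_mul, SpecialLinearGroup.coe_inv]
    show k * (X : Matrix (Fin n) (Fin n) F) * k.adjugate = a
    rw [ke, mul_assoc, mul_adjugate, kd, one_smul, mul_one]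

omit [Fintype F] in
theorem mem_center_of_scalar {n : ℕ} {X : SpecialLinearGroup (Fin n) F}
    (h : IsScalarMat (X : Matrix (Fin n) (Fin n) F)) :
    X ∈ Subgroup.center (SpecialLinearGroup (Fin n) F) := by
  obtain ⟨c, hc⟩ := h
  refine Subgroup.mem_center_iff.2 fun Y => Subtype.ext ?_
  rw [SpecialLinearGroup.coe_mul, SpecialLinearGroup.coe_mul, hc]
  simp

/-- Every element of `PSL n q` is a product of `n` conjugates of any nontrivial one. -/
theorem exists_prod (hq : 4 ≤ Fintype.card F) (hI : IrredSpec F) (hP : PrimarySpec F) {n : ℕ}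
    (hn : 3 ≤ n) (x g : Matrix.ProjectiveSpecialLinearGroup (Fin n) F) (hx : x ≠ 1) :
    ∃ f : Fin n → Matrix.ProjectiveSpecialLinearGroup (Fin n) F,
      g = (List.ofFn fun i => f i * x * (f i)⁻¹).prod := by
  classical
  obtain ⟨X, rfl⟩ := QuotientGroup.mk_surjective x
  obtain ⟨G0, rfl⟩ := QuotientGroup.mk_surjective g
  have hX : ¬ IsScalarMat (X : Matrix (Fin n) (Fin n) F) := fun h =>
    hx ((QuotientGroup.eq_one_iff X).2 (mem_center_of_scalar h))
  obtain ⟨G, hG, hGc⟩ : ∃ G : SpecialLinearGroup (Fin n) F,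
      (G : Matrix.ProjectiveSpecialLinearGroup (Fin n) F) = G0 ∧
        (¬ IsScalarMat (G : Matrix (Fin n) (Fin n) F) ∨ (G : Matrix (Fin n) (Fin n) F) = 1) := by
    by_cases h : IsScalarMat (G0 : Matrix (Fin n) (Fin n) F)
    · exact ⟨1, ((QuotientGroup.eq_one_iff G0).2 (mem_center_of_scalar h)).symm, Or.inr rfl⟩
    · exact ⟨G0, rfl, Or.inl h⟩
  obtain ⟨y, h1, h2⟩ := inProd_main hq hI hP hn hX X.2 G.2 hGc
  have hlen : y.length = n := by
    have := h1.length_eq
    rw [List.length_replicate] at this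
    exact this.symm
  obtain ⟨hs, e1, e2⟩ := exists_lift X y (by rw [hlen]; exact h1)
  have hsn : hs.length = n := e1.trans hlen
  let π := QuotientGroup.mk' (Subgroup.center (SpecialLinearGroup (Fin n) F))
  refine ⟨fun i => π (hs[i.1]'(by rw [hsn]; exact i.2)), ?_⟩
  have hl : (List.ofFn fun i : Fin n => π (hs[i.1]'(by rw [hsn]; exact i.2)) * π X *
      (π (hs[i.1]'(by rw [hsn]; exact i.2)))⁻¹) = (hs.map fun h => h * X * h⁻¹).map π := by
    refine List.ext_getElem (by simp [hsn]) fun i hi1 hi2 => ?_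
    simp
  have hprod : G = (hs.map fun h => h * X * h⁻¹).prod := Subtype.ext (h2.symm.trans e2.symm)
  show _ = (List.ofFn fun i : Fin n => π (hs[i.1]'(by rw [hsn]; exact i.2)) * π X *
      (π (hs[i.1]'(by rw [hsn]; exact i.2)))⁻¹).prod
  rw [hl, ← map_list_prod, ← hprod]
  exact hG.symm

end CfsgLib.Lev
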