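import Cfsg.Agent.Lib.Lev.Primary.Pack
import Cfsg.Agent.Lib.Lev.Primary.Choice
import Cfsg.Agent.Lib.Lev.Primary.Flag
import Cfsg.Agent.Lib.Lev.GlueFinal
import Mathlib.Logic.Equiv.Fin.Basic
import Mathlib.Tactic.Ring

/-!
Covering number of `PSL n q` (Lev): classes whose characteristic polynomial is a power of an
irreducible polynomial of degree at least two.
-/

set_option autoImplicit false
set_option linter.unusedSectionVars false
set_option maxHeartbeats 1000000

namespace CfsgLib.Lev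

open Matrix Polynomial CfsgLib.Lev.Primary

namespace Primary

variable {F : Type*} [Field F]

theorem Sub.conj {κ ρ : Type*} [Fintype κ] [DecidableEq κ] [Fintype ρ] [DecidableEq ρ]
    {ys : List (Matrix ρ ρ F)} {f f' : F} (h : Sub κ ys f f') {c : Matrix ρ ρ F} (hu : IsUnit c.det) :
    Sub κ (ys.map fun x => c * x * c⁻¹) f f' := by
  obtain ⟨w0, cs, hinj, hcs, hns, hex, hmod⟩ := h
  have hcinj : Function.Injective c.mulVec :=
    Matrix.mulVec_injective_iff_isUnit.2 ((Matrix.isUnit_iff_isUnit_det _).2 hu)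
  have key : ∀ (y : Matrix ρ ρ F) (w : Matrix ρ κ F), c * y * c⁻¹ * w = c * (y * (c⁻¹ * w)) :=
    fun y w => by simp only [Matrix.mul_assoc]
  refine ⟨c * w0, cs, fun a b hab => hinj (hcinj ?_), ?_, hns, ?_, ?_⟩
  · simpa only [mulVec_mulVec] using hab
  · rw [List.forall₂_map_left_iff]
    refine hcs.imp fun y d hyd => ⟨?_, hyd.2⟩
    rw [key, nonsing_inv_mul_cancel_left _ _ hu, hyd.1, Matrix.mul_assoc]
  · intro Ks w hKs hw
    rw [List.forall₂_map_left_iff] at hKs
    obtain ⟨h1, d, h2⟩ := hex Ks (c⁻¹ * w) (hKs.imp fun y K hyK => ⟨hyK.1, by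
      have := congrArg (c⁻¹ * ·) hyK.2
      simpa only [key, nonsing_inv_mul_cancel_left _ _ hu, Matrix.mul_assoc] using this⟩)
      (fun h0 => hw (by rw [← mul_nonsing_inv_cancel_left c w hu, h0, Matrix.mul_zero]))
    exact ⟨h1, d, by rw [Matrix.mul_assoc, ← h2, mul_nonsing_inv_cancel_left _ _ hu]⟩
  · intro Ks w hKs
    rw [List.forall₂_map_left_iff] at hKs
    rcases hmod Ks (c⁻¹ * w) (hKs.imp fun y K hyK => ⟨hyK.1, by
      obtain ⟨d, hd⟩ := hyK.2
      refine ⟨d, ?_⟩
      have := congrArg (c⁻¹ * ·) hd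
      simpa only [Matrix.mul_sub, key, nonsing_inv_mul_cancel_left _ _ hu, Matrix.mul_assoc] using this⟩)
      with ⟨d, hd⟩ | h
    · exact Or.inl ⟨d, by rw [Matrix.mul_assoc, ← hd, mul_nonsing_inv_cancel_left _ _ hu]⟩
    · exact Or.inr h

/-- Two halves for a nonscalar target. -/
def Two (k e a b : ℕ) {ι : Type*} [Fintype ι] [DecidableEq ι] (l1 l2 : List (Matrix ι ι F))
    (g : Matrix ι ι F) : Prop :=
  ∃ y1 y2, List.Forall₂ Orb l1 y1 ∧ List.Forall₂ Orb l2 y2 ∧ y1.prod * y2.prod = g ∧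
    (e = 1 ∨ 3 ≤ a ∧ 3 ≤ b → ∃ f f' g1 g1' : F, Sub (Fin k) ((y1.map transpose).reverse) f f' ∧
      Sub (Fin k) y2 g1 g1' ∧ (e = 1 → f' = f ∧ g1' = g1))

/-- Two halves for a scalar target. -/
def One (k e a b : ℕ) {ι : Type*} [Fintype ι] [DecidableEq ι] (l1 l2 : List (Matrix ι ι F))
    (g : Matrix ι ι F) : Prop :=
  ∃ y1 y2, List.Forall₂ Orb l1 y1 ∧ List.Forall₂ Orb l2 y2 ∧ y1.prod * y2.prod = g ∧
    (e = 1 ∨ 3 ≤ a ∧ 3 ≤ b → ∃ g1 g1' : F, Sub (Fin k) y2 g1 g1' ∧ (e = 1 → g1' = g1))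

theorem transpose_prod {ι : Type*} [Fintype ι] [DecidableEq ι] (l : List (Matrix ι ι F)) :
    (l.prod)ᵀ = ((l.map transpose).reverse).prod := by
  induction l with
  | nil => simp
  | cons a t ih => rw [List.prod_cons, transpose_mul, ih, List.map_cons, List.reverse_cons, List.prod_append]; simp

theorem rev_rev {ι : Type*} (l : List (Matrix ι ι F)) :
    ((((l.map transpose).reverse).map transpose).reverse) = l := by
  rw [List.map_reverse, List.reverse_reverse, List.map_map]
  have : (transpose ∘ transpose : Matrix ι ι F → Matrix ι ι F) = id :=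
    funext fun x => transpose_transpose x
  rw [this, List.map_id]

theorem forall₂_rev {ι : Type*} [Fintype ι] [DecidableEq ι] {l y : List (Matrix ι ι F)}
    (h : List.Forall₂ Orb l y) :
    List.Forall₂ Orb (l.map transpose).reverse (y.map transpose).reverse := by
  rw [List.forall₂_reverse_iff, List.forall₂_map_left_iff, List.forall₂_map_right_iff]
  exact h.imp fun _ _ h => orb_transpose h

theorem forall₂_reindex {ι ι' : Type*} [Fintype ι] [DecidableEq ι] [Fintype ι'] [DecidableEq ι']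
    (e : ι ≃ ι') {l y : List (Matrix ι ι F)} (h : List.Forall₂ Orb l y) :
    List.Forall₂ Orb (l.map (reindexAlgEquiv F F e)) (y.map (reindexAlgEquiv F F e)) := by
  rw [List.forall₂_map_left_iff, List.forall₂_map_right_iff]
  exact h.imp fun _ _ h => h.reindex e

theorem _root_.List.Forall₂.trans_orb {ι : Type*} [Fintype ι] [DecidableEq ι]
    {l y z : List (Matrix ι ι F)} (h1 : List.Forall₂ Orb l y) (h2 : List.Forall₂ Orb y z) :
    List.Forall₂ Orb l z := by
  induction h1 generalizing z with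
  | nil => exact h2
  | cons h _ ih =>
    cases h2 with
    | cons h' h'' => exact List.Forall₂.cons (h.trans h') (ih h'')

theorem Two.of_orb {k e a b : ℕ} {ι : Type*} [Fintype ι] [DecidableEq ι]
    {l1 l2 : List (Matrix ι ι F)} {g : Matrix ι ι F}
    (h : ∃ g0, Orb (g0 : Matrix ι ι F) g ∧ ∃ y1 y2, List.Forall₂ Orb l1 y1 ∧ List.Forall₂ Orb l2 y2 ∧
      y1.prod * y2.prod = g0 ∧ (e = 1 ∨ 3 ≤ a ∧ 3 ≤ b → ∃ f f' g1 g1' : F,
        Sub (Fin k) ((y1.map transpose).reverse) f f' ∧ Sub (Fin k) y2 g1 g1' ∧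
          (e = 1 → f' = f ∧ g1' = g1))) :
    Two k e a b l1 l2 g := by
  obtain ⟨g0, hg, y1, y2, o1, o2, pr, hs⟩ := h
  obtain ⟨c, cd, ce⟩ := hg
  have hu : IsUnit c.det := by rw [cd]; exact isUnit_one
  set φ : Matrix ι ι F → Matrix ι ι F := fun x => c * x * c⁻¹ with hφ
  have hprod : ∀ y : List (Matrix ι ι F), (y.map φ).prod = φ y.prod := by
    intro y
    induction y with
    | nil => simp [hφ, mul_nonsing_inv _ hu]
    | cons a t ih =>
      rw [List.map_cons, List.prod_cons, List.prod_cons, ih]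
      simp only [hφ, Matrix.mul_assoc, nonsing_inv_mul_cancel_left _ _ hu]
  have horb : ∀ {l y : List (Matrix ι ι F)}, List.Forall₂ Orb l y →
      List.Forall₂ Orb l (y.map φ) := fun hh => by
    rw [List.forall₂_map_right_iff]
    refine hh.imp fun a b hab => hab.trans ⟨c, cd, ?_⟩
    simp only [hφ, Matrix.mul_assoc, nonsing_inv_mul _ hu, Matrix.mul_one]
  refine ⟨y1.map φ, y2.map φ, horb o1, horb o2, ?_, fun hc => ?_⟩
  · rw [← List.prod_append, ← List.map_append, hprod, List.prod_append, pr, hφ]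
    simp only
    rw [ce, Matrix.mul_assoc, mul_nonsing_inv _ hu, Matrix.mul_one]
  · obtain ⟨f, f', g1, g1', s1, s2, h1⟩ := hs hc
    refine ⟨f, f', g1, g1', ?_, s2.conj hu, h1⟩
    have hct : IsUnit (c⁻¹)ᵀ.det := by
      rw [det_transpose, det_nonsing_inv, cd, Ring.inverse_one]; exact isUnit_one
    have e1 : ((y1.map φ).map transpose).reverse =
        ((y1.map transpose).reverse).map fun x => (c⁻¹)ᵀ * x * ((c⁻¹)ᵀ)⁻¹ := by
      rw [List.map_reverse, List.map_map, List.map_map]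
      congr 1
      refine List.map_congr_left fun x _ => ?_
      simp only [Function.comp_apply, hφ, transpose_mul, ← transpose_nonsing_inv,
        nonsing_inv_nonsing_inv _ hu, Matrix.mul_assoc]
    rw [e1]
    exact s1.conj hct

theorem items_of {κ ρ : Type*} [Fintype κ] [DecidableEq κ] [Fintype ρ] [DecidableEq ρ]
    (cK : Matrix (κ ⊕ ρ) (κ ⊕ ρ) F → Matrix κ κ F)
    (cu : Matrix (κ ⊕ ρ) (κ ⊕ ρ) F → Matrix κ ρ F)
    (cz : Matrix (κ ⊕ ρ) (κ ⊕ ρ) F → Matrix ρ ρ F) :
    ∀ (xs : List (Matrix (κ ⊕ ρ) (κ ⊕ ρ) F)) (Ks : List (Matrix κ κ F)) (ys : List (Matrix ρ ρ F)),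
      (∀ x ∈ xs, Orb x (fromBlocks (cK x) (cu x) 0 (cz x))) →
      List.Forall₂ Orb (xs.map cK) Ks → List.Forall₂ Orb (xs.map cz) ys →
      ∃ t : List (Matrix κ κ F × Matrix ρ ρ F × Matrix κ ρ F),
        List.Forall₂ Orb xs (t.map blk) ∧ (t.map fun i => i.1) = Ks ∧ (t.map fun i => i.2.1) = ys := by
  intro xs
  induction xs with
  | nil =>
    intro Ks ys _ hK hy
    simp only [List.map_nil, List.forall₂_nil_left_iff] at hK hy
    exact ⟨[], List.Forall₂.nil, by simp [hK], by simp [hy]⟩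
  | cons x xs ih =>
    intro Ks ys hx hK hy
    rw [List.map_cons, List.forall₂_cons_left_iff] at hK hy
    obtain ⟨K, Ks, ⟨a, ad, ae⟩, hK, rfl⟩ := hK
    obtain ⟨y, ys, ⟨b, bd, be⟩, hy, rfl⟩ := hy
    obtain ⟨t, h1, h2, h3⟩ := ih Ks ys (fun z hz => hx z (List.mem_cons_of_mem _ hz)) hK hy
    refine ⟨(K, y, a * cu x * b⁻¹) :: t, ?_, by simp [h2], by simp [h3]⟩
    refine List.Forall₂.cons ((hx x List.mem_cons_self).trans ?_) h1
    have hb : IsUnit b.det := by rw [bd]; exact isUnit_one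
    refine ⟨fromBlocks a 0 0 b, by rw [det_fromBlocks_zero₂₁, ad, bd, one_mul], ?_⟩
    simp [blk, fromBlocks_multiply, ae, be, Matrix.mul_assoc, nonsing_inv_mul _ hb]

variable [Fintype F]

section Rec

variable (hq : 4 ≤ Fintype.card F) (hI : IrredSpec F) {k : ℕ} (hk : 2 ≤ k) {p : F[X]}
  (hp : Irreducible p) (hpm : p.Monic) (hpk : p.natDegree = k)
  {a b : ℕ} (ha : k ≤ a) (hb : a ≤ b)
include hq hI hk hp hpm hpk ha hb

theorem base {l1 l2 : List (Matrix (Fin k) (Fin k) F)} (h1 : l1.length = a) (h2 : l2.length = b)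
    (hl1 : ∀ x ∈ l1, x.charpoly = p) (hl2 : ∀ x ∈ l2, x.charpoly = p)
    {g : Matrix (Fin k) (Fin k) F} (hdet : g.det = pdet p ^ (a + b)) :
    (¬ IsScalarMat g → Two k 1 a b l1 l2 g) ∧ (IsScalarMat g → One k 1 a b l1 l2 g) := by
  have hd : pdet p ≠ 0 := pdet_ne_zero hp (by omega)
  have main : ∀ H, ¬ IsScalarMat H → H.det = pdet p ^ a → ¬ IsScalarMat (H⁻¹ * g) →
      (k = 2 → H.trace ^ 2 ≠ 4 * H.det) →
      (k = 2 → (H⁻¹ * g).trace ^ 2 ≠ 4 * (H⁻¹ * g).det) →
      ∃ y1 y2, List.Forall₂ Orb l1 y1 ∧ List.Forall₂ Orb l2 y2 ∧ y1.prod * y2.prod = g ∧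
        Sub (Fin k) ((y1.map transpose).reverse) H.trace H.trace ∧
        Sub (Fin k) y2 (H⁻¹ * g).trace (H⁻¹ * g).trace := by
    intro H hH hHd hT hdH hdT
    have hTd : (H⁻¹ * g).det = pdet p ^ b := by
      rw [det_mul, det_nonsing_inv, hdet, hHd, Ring.inverse_eq_inv', pow_add, ← mul_assoc,
        inv_mul_cancel₀ (pow_ne_zero _ hd), one_mul]
    obtain ⟨y1, o1, p1, c1⟩ := exists_list hk hI hp hl1 (by omega) hH (by rw [hHd, h1])
      (fun e _ => hdH e)
    obtain ⟨y2, o2, p2, c2⟩ := exists_list hk hI hp hl2 (by omega) hT (by rw [hTd, h2])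
      (fun e _ => hdT e)
    refine ⟨y1, y2, o1, o2, ?_, ?_, ?_⟩
    · rw [p1, p2, ← Matrix.mul_assoc, mul_nonsing_inv _ (by
        rw [isUnit_iff_ne_zero, hHd]; exact pow_ne_zero _ hd), Matrix.one_mul]
    · have hpr : ((y1.map transpose).reverse).prod = Hᵀ := by rw [← transpose_prod, p1]
      have := sub_base (ys := (y1.map transpose).reverse) (fun h0 => by
          have h' := congrArg List.length h0
          simp at h'
          have := o1.length_eq; rw [h'] at this; simp only [List.length_nil] at this; omega)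
        (fun y hy => by
          simp only [List.mem_reverse, List.mem_map] at hy
          obtain ⟨z, hz, rfl⟩ := hy
          rw [Matrix.charpoly_transpose, c1 z hz]; exact hp)
        (fun ⟨c, hc⟩ => hH ⟨c, transpose_injective (by
          rw [← hpr, hc, transpose_smul, transpose_one])⟩)
        ((y1.map transpose).reverse.prod.trace)
      rw [hpr, trace_transpose] at this
      exact this
    · have := sub_base (ys := y2) (fun h0 => by
          subst h0; have := o2.length_eq; simp only [List.length_nil] at this; omega)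
        (fun y hy => by rw [c2 y hy]; exact hp) (by rw [p2]; exact hT) (y2.prod.trace)
      rwa [p2] at this
  refine ⟨fun hg => ?_, fun hg => ?_⟩
  · have hgd : g.det ≠ 0 := by rw [hdet]; exact pow_ne_zero _ hd
    obtain ⟨H, hH, hHd, -, -, hT, -, -, e1, e2⟩ :=
      exists_choice hq hk hg hgd (pow_ne_zero a hd) 0 0 0 0
    obtain ⟨y1, y2, o1, o2, pr, s1, s2⟩ :=
      main H hH hHd hT (fun e => e1 e rfl) (fun e => e2 e rfl)
    exact ⟨y1, y2, o1, o2, pr, fun _ => ⟨_, _, _, _, s1, s2, fun _ => ⟨rfl, rfl⟩⟩⟩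
  · obtain ⟨s, rfl⟩ := hg
    have hs : s ≠ 0 := by
      rintro rfl
      haveI : Nonempty (Fin k) := ⟨⟨0, by omega⟩⟩
      rw [zero_smul, det_zero] at hdet
      exact pow_ne_zero _ hd hdet.symm
    obtain ⟨H, hH, hHd, hT, -, -, e1⟩ := exists_choice_scalar hq hk hs (pow_ne_zero a hd) 0 0
    obtain ⟨y1, y2, o1, o2, pr, -, s2⟩ :=
      main H hH hHd hT (fun e => (e1 e rfl).1) (fun e => (e1 e rfl).2)
    exact ⟨y1, y2, o1, o2, pr, fun _ => ⟨_, _, s2, fun _ => rfl⟩⟩

/-- The induction. `ab` records that the halves are long enough to pass the invariant on. -/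
theorem rec_step {e : ℕ} (he : 1 ≤ e) (hcond : e = 1 ∨ 3 ≤ a ∧ 3 ≤ b)
    (hlow : k = 2 → a = 2 → e = 1) (hlowb : k = 2 → b = 2 → e = 1)
    (ih : ∀ (l1 l2 : List (Matrix (Fin (k * e)) (Fin (k * e)) F)), l1.length = a → l2.length = b →
      (∀ x ∈ l1, x.charpoly = p ^ e) → (∀ x ∈ l2, x.charpoly = p ^ e) →
      ∀ g : Matrix (Fin (k * e)) (Fin (k * e)) F, g.det = pdet p ^ (e * (a + b)) →
        (¬ IsScalarMat g → Two k e a b l1 l2 g) ∧
        (∀ s : F, g = s • 1 → s ^ k = pdet p ^ (a + b) → One k e a b l1 l2 g))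
    {l1 l2 : List (Matrix (Fin (k * (e + 1))) (Fin (k * (e + 1))) F)}
    (h1 : l1.length = a) (h2 : l2.length = b) (hl1 : ∀ x ∈ l1, x.charpoly = p ^ (e + 1))
    (hl2 : ∀ x ∈ l2, x.charpoly = p ^ (e + 1))
    {g : Matrix (Fin (k * (e + 1))) (Fin (k * (e + 1))) F}
    (hdet : g.det = pdet p ^ ((e + 1) * (a + b))) :
    (¬ IsScalarMat g → Two k (e + 1) a b l1 l2 g) ∧
      (∀ s : F, g = s • 1 → s ^ k = pdet p ^ (a + b) → One k (e + 1) a b l1 l2 g) := by
  classical
  have hd : pdet p ≠ 0 := pdet_ne_zero hp (by omega)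
  set E : Fin k ⊕ Fin (k * e) ≃ Fin (k * (e + 1)) :=
    finSumFinEquiv.trans (finCongr (by ring)) with hE
  set R := reindexAlgEquiv F F E with hR
  have hflag : ∀ x : Matrix (Fin k ⊕ Fin (k * e)) (Fin k ⊕ Fin (k * e)) F, ∃ K u z,
      x.charpoly = p ^ (e + 1) →
        Orb x (fromBlocks K u 0 z) ∧ K.charpoly = p ∧ z.charpoly = p ^ e := by
    intro x
    by_cases h : x.charpoly = p ^ (e + 1)
    · obtain ⟨K, u, z, hh⟩ := exists_flag hp hpm hpk h
      exact ⟨K, u, z, fun _ => hh⟩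
    · exact ⟨0, 0, 0, fun h' => absurd h' h⟩
  choose cK cu cz hcf using hflag
  set m1 := l1.map R.symm with hm1
  set m2 := l2.map R.symm with hm2
  set n1 := (m1.map transpose).reverse with hn1
  have cm1 : ∀ x ∈ m1, x.charpoly = p ^ (e + 1) := fun x hx => by
    obtain ⟨y, hy, rfl⟩ := List.mem_map.1 hx
    rw [hR, symm_reindexAlgEquiv, coe_reindexAlgEquiv, charpoly_reindex, hl1 y hy]
  have cm2 : ∀ x ∈ m2, x.charpoly = p ^ (e + 1) := fun x hx => by
    obtain ⟨y, hy, rfl⟩ := List.mem_map.1 hx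
    rw [hR, symm_reindexAlgEquiv, coe_reindexAlgEquiv, charpoly_reindex, hl2 y hy]
  have cn1 : ∀ x ∈ n1, x.charpoly = p ^ (e + 1) := fun x hx => by
    simp only [hn1, List.mem_reverse, List.mem_map] at hx
    obtain ⟨z, hz, rfl⟩ := hx
    rw [charpoly_transpose, cm1 z hz]
  have hf : ∀ {xs : List (Matrix (Fin k ⊕ Fin (k * e)) (Fin k ⊕ Fin (k * e)) F)},
      (∀ x ∈ xs, x.charpoly = p ^ (e + 1)) →
      (∀ x ∈ xs.map cK, x.charpoly = p) ∧ (∀ x ∈ xs.map cz, x.charpoly = p ^ e) ∧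
        (∀ x ∈ xs, Orb x (fromBlocks (cK x) (cu x) 0 (cz x))) := by
    intro xs hxs
    refine ⟨fun x hx => ?_, fun x hx => ?_, fun x hx => (hcf x (hxs x hx)).1⟩
    all_goals
      obtain ⟨y, hy, rfl⟩ := List.mem_map.1 hx
    · exact (hcf y (hxs y hy)).2.1
    · exact (hcf y (hxs y hy)).2.2
  have hback : ∀ {l : List (Matrix (Fin (k * (e + 1))) (Fin (k * (e + 1))) F)},
      (l.map R.symm).map R = l := fun {l} => by
    rw [List.map_map]; simp [Function.comp_def]
  set g0 := R.symm g with hg0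
  have hg0d : g0.det = pdet p ^ ((e + 1) * (a + b)) := by
    rw [hg0, hR, symm_reindexAlgEquiv, det_reindexAlgEquiv, hdet]
  have hgR : R g0 = g := R.apply_symm_apply g
  have hlc : (n1.map cK).length = a := by simp [hn1, hm1, h1]
  have hlz : (n1.map cz).length = a := by simp [hn1, hm1, h1]
  refine ⟨fun hgs => ?_, fun s hgs hsk => ?_⟩
  · have hg0s : ¬ IsScalarMat g0 := fun ⟨c, hc⟩ =>
      hgs ⟨c, by rw [← hgR, hc, map_smul, map_one]⟩
    obtain ⟨A, B, C, D, hAB, hA, -, hAns, hSns⟩ := exists_block (k := k) (r := k * e) hq (by omega)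
      (by nlinarith) hg0s (by rw [hg0d]; exact pow_ne_zero _ hd) (pow_ne_zero (a + b) hd)
    have hS2 : 2 ≤ k * e := by nlinarith
    set S := D - C * A⁻¹ * B with hSdef
    have hAd : A.det ≠ 0 := by rw [hA]; exact pow_ne_zero _ hd
    have hSd : S.det = pdet p ^ (e * (a + b)) := by
      have h3 := det_schur B C D hAd
      rw [hAB.det_eq, hg0d, hA, add_mul, one_mul, pow_add, mul_comm] at h3
      exact (mul_left_cancel₀ (pow_ne_zero _ hd) h3).symm
    obtain ⟨z1, z2, oz1, oz2, pz, hz⟩ := (ih ((n1.map cz).map transpose).reverse (m2.map cz)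
      (by simp [hn1, hm1, h1]) (by simp [hm2, h2])
      (fun x hx => by
        simp only [List.mem_reverse, List.mem_map] at hx
        obtain ⟨z, ⟨w, hw, rfl⟩, rfl⟩ := hx
        rw [charpoly_transpose]; exact (hcf w (cn1 w hw)).2.2)
      (hf cm2).2.1 S hSd).1 (hSns hS2)
    obtain ⟨f, f', g1, g1', hsf, hsg, heq⟩ := hz hcond
    obtain ⟨H, hH, hHd, hf1, hf2, hT, hg1, hg2, hdH, hdT⟩ :=
      exists_choice hq hk (hAns hk) hAd (pow_ne_zero a hd) f f' g1 g1'
    set T := H⁻¹ * A with hTdef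
    have hHu : IsUnit H.det := by rw [isUnit_iff_ne_zero, hHd]; exact pow_ne_zero _ hd
    have hHT : H * T = A := by rw [hTdef, ← Matrix.mul_assoc, mul_nonsing_inv _ hHu, Matrix.one_mul]
    have hTd : T.det = pdet p ^ b := by
      rw [hTdef, det_mul, det_nonsing_inv, hA, hHd, Ring.inverse_eq_inv', pow_add, ← mul_assoc,
        inv_mul_cancel₀ (pow_ne_zero _ hd), one_mul]
    obtain ⟨K1, oK1, pK1, cK1⟩ := exists_list hk hI hp (hf cn1).1 (by rw [hlc]; exact ha)
      (H := Hᵀ) (fun ⟨c, hc⟩ => hH ⟨c, transpose_injective (by rw [hc, transpose_smul, transpose_one])⟩)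
      (by rw [det_transpose, hHd, hlc])
      (fun e2 hl => by
        rw [trace_transpose, det_transpose]
        exact hdH e2 (heq (hlow e2 (hlc ▸ hl))).1.symm)
    obtain ⟨K2, oK2, pK2, cK2⟩ := exists_list hk hI hp (hf cm2).1 (by simp [hm2, h2]; omega)
      (H := T) hT (by simp [hm2, h2, hTd]) (fun e2 hl => hdT e2
        (heq (hlowb e2 (by simpa [hm2, h2] using hl))).2.symm)
    set z1' := (z1.map transpose).reverse with hz1'
    have oz1' : List.Forall₂ Orb (n1.map cz) z1' := by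
      have := forall₂_rev oz1
      rwa [rev_rev] at this
    obtain ⟨t1, ot1, ft1, st1⟩ := items_of cK cu cz n1 K1 z1' (hf cn1).2.2 oK1 oz1'
    obtain ⟨t2, ot2, ft2, st2⟩ := items_of cK cu cz m2 K2 z2 (hf cm2).2.2 oK2 oz2
    have hz1p : z1'.prod = (z1.prod)ᵀ := by rw [hz1', transpose_prod]
    have hdetz : ∀ {xs : List (Matrix (Fin k ⊕ Fin (k * e)) (Fin k ⊕ Fin (k * e)) F)}
        {zs : List (Matrix (Fin (k * e)) (Fin (k * e)) F)},
        (∀ x ∈ xs, x.charpoly = p ^ (e + 1)) → List.Forall₂ Orb (xs.map cz) zs →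
        ∀ z ∈ zs, z.det ≠ 0 := fun hx ho z hz => by
      rw [det_of_charpoly (forall₂_orb_charpoly ho (hf hx).2.1 z hz)]
      exact pow_ne_zero _ hd
    obtain ⟨s1, os1, ps1, hs1⟩ := step t1
      (fun i hi => hdetz cn1 oz1' _ (st1 ▸ List.mem_map.2 ⟨i, hi, rfl⟩))
      (fun i hi => by rw [cK1 i.1 (ft1 ▸ List.mem_map.2 ⟨i, hi, rfl⟩)]; exact hp)
      (f := f) (f' := f') (by rw [st1]; exact hsf)
      (by rw [ft1, pK1, trace_transpose]; exact hf1) (by rw [ft1, pK1, trace_transpose]; exact hf2)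
      (C * T⁻¹)ᵀ
    obtain ⟨s2, os2, ps2, hs2⟩ := step t2
      (fun i hi => hdetz cm2 oz2 _ (st2 ▸ List.mem_map.2 ⟨i, hi, rfl⟩))
      (fun i hi => by rw [cK2 i.1 (ft2 ▸ List.mem_map.2 ⟨i, hi, rfl⟩)]; exact hp)
      (f := g1) (f' := g1') (by rw [st2]; exact hsg) (by rw [ft2, pK2]; exact hg1)
      (by rw [ft2, pK2]; exact hg2) (H⁻¹ * B)
    rw [ft1, st1, pK1, hz1p] at ps1
    rw [ft2, st2, pK2] at ps2
    set y1 := ((s1.map blk).map transpose).reverse with hy1
    have py1 : y1.prod = fromBlocks H 0 (C * T⁻¹) z1.prod := by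
      rw [hy1, ← transpose_prod, ps1, fromBlocks_transpose]
      simp
    have oy1 : List.Forall₂ Orb m1 y1 := by
      have := forall₂_rev (ot1.trans_orb os1)
      rwa [hn1, rev_rev] at this
    have key : fromBlocks H 0 (C * T⁻¹) z1.prod * fromBlocks T (H⁻¹ * B) 0 z2.prod =
        fromBlocks A B C D := by
      rw [fromBlocks_multiply]
      have hTu : IsUnit T.det := by rw [isUnit_iff_ne_zero, hTd]; exact pow_ne_zero _ hd
      have hA' : A⁻¹ = T⁻¹ * H⁻¹ := by rw [← hHT, Matrix.mul_inv_rev]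
      congr 1
      · simp [hHT]
      · simp [← Matrix.mul_assoc, mul_nonsing_inv _ hHu]
      · simp [Matrix.mul_assoc, nonsing_inv_mul _ hTu]
      · rw [pz, hSdef, hA']; simp [Matrix.mul_assoc]
    refine Two.of_orb ?_
    refine ⟨R (fromBlocks A B C D), hgR ▸ hAB.symm.reindex E, y1.map R, (s2.map blk).map R, ?_, ?_, ?_, ?_⟩
    · rw [← hback (l := l1)]; exact forall₂_reindex E oy1
    · rw [← hback (l := l2)]; exact forall₂_reindex E (ot2.trans_orb os2)
    · rw [← map_list_prod, ← map_list_prod, ← map_mul, py1, ps2, key]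
    · intro hc
      obtain h | ⟨h3a, h3b⟩ := hc
      · omega
      have hl1' : 3 ≤ t1.length := by
        have := ot1.length_eq
        simp [hn1, hm1, h1] at this
        omega
      have hl2' : 3 ≤ t2.length := by
        have := ot2.length_eq
        simp [hm2, h2] at this
        omega
      have q1 := (hs1 hl1' (by simpa using hk) (by
        rw [ft1, pK1]
        exact fun ⟨c, hc⟩ => hH ⟨c, transpose_injective (by rw [hc, transpose_smul, transpose_one])⟩)).reindex E
      have q2 := (hs2 hl2' (by simpa using hk) (by rw [ft2, pK2]; exact hT)).reindex E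
      refine ⟨Matrix.trace (List.map (fun i => i.1) t1).prod, f, _, _, ?_, q2, fun h => by omega⟩
      have e1 : ((y1.map R).map transpose).reverse = (s1.map blk).map R := by
        rw [hy1, List.map_reverse, List.map_reverse, List.reverse_reverse]
        simp only [List.map_map]
        refine List.map_congr_left fun i _ => ?_
        simp [hR]
      rw [e1]
      exact q1
  · subst hgs
    have hs : s ≠ 0 := fun h => pow_ne_zero (a + b) hd (by rw [← hsk, h, zero_pow (by omega)])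
    obtain ⟨z1, z2, oz1, oz2, pz, hz⟩ := (ih (m1.map cz) (m2.map cz)
      (by simp [hm1, h1]) (by simp [hm2, h2]) (hf cm1).2.1 (hf cm2).2.1 (s • 1)
      (by rw [det_smul, det_one, mul_one, Fintype.card_fin, pow_mul, hsk, ← pow_mul,
        mul_comm (a + b) e])).2 s rfl hsk
    obtain ⟨g1, g1', hsg, heq⟩ := hz hcond
    obtain ⟨H, hH, hHd, hT, hg1, hg2, hdd⟩ :=
      exists_choice_scalar hq hk hs (pow_ne_zero a hd) g1 g1'
    set T := H⁻¹ * (s • (1 : Matrix (Fin k) (Fin k) F)) with hTdef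
    have hHu : IsUnit H.det := by rw [isUnit_iff_ne_zero, hHd]; exact pow_ne_zero _ hd
    have hTd : T.det = pdet p ^ b := by
      rw [hTdef, det_mul, det_nonsing_inv, det_smul, det_one, mul_one, Fintype.card_fin, hsk, hHd,
        Ring.inverse_eq_inv', pow_add, ← mul_assoc, inv_mul_cancel₀ (pow_ne_zero _ hd), one_mul]
    obtain ⟨K1, oK1, pK1, cK1⟩ := exists_list hk hI hp (hf cm1).1 (by simp [hm1, h1]; omega)
      (H := H) hH (by simp [hm1, h1, hHd])
      (fun e2 hl => (hdd e2 (heq (hlow e2 (by simpa [hm1, h1] using hl))).symm).1)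
    obtain ⟨K2, oK2, pK2, cK2⟩ := exists_list hk hI hp (hf cm2).1 (by simp [hm2, h2]; omega)
      (H := T) hT (by simp [hm2, h2, hTd])
      (fun e2 hl => (hdd e2 (heq (hlowb e2 (by simpa [hm2, h2] using hl))).symm).2)
    obtain ⟨t1, ot1, ft1, st1⟩ := items_of cK cu cz m1 K1 z1 (hf cm1).2.2 oK1 oz1
    obtain ⟨t2, ot2, ft2, st2⟩ := items_of cK cu cz m2 K2 z2 (hf cm2).2.2 oK2 oz2
    obtain ⟨s2, os2, ps2, hs2⟩ := step t2
      (fun i hi => by
        rw [det_of_charpoly (forall₂_orb_charpoly oz2 (hf cm2).2.1 i.2.1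
          (st2 ▸ List.mem_map.2 ⟨i, hi, rfl⟩))]
        exact pow_ne_zero _ hd)
      (fun i hi => by rw [cK2 i.1 (ft2 ▸ List.mem_map.2 ⟨i, hi, rfl⟩)]; exact hp)
      (f := g1) (f' := g1') (by rw [st2]; exact hsg) (by rw [ft2, pK2]; exact hg1)
      (by rw [ft2, pK2]; exact hg2) (-(H⁻¹ * (comb t1 * z2.prod)))
    rw [ft2, st2, pK2] at ps2
    refine ⟨(t1.map blk).map R, (s2.map blk).map R, ?_, ?_, ?_, ?_⟩
    · rw [← hback (l := l1)]; exact forall₂_reindex E ot1
    · rw [← hback (l := l2)]; exact forall₂_reindex E (ot2.trans_orb os2)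
    · rw [← map_list_prod, ← map_list_prod, ← map_mul, prod_blk, ft1, st1, pK1, ps2,
        fromBlocks_multiply, pz]
      have e1 : H * T = s • 1 := by
        rw [hTdef, ← Matrix.mul_assoc, mul_nonsing_inv _ hHu, Matrix.one_mul]
      have e2 : H * -(H⁻¹ * (comb t1 * z2.prod)) + comb t1 * z2.prod = 0 := by
        rw [Matrix.mul_neg, ← Matrix.mul_assoc, mul_nonsing_inv _ hHu, Matrix.one_mul,
          neg_add_cancel]
      rw [e2, e1]
      simp only [Matrix.zero_mul, Matrix.mul_zero, zero_add, add_zero]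
      rw [show fromBlocks (s • (1 : Matrix (Fin k) (Fin k) F)) 0 0
          (s • (1 : Matrix (Fin (k * e)) (Fin (k * e)) F)) = s • 1 by
        rw [← fromBlocks_one, fromBlocks_smul, smul_zero, smul_zero], map_smul, map_one]
    · intro hc
      obtain h | ⟨h3a, h3b⟩ := hc
      · omega
      have hl2' : 3 ≤ t2.length := by
        have := ot2.length_eq
        simp [hm2, h2] at this
        omega
      exact ⟨_, _, (hs2 hl2' (by simpa using hk) (by rw [ft2, pK2]; exact hT)).reindex E,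
        fun h => by omega⟩

theorem rec_all : ∀ e : ℕ, 1 ≤ e → (∀ i, 1 ≤ i → i < e → i = 1 ∨ 3 ≤ a ∧ 3 ≤ b) →
    (∀ i, 1 ≤ i → i < e → k = 2 → a = 2 → i = 1) → (∀ i, 1 ≤ i → i < e → k = 2 → b = 2 → i = 1) →
    ∀ (l1 l2 : List (Matrix (Fin (k * e)) (Fin (k * e)) F)), l1.length = a → l2.length = b →
      (∀ x ∈ l1, x.charpoly = p ^ e) → (∀ x ∈ l2, x.charpoly = p ^ e) →
      ∀ g : Matrix (Fin (k * e)) (Fin (k * e)) F, g.det = pdet p ^ (e * (a + b)) →
        (¬ IsScalarMat g → Two k e a b l1 l2 g) ∧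
        (∀ s : F, g = s • 1 → s ^ k = pdet p ^ (a + b) → One k e a b l1 l2 g) := by
  intro e he
  induction e, he using Nat.le_induction with
  | base =>
    intro _ _ _ l1 l2 h1 h2 hl1 hl2 g hdet
    rw [pow_one] at hl1 hl2
    rw [one_mul] at hdet
    have key : ∀ (n : ℕ), n = k → ∀ (l1 l2 : List (Matrix (Fin n) (Fin n) F)), l1.length = a →
        l2.length = b → (∀ x ∈ l1, x.charpoly = p) → (∀ x ∈ l2, x.charpoly = p) →
        ∀ g : Matrix (Fin n) (Fin n) F, g.det = pdet p ^ (a + b) →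
          (¬ IsScalarMat g → Two k 1 a b l1 l2 g) ∧ (IsScalarMat g → One k 1 a b l1 l2 g) := by
      intro n hn
      subst hn
      intro l1 l2 h1 h2 hl1 hl2 g hdet
      exact base hq hI hk hp hpm hpk ha hb h1 h2 hl1 hl2 hdet
    obtain ⟨hT, hO⟩ := key (k * 1) (mul_one k) l1 l2 h1 h2 hl1 hl2 g hdet
    exact ⟨hT, fun s hs _ => hO ⟨s, hs⟩⟩
  | succ e he ih =>
    intro hc hla hlb l1 l2 h1 h2 hl1 hl2 g hdet
    refine rec_step hq hI hk hp hpm hpk ha hb he (hc e he (by omega))
      (fun h h' => hla e he (by omega) h h') (fun h h' => hlb e he (by omega) h h')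
      (ih (fun i hi hie => hc i hi (by omega)) (fun i hi hie => hla i hi (by omega))
        (fun i hi hie => hlb i hi (by omega))) h1 h2 hl1 hl2 hdet

end Rec

end Primary

variable {F : Type*} [Field F] [Fintype F]

open Primary in
/-- The primary case. -/
theorem inProd_primary (hq : 4 ≤ Fintype.card F) (hI : IrredSpec F) : PrimarySpec F := by
  intro n x p hp hpm hp2 e he hx m g hdet h
  have hd : pdet p ≠ 0 := pdet_ne_zero hp hp2
  have hxd : x.det = pdet p ^ e := det_of_charpoly hx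
  have hxne : x.det ≠ 0 := by rw [hxd]; exact pow_ne_zero _ hd
  have hn : p.natDegree * e = n := by
    have := congrArg natDegree hx
    rw [charpoly_natDegree_eq_dim, Fintype.card_fin, natDegree_pow] at this
    rw [this, mul_comm]
  have core : ∀ {m : ℕ} {g : Matrix (Fin n) (Fin n) F}, g.det = x.det ^ m →
      (¬ IsScalarMat g ∧ n ≤ m) ∨ (m = n ∧ g = 1 ∧ x.det = 1) →
      InProd (List.replicate m x) g := by
    intro m g hdet h
    have hnm : n ≤ m := by rcases h with h | h <;> omega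
    have hm4 : 2 * p.natDegree ≤ m :=
      le_trans (by rw [mul_comm]; exact Nat.mul_le_mul_left _ he) (hn.le.trans hnm)
    have ha : p.natDegree ≤ m / 2 := by omega
    have hb : m / 2 ≤ m - m / 2 := by omega
    have hc : ∀ i, 1 ≤ i → i < e → i = 1 ∨ 3 ≤ m / 2 ∧ 3 ≤ m - m / 2 := fun i h1 h2 => by
      by_cases hi : i = 1
      · exact Or.inl hi
      · have : p.natDegree * 3 ≤ m := (Nat.mul_le_mul_left _ (by omega)).trans (hn.le.trans hnm)
        right; omega
    subst hn
    obtain ⟨hT, hO⟩ := rec_all hq hI hp2 hp hpm rfl ha hb e (by omega) hc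
      (fun i h1 h2 _ h4 => (hc i h1 h2).resolve_right (by omega))
      (fun i h1 h2 _ h4 => (hc i h1 h2).resolve_right (by omega))
      (List.replicate (m / 2) x) (List.replicate (m - m / 2) x) (by simp) (by simp)
      (fun y hy => by rw [List.eq_of_mem_replicate hy]; exact hx)
      (fun y hy => by rw [List.eq_of_mem_replicate hy]; exact hx) g
      (by rw [hdet, hxd, ← pow_mul, Nat.add_sub_cancel' (Nat.div_le_self m 2)])
    obtain ⟨y1, y2, o1, o2, pr, -⟩ : ∃ y1 y2, List.Forall₂ Orb (List.replicate (m / 2) x) y1 ∧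
        List.Forall₂ Orb (List.replicate (m - m / 2) x) y2 ∧ y1.prod * y2.prod = g ∧ True := by
      rcases h with ⟨h, -⟩ | ⟨rfl, rfl, hx1⟩
      · obtain ⟨y1, y2, o1, o2, pr, -⟩ := hT h
        exact ⟨y1, y2, o1, o2, pr, trivial⟩
      · obtain ⟨y1, y2, o1, o2, pr, -⟩ := hO 1 (one_smul F _).symm (by
          rw [one_pow, Nat.add_sub_cancel' (Nat.div_le_self _ 2), mul_comm, pow_mul, ← hxd, hx1,
            one_pow])
        exact ⟨y1, y2, o1, o2, pr, trivial⟩
    refine ⟨y1 ++ y2, ?_, by rw [List.prod_append, pr]⟩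
    have hrep : List.replicate m x =
        List.replicate (m / 2) x ++ List.replicate (m - m / 2) x := by
      rw [List.replicate_append_replicate]
      congr 1
      omega
    rw [hrep]
    exact List.rel_append o1 o2
  rcases h with h | h | h
  · exact core hdet (Or.inl h)
  · by_cases hs : IsScalarMat g
    · obtain ⟨m', rfl⟩ : ∃ m', m = m' + 1 := ⟨m - 1, by omega⟩
      obtain ⟨c, hc⟩ := hs
      refine inProd_succ hxne (core (m := m') ?_ (Or.inl ⟨?_, by omega⟩))
      · rw [det_mul, det_nonsing_inv, Ring.inverse_eq_inv', hdet, pow_succ, mul_assoc,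
          mul_inv_cancel₀ hxne, mul_one]
      · rintro ⟨d, hd'⟩
        have h1 : g = d • x := by
          calc g = g * x⁻¹ * x := by
                rw [Matrix.mul_assoc, nonsing_inv_mul _ (isUnit_iff_ne_zero.2 hxne), Matrix.mul_one]
            _ = d • x := by rw [hd', Matrix.smul_mul, Matrix.one_mul]
        have hd0 : d ≠ 0 := by
          rintro rfl
          haveI : Nonempty (Fin n) := ⟨⟨0, by nlinarith⟩⟩
          rw [zero_smul] at h1
          rw [h1, det_zero] at hdet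
          exact pow_ne_zero _ hxne hdet.symm
        have hxs : x = (d⁻¹ * c) • 1 := by
          rw [mul_smul, ← hc, h1, inv_smul_smul₀ hd0]
        have hxp : x.charpoly = (X - C (d⁻¹ * c)) ^ n := by
          rw [hxs, Matrix.smul_one_eq_diagonal, charpoly_diagonal]
          simp
        have hdvd : p ∣ X - C (d⁻¹ * c) := by
          refine hp.prime.dvd_of_dvd_pow (n := n) ?_
          rw [← hxp, hx]
          exact dvd_pow_self p (by omega)
        have := Polynomial.natDegree_le_of_dvd hdvd (X_sub_C_ne_zero _)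
        rw [natDegree_X_sub_C] at this
        omega
    · exact core hdet (Or.inl ⟨hs, by omega⟩)
  · exact core hdet (Or.inr h)

end CfsgLib.Lev
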