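import Cfsg.Agent.Lib.Lev.Defs
import Mathlib.LinearAlgebra.Matrix.SchurComplement
import Mathlib.LinearAlgebra.Matrix.Block
import Mathlib.Tactic.LinearCombination
import Mathlib.Tactic.FieldSimp
import Mathlib.Tactic.Abel
import Mathlib.Tactic.NoncommRing

/-!
Products of rank one classes (homologies and transvections) for the covering number of `PSL n q`.
-/

set_option autoImplicit false

namespace CfsgLib.Lev.Special

open Matrix

variable {F : Type*} [Field F] {ι : Type*} [Fintype ι] [DecidableEq ι]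

theorem det_one_add_outer (u v : ι → F) : (1 + vecMulVec u v).det = 1 + v ⬝ᵥ u := by
  rw [vecMulVec_eq Unit]
  exact det_one_add_replicateCol_mul_replicateRow u v

theorem outer_mulVec (u v w : ι → F) : vecMulVec u v *ᵥ w = (v ⬝ᵥ w) • u := by
  rw [vecMulVec_mulVec, op_smul_eq_smul]

theorem exists_dot_both {a b : ι → F} (ha : a ≠ 0) (hb : b ≠ 0) :
    ∃ q : ι → F, q ⬝ᵥ a = 1 ∧ q ⬝ᵥ b ≠ 0 := by
  obtain ⟨i, hi⟩ := Function.ne_iff.1 ha
  obtain ⟨j, hj⟩ := Function.ne_iff.1 hb
  simp only [Pi.zero_apply] at hi hj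
  have key : ∃ q : ι → F, q ⬝ᵥ a ≠ 0 ∧ q ⬝ᵥ b ≠ 0 := by
    by_cases h1 : b i = 0
    · by_cases h2 : a j = 0
      · refine ⟨Pi.single i 1 + Pi.single j 1, ?_, ?_⟩
        · simpa [add_dotProduct, single_one_dotProduct, h2] using hi
        · simpa [add_dotProduct, single_one_dotProduct, h1] using hj
      · exact ⟨Pi.single j 1, by simpa [single_one_dotProduct] using h2,
          by simpa [single_one_dotProduct] using hj⟩
    · exact ⟨Pi.single i 1, by simpa [single_one_dotProduct] using hi,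
        by simpa [single_one_dotProduct] using h1⟩
  obtain ⟨q, hqa, hqb⟩ := key
  refine ⟨(q ⬝ᵥ a)⁻¹ • q, ?_, ?_⟩
  · rw [smul_dotProduct, smul_eq_mul, inv_mul_cancel₀ hqa]
  · rw [smul_dotProduct, smul_eq_mul]
    exact mul_ne_zero (inv_ne_zero hqa) hqb

theorem exists_perp_pair (hn : 3 ≤ Fintype.card ι) {a b : ι → F} (ha : a ≠ 0) (hb : b ≠ 0) :
    ∃ p q : ι → F, b ⬝ᵥ p = 0 ∧ q ⬝ᵥ a = 0 ∧ q ⬝ᵥ p = 1 := by
  suffices key : ∃ p q : ι → F, b ⬝ᵥ p = 0 ∧ q ⬝ᵥ a = 0 ∧ q ⬝ᵥ p ≠ 0 by
    obtain ⟨p, q, h1, h2, h3⟩ := key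
    exact ⟨p, (q ⬝ᵥ p)⁻¹ • q, h1, by rw [smul_dotProduct, h2, smul_zero],
      by rw [smul_dotProduct, smul_eq_mul, inv_mul_cancel₀ h3]⟩
  obtain ⟨j, hj⟩ := Function.ne_iff.1 hb
  obtain ⟨l, hl⟩ := Function.ne_iff.1 ha
  simp only [Pi.zero_apply] at hj hl
  have h2 : 1 < ((Finset.univ : Finset ι).erase j).card := by
    rw [Finset.card_erase_of_mem (Finset.mem_univ j), Finset.card_univ]
    omega
  obtain ⟨i1, hi1, i2, hi2, h12⟩ := Finset.one_lt_card.1 h2
  replace hi1 : i1 ≠ j := (Finset.mem_erase.1 hi1).1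
  replace hi2 : i2 ≠ j := (Finset.mem_erase.1 hi2).1
  let pv : ι → ι → F := fun i => b j • Pi.single i 1 - b i • Pi.single j 1
  have hbp : ∀ i, b ⬝ᵥ pv i = 0 := fun i => by
    simp [pv, dotProduct_sub, dotProduct_smul, dotProduct_single, mul_comm]
  have hex : ∃ i, ∃ m, a l * pv i m - a m * pv i l ≠ 0 := by
    by_contra! hall
    have e1 := hall i1 i1
    have e2 := hall i1 i2
    have e3 := hall i2 i2
    have ei1 : pv i1 i1 = b j := by simp [pv, hi1]
    have ei2 : pv i1 i2 = 0 := by simp [pv, h12.symm, hi2]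
    have ej2 : pv i2 i2 = b j := by simp [pv, hi2]
    rw [ei1] at e1
    rw [ei2] at e2
    rw [ej2] at e3
    have n1 : pv i1 l ≠ 0 := by
      intro h
      rw [h] at e1
      exact mul_ne_zero hl hj (by linear_combination e1)
    have a2 : a i2 = 0 := by
      have : a i2 * pv i1 l = 0 := by linear_combination -e2
      exact (mul_eq_zero.1 this).resolve_right n1
    rw [a2] at e3
    exact mul_ne_zero hl hj (by linear_combination e3)
  obtain ⟨i, m, hm⟩ := hex
  refine ⟨pv i, a l • Pi.single m 1 - a m • Pi.single l 1, hbp i, ?_, ?_⟩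
  · simp [sub_dotProduct, smul_dotProduct, single_one_dotProduct, mul_comm]
  · simpa [sub_dotProduct, smul_dotProduct, single_one_dotProduct] using hm

/-- Rank one matrices with equal trace are conjugate by a matrix of determinant one. -/
theorem orb_outer (hn : 3 ≤ Fintype.card ι) {a b a' b' : ι → F} (ha : a ≠ 0) (hb : b ≠ 0)
    (ha' : a' ≠ 0) (hb' : b' ≠ 0) (hv : b ⬝ᵥ a = b' ⬝ᵥ a') :
    Orb (vecMulVec a b) (vecMulVec a' b') := by
  obtain ⟨q, hqa, hqa'⟩ := exists_dot_both ha ha'
  let h1 : Matrix ι ι F := 1 + vecMulVec (a' - a) q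
  have hh1a : h1 *ᵥ a = a' := by
    simp only [h1, add_mulVec, one_mulVec, outer_mulVec, hqa, one_smul]
    abel
  have hd1 : h1.det ≠ 0 := by
    simp only [h1, det_one_add_outer, dotProduct_sub, hqa]
    ring_nf
    exact hqa'
  have hu1 : IsUnit h1.det := Ne.isUnit hd1
  let b2 : ι → F := b ᵥ* h1⁻¹
  have hb2 : b2 ≠ 0 := by
    intro h
    apply hb
    have h' := congrArg (· ᵥ* h1) h
    simpa [b2, vecMul_vecMul, nonsing_inv_mul _ hu1] using h'
  have hb2a : b2 ⬝ᵥ a' = b' ⬝ᵥ a' := by
    rw [← hv]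
    simp only [b2, ← dotProduct_mulVec]
    rw [← hh1a, mulVec_mulVec, nonsing_inv_mul _ hu1, one_mulVec]
  obtain ⟨p, hp1, hp2⟩ := exists_dot_both hb' hb2
  rw [dotProduct_comm] at hp1 hp2
  let g2 : Matrix ι ι F := 1 + vecMulVec p (b2 - b')
  have hg2a : g2 *ᵥ a' = a' := by
    simp [g2, add_mulVec, outer_mulVec, sub_dotProduct, hb2a]
  have hbg2 : b' ᵥ* g2 = b2 := by
    simp only [g2, vecMul_add, vecMul_one, vecMul_vecMulVec, hp1, one_smul]
    abel
  have hd2 : g2.det ≠ 0 := by
    simp only [g2, det_one_add_outer, sub_dotProduct, hp1]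
    ring_nf
    exact hp2
  obtain ⟨r, s, hr, hsa, hsr⟩ := exists_perp_pair hn ha' hb'
  let t : F := (g2.det * h1.det)⁻¹
  let k : Matrix ι ι F := 1 + vecMulVec ((t - 1) • r) s
  have hka : k *ᵥ a' = a' := by
    simp only [k, add_mulVec, one_mulVec, outer_mulVec, hsa, zero_smul, add_zero]
  have hbk : b' ᵥ* k = b' := by
    simp only [k, vecMul_add, vecMul_one, vecMul_vecMulVec, dotProduct_smul, hr, smul_zero, zero_smul,
      add_zero]
  have hdk : k.det = t := by
    simp only [k, det_one_add_outer, dotProduct_smul, hsr, smul_eq_mul]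
    ring
  refine ⟨k * g2 * h1, ?_, ?_⟩
  · rw [det_mul, det_mul, hdk, mul_assoc, inv_mul_cancel₀ (mul_ne_zero hd2 hd1)]
  · rw [mul_vecMulVec, vecMulVec_mul, ← mulVec_mulVec, hh1a, ← mulVec_mulVec, hg2a, hka,
      mul_assoc, ← vecMul_vecMul, hbk, ← vecMul_vecMul, hbg2]
    simp only [b2, vecMul_vecMul, nonsing_inv_mul _ hu1, vecMul_one]

theorem orb_smul_one_add {x y : Matrix ι ι F} (h : Orb x y) (c : F) :
    Orb (c • 1 + x) (c • 1 + y) := by
  obtain ⟨k, kd, ke⟩ := h
  exact ⟨k, kd, by rw [mul_add, add_mul, ke, Matrix.mul_smul, Matrix.smul_mul, mul_one, one_mul]⟩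

/-- A nontrivial homology or transvection of determinant `δ`. -/
def IsHom (δ : F) (r : Matrix ι ι F) : Prop :=
  ∃ a b : ι → F, a ≠ 0 ∧ b ≠ 0 ∧ b ⬝ᵥ a = δ - 1 ∧ r = 1 + vecMulVec a b

/-- `G` is a product of exactly `m` members of `IsHom δ`. -/
def HomProd (δ : F) (m : ℕ) (G : Matrix ι ι F) : Prop :=
  ∃ y : List (Matrix ι ι F), y.length = m ∧ (∀ r ∈ y, IsHom δ r) ∧ y.prod = G

theorem exists_filter {M : Type*} [Monoid M] (P : M → Prop) :
    ∀ y : List M, (∀ r ∈ y, r = 1 ∨ P r) →
      ∃ z : List M, z.length ≤ y.length ∧ (∀ r ∈ z, P r) ∧ z.prod = y.prod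
  | [], _ => ⟨[], le_refl _, by simp, rfl⟩
  | a :: t, h => by
      obtain ⟨z, hz, hzP, hzp⟩ := exists_filter P t fun r hr => h r (List.mem_cons_of_mem _ hr)
      rcases h a (List.mem_cons_self ..) with ha | ha
      · exact ⟨z, le_trans hz (by simp), hzP, by rw [List.prod_cons, ha, one_mul, hzp]⟩
      · refine ⟨a :: z, by simpa using hz, ?_, by rw [List.prod_cons, List.prod_cons, hzp]⟩
        intro r hr
        rcases List.mem_cons.1 hr with rfl | hr
        · exact ha
        · exact hzP r hr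

theorem homProd_succ (hn : 3 ≤ Fintype.card ι) {m : ℕ} (hm : 1 ≤ m) {G : Matrix ι ι F}
    (h : HomProd (1 : F) m G) : HomProd (1 : F) (m + 1) G := by
  obtain ⟨y, hy, hyP, hyp⟩ := h
  match y, hy with
  | [], hy => simp only [List.length_nil] at hy; omega
  | r :: t, hy =>
    obtain ⟨a, b, ha, hb, hba, rfl⟩ := hyP _ (List.mem_cons_self ..)
    rw [sub_self] at hba
    obtain ⟨p, q, hbp, hqa, hqp⟩ := exists_perp_pair hn ha hb
    have hp : p ≠ 0 := by rintro rfl; simp at hqp
    have hap : a - p ≠ 0 := by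
      intro h
      rw [sub_eq_zero] at h
      subst h
      rw [hqa] at hqp
      exact zero_ne_one hqp
    refine ⟨(1 + vecMulVec p b) :: (1 + vecMulVec (a - p) b) :: t, ?_, ?_, ?_⟩
    · simp only [List.length_cons] at hy ⊢
      omega
    · intro r hr
      rcases List.mem_cons.1 hr with rfl | hr
      · exact ⟨p, b, hp, hb, by rw [hbp, sub_self], rfl⟩
      rcases List.mem_cons.1 hr with rfl | hr
      · exact ⟨a - p, b, hap, hb, by rw [dotProduct_sub, hba, hbp, sub_zero, sub_self], rfl⟩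
      · exact hyP r (List.mem_cons_of_mem _ hr)
    · rw [← hyp, List.prod_cons, List.prod_cons, List.prod_cons, ← mul_assoc]
      congr 1
      rw [add_mul, one_mul, mul_add, mul_one, vecMulVec_mul_vecMulVec, dotProduct_sub, hba, hbp,
        sub_zero, zero_smul]
      have e : vecMulVec p (0 : ι → F) = 0 := by ext i j; simp [vecMulVec_apply]
      have e' : vecMulVec p b + vecMulVec (a - p) b = vecMulVec a b := by
        ext i j
        simp [vecMulVec_apply]
        ring
      rw [e, add_zero, ← e']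
      abel

theorem homProd_pad (hn : 3 ≤ Fintype.card ι) {m k : ℕ} (hm : 1 ≤ m) (hk : m ≤ k)
    {G : Matrix ι ι F} (h : HomProd (1 : F) m G) : HomProd (1 : F) k G := by
  induction k, hk using Nat.le_induction with
  | base => exact h
  | succ j hj ih => exact homProd_succ hn (le_trans hm hj) ih

theorem homProd_one_two (hn : 3 ≤ Fintype.card ι) : HomProd (1 : F) 2 (1 : Matrix ι ι F) := by
  obtain ⟨i, j, hij⟩ := Fintype.exists_pair_of_one_lt_card (α := ι) (by omega)
  let u : ι → F := Pi.single i 1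
  let v : ι → F := Pi.single j 1
  have hu : u ≠ 0 := fun h => one_ne_zero (α := F) (by simpa [u] using congrFun h i)
  have hv : v ≠ 0 := fun h => one_ne_zero (α := F) (by simpa [v] using congrFun h j)
  have hvu : v ⬝ᵥ u = 0 := by simp [u, v, single_one_dotProduct, hij.symm]
  refine ⟨[1 + vecMulVec u v, 1 + vecMulVec (-u) v], rfl, ?_, ?_⟩
  · intro r hr
    rcases List.mem_pair.1 hr with rfl | rfl
    · exact ⟨u, v, hu, hv, by rw [hvu, sub_self], rfl⟩
    · exact ⟨-u, v, neg_ne_zero.2 hu, hv, by rw [dotProduct_neg, hvu, neg_zero, sub_self], rfl⟩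
  · rw [List.prod_cons, List.prod_cons, List.prod_nil, mul_one, add_mul, one_mul, mul_add,
      mul_one, vecMulVec_mul_vecMulVec, dotProduct_neg, hvu, neg_zero, zero_smul]
    ext a b
    simp [vecMulVec_apply]

/-- A product of a unipotent lower and an upper triangular matrix with constant diagonal `δ`
is a product of `n` homologies of determinant `δ`. -/
theorem homProd_lu {n : ℕ} (hn : 3 ≤ n) {δ : F} (hδ : δ ≠ 0) {L U : Matrix (Fin n) (Fin n) F}
    (hL : ∀ i j, i < j → L i j = 0) (hL1 : ∀ i, L i i = 1)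
    (hU : ∀ i j, j < i → U i j = 0) (hU1 : ∀ i, U i i = δ) :
    HomProd δ n (L * U) := by
  have hUb : U.BlockTriangular id := fun i j h => hU i j h
  have hUd : U.det ≠ 0 := by
    rw [det_of_isUpperTriangular hUb]
    exact Finset.prod_ne_zero_iff.2 fun i _ => (hU1 i).symm ▸ hδ
  have : Invertible U := U.invertibleOfIsUnitDet (Ne.isUnit hUd)
  have hVb : U⁻¹.BlockTriangular id := blockTriangular_inv_of_blockTriangular hUb
  let V : Matrix (Fin n) (Fin n) F := U⁻¹
  have hUV : U * V = 1 := mul_nonsing_inv _ (Ne.isUnit hUd)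
  have hV : ∀ i j, j < i → V i j = 0 := fun i j h => hVb h
  have hV1 : ∀ i, V i i = δ⁻¹ := by
    intro i
    have h := congrFun (congrFun hUV i) i
    rw [mul_apply, one_apply_eq, Finset.sum_eq_single i] at h
    · rw [hU1] at h
      exact eq_inv_of_mul_eq_one_right h
    · intro j _ hji
      rcases lt_or_gt_of_ne hji with hji | hji
      · rw [hU i j hji, zero_mul]
      · rw [hV j i hji, mul_zero]
    · simp
  let e : Fin n → Fin n → F := fun k => Pi.single k 1
  let a : Fin n → Fin n → F := fun k => δ • (L *ᵥ e k - V *ᵥ e k)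
  let R : Fin n → Matrix (Fin n) (Fin n) F := fun k => 1 + vecMulVec (a k) (e k)
  let D : ℕ → Matrix (Fin n) (Fin n) F := fun k => diagonal fun j => if (j : ℕ) < k then 1 else 0
  let P : ℕ → Matrix (Fin n) (Fin n) F := fun k => 1 + (L * U - 1) * D k
  have hcol : ∀ (M : Matrix (Fin n) (Fin n) F) (k i : Fin n), (M *ᵥ e k) i = M i k := by
    intro M k i
    simp [e, mulVec_single]
  have htr : ∀ k : Fin n, D k *ᵥ a k = e k - δ • (V *ᵥ e k) := by
    intro k
    funext i
    simp only [D, mulVec_diagonal, Pi.sub_apply, Pi.smul_apply, smul_eq_mul, a, hcol]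
    rcases lt_trichotomy i k with h | h | h
    · rw [if_pos (show (i : ℕ) < k from h), hL i k h]
      simp [e, h.ne]
    · subst h
      rw [if_neg (lt_irrefl _), hV1, mul_inv_cancel₀ hδ]
      simp [e]
    · rw [if_neg (show ¬(i : ℕ) < k from not_lt.2 h.le), hV i k h]
      simp [e, h.ne']
  have hstep : ∀ k : Fin n, P k * R k = P (k + 1) := by
    intro k
    have hPa : P k *ᵥ a k = (L * U - 1) *ᵥ e k := by
      simp only [P, add_mulVec, one_mulVec, ← mulVec_mulVec, htr]
      simp only [a, sub_mulVec, one_mulVec, mulVec_sub, mulVec_smul, ← mulVec_mulVec]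
      rw [mulVec_mulVec (M := U) (N := V), hUV, one_mulVec]
      simp only [smul_sub]
      abel
    simp only [R, mul_add, mul_one, mul_vecMulVec, hPa]
    ext i j
    rw [Matrix.add_apply, vecMulVec_apply, hcol]
    simp only [P, Matrix.add_apply, D, mul_diagonal]
    rcases lt_trichotomy (j : ℕ) k with h | h | h
    · have hj : j ≠ k := fun e' => by rw [e'] at h; exact lt_irrefl _ h
      simp [e, h, Nat.lt_succ_of_lt h, hj]
    · have hj : j = k := Fin.ext h
      subst hj
      simp [e]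
    · have hj : j ≠ k := fun e' => by rw [e'] at h; exact lt_irrefl _ h
      simp [e, not_lt.2 h.le, Nat.not_lt.2 h, hj]
  have hprod : ∀ k, k ≤ n → ((List.ofFn R).take k).prod = P k := by
    intro k
    induction k with
    | zero => intro _; simp [P, D]
    | succ k ih =>
      intro hk
      rw [List.prod_take_succ _ _ (by simpa using hk), ih (by omega)]
      simpa using hstep ⟨k, hk⟩
  have hP : (List.ofFn R).prod = L * U := by
    have h := hprod n le_rfl
    rw [List.take_of_length_le (by simp)] at h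
    rw [h]
    have : D n = 1 := by
      ext i j
      by_cases hij : i = j
      · subst hij; simp [D, i.isLt]
      · simp [D, hij]
    simp only [P, this, mul_one]
    abel
  have hR : ∀ k, R k = 1 ∨ IsHom δ (R k) := by
    intro k
    by_cases ha : a k = 0
    · left
      ext i j
      simp [R, ha, vecMulVec_apply]
    · refine Or.inr ⟨a k, e k, ha, ?_, ?_, rfl⟩
      · intro h
        exact one_ne_zero (α := F) (by simpa [e] using congrFun h k)
      · simp only [e, single_one_dotProduct, a, Pi.smul_apply, Pi.sub_apply, smul_eq_mul]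
        rw [mulVec_single_one, mulVec_single_one]
        simp only [col_apply, hL1, hV1]
        field_simp
  by_cases h1 : δ = 1
  · subst h1
    obtain ⟨z, hz, hzP, hzp⟩ := exists_filter (IsHom (1 : F)) (List.ofFn R)
      (fun r hr => by obtain ⟨k, rfl⟩ := List.mem_ofFn.1 hr; exact hR k)
    rw [List.length_ofFn] at hz
    have hc : 3 ≤ Fintype.card (Fin n) := by simpa using hn
    rcases Nat.eq_zero_or_pos z.length with h0 | h0
    · rw [List.length_eq_zero_iff.1 h0, List.prod_nil] at hzp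
      rw [← hP, ← hzp]
      exact homProd_pad hc (by norm_num) (by omega) (homProd_one_two hc)
    · exact homProd_pad hc h0 hz ⟨z, rfl, hzP, hzp.trans hP⟩
  · refine ⟨List.ofFn R, List.length_ofFn, fun r hr => ?_, hP⟩
    obtain ⟨k, rfl⟩ := List.mem_ofFn.1 hr
    refine (hR k).resolve_left fun h => h1 ?_
    have h' := congrFun (congrFun h k) k
    simp only [R, Matrix.add_apply, one_apply_eq, vecMulVec_apply, e, Pi.single_eq_same, mul_one,
      add_eq_left, a, Pi.smul_apply, Pi.sub_apply, smul_eq_mul] at h'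
    rw [mulVec_single_one, mulVec_single_one] at h'
    simp only [col_apply, hL1, hV1] at h'
    field_simp at h'
    linear_combination h'

theorem prod_map_smul {n : ℕ} (c : F) :
    ∀ y : List (Matrix (Fin n) (Fin n) F),
      (y.map fun r => c • r).prod = c ^ y.length • y.prod
  | [] => by simp
  | r :: t => by
      rw [List.map_cons, List.prod_cons, prod_map_smul c t, Matrix.smul_mul, Matrix.mul_smul,
        smul_smul, List.prod_cons, List.length_cons, pow_succ, mul_comm c]

theorem forall₂_replicate {α : Type*} {R : α → α → Prop} {x : α} :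
    ∀ y : List α, (∀ r ∈ y, R x r) → List.Forall₂ R (List.replicate y.length x) y
  | [], _ => List.Forall₂.nil
  | a :: t, h => List.Forall₂.cons (h a (List.mem_cons_self ..))
      (forall₂_replicate t fun r hr => h r (List.mem_cons_of_mem _ hr))

/-- The rank one case, given a decomposition of the target. -/
theorem inProd_outer {n : ℕ} (hn : 3 ≤ n) {c : F} {a b : Fin n → F} (ha : a ≠ 0) (hb : b ≠ 0)
    (hc : c ≠ 0) {δ : F} (hδc : c * δ = c + b ⬝ᵥ a) (hδ : δ ≠ 0)
    {L U : Matrix (Fin n) (Fin n) F} (hL : ∀ i j, i < j → L i j = 0) (hL1 : ∀ i, L i i = 1)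
    (hU : ∀ i j, j < i → U i j = 0) (hU1 : ∀ i, U i i = δ) :
    InProd (List.replicate n (c • (1 : Matrix (Fin n) (Fin n) F) + vecMulVec a b))
      (c ^ n • (L * U)) := by
  obtain ⟨y, hy, hyP, hyp⟩ := homProd_lu hn hδ hL hL1 hU hU1
  refine ⟨y.map fun r => c • r, ?_, by rw [prod_map_smul, hy, hyp]⟩
  have h := forall₂_replicate (R := Orb)
    (x := c • (1 : Matrix (Fin n) (Fin n) F) + vecMulVec a b) (y.map fun r => c • r) ?_
  · simpa [hy] using h
  intro r hr
  obtain ⟨s, hs, rfl⟩ := List.mem_map.1 hr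
  obtain ⟨a', b', ha', hb', hv, rfl⟩ := hyP s hs
  rw [smul_add, ← smul_vecMulVec]
  refine orb_smul_one_add (orb_outer (by simpa using hn) ha hb (smul_ne_zero hc ha') hb' ?_) c
  rw [dotProduct_smul, smul_eq_mul, hv]
  linear_combination -hδc

end CfsgLib.Lev.Special
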