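import Cfsg.Agent.Lib.Lev.IrredSmall

/-!
Covering number of `PSL n q` (Lev): two by two matrices of given determinant without double eigenvalue,
whose product with a fixed matrix has none either.
-/

set_option autoImplicit false
set_option linter.unusedVariables false

namespace CfsgLib.Lev

open Matrix Polynomial

variable {F : Type*} [Field F] [Fintype F]

/-- Every trace and mixed trace occur, with at most one exceptional mixed trace. -/
theorem exists_trace_general {A : Matrix (Fin 2) (Fin 2) F} (hA : ¬ IsScalarMat A) (d t : F) :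
    ∃ bad : F, ∀ v, v ≠ bad → ∃ G : Matrix (Fin 2) (Fin 2) F, G.det = d ∧ G.trace = t ∧ (G * A).trace = v := by
  by_cases he : NoEigen A
  · exact ⟨0, fun v _ => exists_trace he d t v⟩
  rw [noEigen_iff] at he
  push Not at he
  obtain ⟨r, hr⟩ := he
  rw [charpoly_fin_two] at hr
  simp at hr
  refine ⟨t * r, fun v hv => ?_⟩
  obtain ⟨p, hp⟩ : ∃ p : F, p * (r - (A.trace - r)) + (v - t * r) ≠ 0 :=
    ⟨0, by rw [zero_mul, zero_add]; exact sub_ne_zero.2 hv⟩
  obtain ⟨c, hc⟩ : ∃ c, c * (p * (r - (A.trace - r)) + (v - t * r)) = -(p * p - t * p + d) :=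
    ⟨_, div_mul_cancel₀ _ hp⟩
  obtain ⟨e, he⟩ : ∃ e, e = p + r * c := ⟨_, rfl⟩
  obtain ⟨P, hP, hPA⟩ := glConj_comp2 hA
  have hu : IsUnit P.det := isUnit_iff_ne_zero.2 hP
  set G0 : Matrix (Fin 2) (Fin 2) F := !![t - e, v + A.det * c - A.trace * e; c, e] with hG0
  have hconj : GLConj G0 (P * G0 * P⁻¹) := ⟨P, hP, by rw [mul_assoc, nonsing_inv_mul _ hu, mul_one]⟩
  have hconjA : GLConj (G0 * comp2 A.trace A.det) (P * G0 * P⁻¹ * A) := by
    refine ⟨P, hP, ?_⟩
    rw [mul_assoc (P * G0 * P⁻¹), ← hPA, ← mul_assoc (P * G0 * P⁻¹), mul_assoc (P * G0) P⁻¹,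
      nonsing_inv_mul _ hu, mul_one, mul_assoc]
  refine ⟨P * G0 * P⁻¹, ?_, ?_, ?_⟩
  · rw [hconj.det_eq, hG0, Matrix.det_fin_two_of, he]
    linear_combination -hc - c ^ 2 * hr
  · rw [hconj.trace_eq, hG0, Matrix.trace_fin_two]; simp
  · rw [hconjA.trace_eq]
    simp [hG0, comp2, Matrix.trace_fin_two, Matrix.mul_apply, Fin.sum_univ_two]; ring

/-- A matrix of given determinant avoiding a trace, a mixed trace, and double eigenvalues. -/
theorem exists_trace_avoid_double (hq : 4 ≤ Fintype.card F) {A : Matrix (Fin 2) (Fin 2) F}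
    (hA : ¬ IsScalarMat A) (hAd : A.det ≠ 0) {d : F} (hd : d ≠ 0) (f g : F) :
    ∃ G : Matrix (Fin 2) (Fin 2) F, ¬ IsScalarMat G ∧ G.det = d ∧ G.trace ≠ f ∧ G.trace ^ 2 ≠ 4 * d ∧
      (G * A).trace ≠ g ∧ (G * A).trace ^ 2 ≠ 4 * (d * A.det) ∧ ¬ IsScalarMat (G * A) := by
  classical
  have hroot : ∀ k : F, ∃ w : F, ∀ v : F, v ^ 2 = k → v = w ∨ v = -w := fun k => by
    by_cases hl : ∃ l : F, l ^ 2 = k
    · obtain ⟨l, hl⟩ := hl
      exact ⟨l, fun v hv => sq_eq_sq_iff_eq_or_eq_neg.1 (hv.trans hl.symm)⟩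
    · exact ⟨0, fun v hv => absurd ⟨v, hv⟩ hl⟩
  obtain ⟨s, hs⟩ := hroot (4 * d)
  obtain ⟨w, hw⟩ := hroot (4 * (d * A.det))
  obtain ⟨t, ht⟩ := exists_avoid ({f, s, -s} : Finset F) (lt_of_le_of_lt Finset.card_le_three (by omega))
  obtain ⟨bad, hbad⟩ := exists_trace_general hA d t
  obtain ⟨v, hv⟩ : ∃ v, v ∉ ({g, bad, w, -w} : Finset F) := by
    by_cases h4 : Fintype.card F = 4
    · have hneg : -w = w := by linear_combination -w * (four_facts h4).1
      refine exists_avoid _ ?_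
      rw [hneg, show ({g, bad, w, w} : Finset F) = {g, bad, w} by simp]
      exact lt_of_le_of_lt Finset.card_le_three (by omega)
    · exact exists_avoid _ (lt_of_le_of_lt Finset.card_le_four (by omega))
  simp only [Finset.mem_insert, Finset.mem_singleton, not_or] at ht hv
  obtain ⟨G, h1, h2, h3⟩ := hbad v hv.2.1
  have hsc : ∀ (M : Matrix (Fin 2) (Fin 2) F), M.trace ^ 2 ≠ 4 * M.det → ¬ IsScalarMat M := by
    rintro M hM ⟨c, rfl⟩
    exact hM (by simp [Matrix.det_fin_two, Matrix.trace_fin_two]; ring)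
  have hG : G.trace ^ 2 ≠ 4 * d := fun h => (hs t (h2 ▸ h)).elim ht.2.1 ht.2.2
  have hGA : (G * A).trace ^ 2 ≠ 4 * (d * A.det) := fun h => (hw v (h3 ▸ h)).elim hv.2.2.1 hv.2.2.2
  exact ⟨G, hsc G (by rw [h1]; exact hG), h1, by rw [h2]; exact ht.1, hG, by rw [h3]; exact hv.1, hGA,
    hsc _ (by rw [det_mul, h1]; exact hGA)⟩

end CfsgLib.Lev
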